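/-
Kreknin's theorem and the Higman-Kreknin-Kostrikin bound for graded Lie rings, stated with additive
subgroups of a fixed Lie ring `L`.

* `der_top_eq_bot`: a `ZMod n`-graded Lie ring with trivial zero component has derived length at most
  `2 ^ (n - 1) - 1` (Kreknin).
* `lcs_top_eq_bot`: a `ZMod p`-graded Lie ring with trivial zero component (`p` prime) has nilpotency class
  at most `∑ i < 2 ^ (p - 1) - 1, (p - 1) ^ i` (Higman, Kreknin-Kostrikin).
* `lcs_two_eq_bot`: for `p = 3` the class is at most `2`.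
-/
import Mathlib

set_option autoImplicit false
set_option linter.style.longLine false

namespace Cfsg.Agent.Lib.Coprime.Kreknin

variable {L : Type*} [LieRing L]

/-- The additive subgroup generated by brackets. -/
def brk (U V : AddSubgroup L) : AddSubgroup L :=
  AddSubgroup.closure {w | ∃ u ∈ U, ∃ v ∈ V, ⁅u, v⁆ = w}

theorem lie_mem_brk {U V : AddSubgroup L} {u v : L} (hu : u ∈ U) (hv : v ∈ V) : ⁅u, v⁆ ∈ brk U V :=
  AddSubgroup.subset_closure ⟨u, hu, v, hv, rfl⟩

theorem brk_le {U V W : AddSubgroup L} (h : ∀ u ∈ U, ∀ v ∈ V, ⁅u, v⁆ ∈ W) : brk U V ≤ W := by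
  rw [brk, AddSubgroup.closure_le]
  rintro _ ⟨u, hu, v, hv, rfl⟩
  exact h u hu v hv

theorem brk_mono {U U' V V' : AddSubgroup L} (h : U ≤ U') (h' : V ≤ V') : brk U V ≤ brk U' V' :=
  brk_le fun _ hu _ hv => lie_mem_brk (h hu) (h' hv)

/-- Closed under the bracket. -/
def IsSub (N : AddSubgroup L) : Prop := ∀ x ∈ N, ∀ y ∈ N, ⁅x, y⁆ ∈ N

/-- The derived series of `N`. -/
def der (N : AddSubgroup L) : ℕ → AddSubgroup L
  | 0 => N
  | k + 1 => brk (der N k) (der N k)

theorem der_add (N : AddSubgroup L) (a b : ℕ) : der (der N a) b = der N (a + b) := by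
  induction b with
  | zero => rfl
  | succ b ih =>
    show brk (der (der N a) b) (der (der N a) b) = brk (der N (a + b)) (der N (a + b))
    rw [ih]

theorem brk_le_self {N : AddSubgroup L} (hN : IsSub N) : brk N N ≤ N :=
  brk_le hN

theorem isSub_brk_self {N : AddSubgroup L} (hN : IsSub N) : IsSub (brk N N) :=
  fun x hx y hy => lie_mem_brk (brk_le_self hN hx) (brk_le_self hN hy)

theorem isSub_der {N : AddSubgroup L} (hN : IsSub N) (k : ℕ) : IsSub (der N k) := by
  induction k with
  | zero => exact hN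
  | succ k ih => exact isSub_brk_self ih

theorem der_le {N : AddSubgroup L} (hN : IsSub N) (k : ℕ) : der N k ≤ N := by
  induction k with
  | zero => exact le_rfl
  | succ k ih => exact (brk_le_self (isSub_der hN k)).trans ih

/-- The subring generated by a set. -/
def gen (S : Set L) : AddSubgroup L := sInf {T | S ⊆ T ∧ IsSub T}

theorem subset_gen (S : Set L) : S ⊆ gen S := by
  intro x hx
  refine SetLike.mem_coe.mpr (AddSubgroup.mem_sInf.mpr ?_)
  exact fun T hT => hT.1 hx

theorem gen_isSub (S : Set L) : IsSub (gen S) := by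
  intro x hx y hy
  rw [gen, AddSubgroup.mem_sInf] at hx hy ⊢
  exact fun T hT => hT.2 x (hx T hT) y (hy T hT)

theorem gen_le {S : Set L} {T : AddSubgroup L} (h : S ⊆ T) (hT : IsSub T) : gen S ≤ T := by
  intro x hx
  rw [gen, AddSubgroup.mem_sInf] at hx
  exact hx T ⟨h, hT⟩

section Graded

variable {n : ℕ} [NeZero n] (A : ZMod n → AddSubgroup L)

/-- A `ZMod n`-grading of `L` with trivial zero component. -/
structure Graded : Prop where
  mul : ∀ a b x y, x ∈ A a → y ∈ A b → ⁅x, y⁆ ∈ A (a + b)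
  zero : A 0 = ⊥
  indep : iSupIndep A
  top : ⨆ a, A a = ⊤

/-- Homogeneous additive subgroups. -/
def Homog (N : AddSubgroup L) : Prop := N ≤ ⨆ a, N ⊓ A a

variable {A}

theorem homog_brk (hA : Graded A) {U V : AddSubgroup L} (hU : Homog A U) (hV : Homog A V) :
    Homog A (brk U V) := by
  refine brk_le ?_
  intro u hu v hv
  refine AddSubgroup.iSup_induction (fun a => U ⊓ A a) (C := fun x => ⁅x, v⁆ ∈ ⨆ a, brk U V ⊓ A a)
    (hU hu) ?_ (by simp) ?_
  · intro a x hx
    have hxU : x ∈ U := hx.1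
    have hxa : x ∈ A a := hx.2
    refine AddSubgroup.iSup_induction (fun a => V ⊓ A a) (C := fun y => ⁅x, y⁆ ∈ ⨆ a, brk U V ⊓ A a)
      (hV hv) ?_ (by simp) ?_
    · intro b y hy
      have hyV : y ∈ V := hy.1
      have hyb : y ∈ A b := hy.2
      exact AddSubgroup.mem_iSup_of_mem (a + b) ⟨lie_mem_brk hxU hyV, hA.mul a b x y hxa hyb⟩
    · intro y z hy hz
      rw [lie_add]
      exact add_mem hy hz
  · intro x y hx hy
    rw [add_lie]
    exact add_mem hx hy

theorem homog_der (hA : Graded A) {N : AddSubgroup L} (hN : Homog A N) (k : ℕ) : Homog A (der N k) := by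
  induction k with
  | zero => exact hN
  | succ k ih => exact homog_brk hA ih ih

theorem homog_top (hA : Graded A) : Homog A (⊤ : AddSubgroup L) := by
  simp only [Homog, top_inf_eq, hA.top, le_refl]

variable (A) in
/-- The subring generated by the components of `N` of degree strictly between `k` and `n`. -/
def T (N : AddSubgroup L) (k : ℕ) : AddSubgroup L :=
  gen {x | x ∈ N ∧ ∃ s : ℕ, k < s ∧ s < n ∧ x ∈ A (s : ZMod n)}

variable (A) in
/-- Elements whose component of degree `k` lies in `T N k`. -/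
def U (N : AddSubgroup L) (k : ℕ) : AddSubgroup L :=
  (T A N k ⊓ A (k : ZMod n)) ⊔ ⨆ d : {d : ZMod n // d ≠ (k : ZMod n)}, A d

theorem T_le {N : AddSubgroup L} (hN : IsSub N) (k : ℕ) : T A N k ≤ N :=
  gen_le (fun _ hx => hx.1) hN

theorem mem_T_of_mem_U (hA : Graded A) {N : AddSubgroup L} {k : ℕ} {w : L} (hw : w ∈ U A N k)
    (hwk : w ∈ A (k : ZMod n)) : w ∈ T A N k := by
  obtain ⟨x, hx, y, hy, rfl⟩ := AddSubgroup.mem_sup.mp hw
  have hy' : y ∈ A (k : ZMod n) := by
    have := sub_mem hwk hx.2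
    simpa using this
  have hdisj := (hA.indep (k : ZMod n))
  have hy2 : y ∈ ⨆ j, ⨆ (_ : j ≠ (k : ZMod n)), A j := by
    rw [iSup_subtype'] 
    exact hy
  have hy0 : y = 0 := by
    have := (AddSubgroup.disjoint_def.mp hdisj) hy' hy2
    exact this
  rw [hy0, add_zero]
  exact hx.1

theorem lie_gen_mem_U (hA : Graded A) {N : AddSubgroup L} (hNh : Homog A N) {k : ℕ} {z x : L}
    (hz : z ∈ N) (hx : x ∈ N) {s : ℕ} (hks : k ≤ s) (hs : s < n) (hxs : x ∈ A (s : ZMod n)) :
    ⁅z, x⁆ ∈ U A N k := by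
  refine AddSubgroup.iSup_induction (fun a => N ⊓ A a) (C := fun z => ⁅z, x⁆ ∈ U A N k) (hNh hz) ?_
    (by simp) ?_
  · intro d y hy
    have hyN : y ∈ N := hy.1
    have hyd : y ∈ A d := hy.2
    have hmem : ⁅y, x⁆ ∈ A (d + (s : ZMod n)) := hA.mul _ _ _ _ hyd hxs
    by_cases hdk : d + (s : ZMod n) = (k : ZMod n)
    · -- the component of degree `k`
      refine AddSubgroup.mem_sup_left ⟨?_, hdk ▸ hmem⟩
      by_cases hsk : s = k
      · subst hsk
        have hd0 : d = 0 := by simpa using hdk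
        subst hd0
        rw [hA.zero, AddSubgroup.mem_bot] at hyd
        rw [hyd, zero_lie]
        exact zero_mem _
      · have hks' : k < s := lt_of_le_of_ne hks (Ne.symm hsk)
        have hdv : ((d.val : ℕ) : ZMod n) = d := ZMod.natCast_zmod_val d
        have hdlt : d.val < n := ZMod.val_lt d
        have hcong : ((d.val + s : ℕ) : ZMod n) = (k : ZMod n) := by
          push_cast
          rw [hdv]
          exact hdk
        have hdvd : n ∣ d.val + s - k := by
          have := (ZMod.natCast_eq_natCast_iff' _ _ _).mp hcong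
          exact (Nat.modEq_iff_dvd' (by omega)).mp (show k ≡ d.val + s [MOD n] from this.symm)
        have hpos : 0 < d.val + s - k := by omega
        have hle : d.val + s - k < 2 * n := by omega
        obtain ⟨c, hc⟩ := hdvd
        have hc1 : c = 1 := by
          have h1 : 0 < c := by
            rcases Nat.eq_zero_or_pos c with h | h
            · subst h; simp at hc; omega
            · exact h
          have h2 : c < 2 := by
            by_contra hcon
            have : 2 ≤ c := by omega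
            have : n * 2 ≤ n * c := Nat.mul_le_mul_left n this
            omega
          omega
        subst hc1
        have hdlow : k < d.val := by omega
        have hy1 : y ∈ A ((d.val : ℕ) : ZMod n) := by rw [hdv]; exact hyd
        apply gen_isSub
        · exact subset_gen _ ⟨hyN, d.val, hdlow, hdlt, hy1⟩
        · exact subset_gen _ ⟨hx, s, hks', hs, hxs⟩
    · refine AddSubgroup.mem_sup_right ?_
      exact AddSubgroup.mem_iSup_of_mem ⟨d + (s : ZMod n), hdk⟩ hmem
  · intro a b ha hb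
    rw [add_lie]
    exact add_mem ha hb

theorem lie_T_mem_U (hA : Graded A) {N : AddSubgroup L} (hNh : Homog A N) (hN : IsSub N) {k : ℕ}
    {z v : L} (hz : z ∈ N) (hv : v ∈ T A N k) : ⁅z, v⁆ ∈ U A N (k + 1) := by
  let Q : AddSubgroup L :=
    { carrier := {v | v ∈ N ∧ ∀ z ∈ N, ⁅z, v⁆ ∈ U A N (k + 1)}
      zero_mem' := ⟨zero_mem _, fun z _ => by rw [lie_zero]; exact zero_mem _⟩
      add_mem' := by
        rintro a b ⟨ha, ha'⟩ ⟨hb, hb'⟩
        refine ⟨add_mem ha hb, fun z hz => ?_⟩
        rw [lie_add]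
        exact add_mem (ha' z hz) (hb' z hz)
      neg_mem' := by
        rintro a ⟨ha, ha'⟩
        refine ⟨neg_mem ha, fun z hz => ?_⟩
        rw [lie_neg]
        exact neg_mem (ha' z hz) }
  have hQ : IsSub Q := by
    rintro a ⟨ha, ha'⟩ b ⟨hb, hb'⟩
    refine ⟨hN a ha b hb, fun z hz => ?_⟩
    rw [leibniz_lie z a b, ← lie_skew a ⁅z, b⁆]
    exact add_mem (hb' _ (hN z hz a ha)) (neg_mem (ha' _ (hN z hz b hb)))
  have hle : T A N k ≤ Q := by
    refine gen_le ?_ hQ
    rintro x ⟨hxN, s, hks, hsn, hxs⟩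
    exact ⟨hxN, fun z hz => lie_gen_mem_U hA hNh hz hxN (by omega) hsn hxs⟩
  exact (hle hv).2 z hz

/-- Kreknin's induction. -/
theorem der_le_T (hA : Graded A) (k : ℕ) (hk : k < n) :
    ∀ N : AddSubgroup L, Homog A N → IsSub N → der N (2 ^ k - 1) ≤ T A N k := by
  induction k with
  | zero =>
    intro N hNh _
    show N ≤ T A N 0
    intro x hx
    refine AddSubgroup.iSup_induction (fun a => N ⊓ A a) (C := fun x => x ∈ T A N 0) (hNh hx) ?_
      (zero_mem _) (fun _ _ => add_mem)
    intro d y hy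
    have hyN : y ∈ N := hy.1
    have hyd : y ∈ A d := hy.2
    by_cases hd : d = 0
    · subst hd
      rw [hA.zero] at hyd
      have : y = 0 := hyd
      rw [this]
      exact zero_mem _
    · apply subset_gen
      refine ⟨hyN, d.val, ?_, ZMod.val_lt d, ?_⟩
      · exact Nat.pos_of_ne_zero (by simpa using hd)
      · rw [ZMod.natCast_zmod_val]; exact hyd
  | succ k ih =>
    intro N hNh hN
    have hk' : k < n := by omega
    set M := der N (2 ^ k - 1) with hM
    have hMN : M ≤ N := der_le hN _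
    have hMT : M ≤ T A N k := ih hk' N hNh hN
    have hpow : 1 ≤ 2 ^ k := Nat.one_le_two_pow
    set N' := der N (2 ^ k) with hN'
    have hN'M : N' = brk M M := by
      rw [hN', hM]
      conv_lhs => rw [show 2 ^ k = (2 ^ k - 1) + 1 by omega]
      rfl
    have hN'h : Homog A N' := homog_der hA hNh _
    have hN's : IsSub N' := isSub_der hN _
    have hN'N : N' ≤ N := der_le hN _
    have hN'U : N' ≤ U A N (k + 1) := by
      rw [hN'M]
      refine brk_le fun u hu v hv => ?_
      exact lie_T_mem_U hA hNh hN (hMN hu) (hMT hv)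
    have hstep := ih hk' N' hN'h hN's
    have heq : der N' (2 ^ k - 1) = der N (2 ^ (k + 1) - 1) := by
      rw [hN', der_add]
      congr 1
      rw [pow_succ]
      omega
    rw [← heq]
    refine hstep.trans ?_
    refine gen_le ?_ (gen_isSub _)
    rintro x ⟨hxN', s, hks, hsn, hxs⟩
    by_cases hs : s = k + 1
    · subst hs
      exact mem_T_of_mem_U hA (hN'U hxN') hxs
    · apply subset_gen
      exact ⟨hN'N hxN', s, by omega, hsn, hxs⟩

/-- **Kreknin's theorem**: a `ZMod n`-graded Lie ring with trivial zero component is soluble of derived length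
at most `2 ^ (n - 1) - 1`. -/
theorem der_top_eq_bot (hA : Graded A) : der (⊤ : AddSubgroup L) (2 ^ (n - 1) - 1) = ⊥ := by
  have hn : n - 1 < n := Nat.sub_lt (Nat.pos_of_ne_zero (NeZero.ne n)) one_pos
  have h := der_le_T hA (n - 1) hn ⊤ (homog_top hA) (fun _ _ _ _ => trivial)
  refine le_bot_iff.mp (h.trans ?_)
  refine gen_le ?_ ?_
  · rintro x ⟨_, s, h1, h2, _⟩
    omega
  · intro x hx y hy
    have hx' : x = 0 := hx
    rw [hx', zero_lie]
    exact zero_mem _

end Graded

section Words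

/-- Left-normed words. -/
def word (v : L) : List L → L
  | [] => v
  | x :: xs => word ⁅v, x⁆ xs

theorem word_add (u v : L) (xs : List L) : word (u + v) xs = word u xs + word v xs := by
  induction xs generalizing u v with
  | nil => rfl
  | cons x xs ih =>
    show word ⁅u + v, x⁆ xs = word ⁅u, x⁆ xs + word ⁅v, x⁆ xs
    rw [add_lie, ih]

theorem word_zero (xs : List L) : word (0 : L) xs = 0 := by
  induction xs with
  | nil => rfl
  | cons x xs ih =>
    show word ⁅(0 : L), x⁆ xs = 0
    rw [zero_lie, ih]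

theorem word_neg (u : L) (xs : List L) : word (-u) xs = - word u xs := by
  induction xs generalizing u with
  | nil => rfl
  | cons x xs ih =>
    show word ⁅-u, x⁆ xs = - word ⁅u, x⁆ xs
    rw [neg_lie, ih]

theorem word_sub (u v : L) (xs : List L) : word (u - v) xs = word u xs - word v xs := by
  rw [sub_eq_add_neg, word_add, word_neg, sub_eq_add_neg]

variable {N C D : AddSubgroup L}

theorem word_mem_of_inv (hD : ∀ c ∈ D, ∀ x ∈ N, ⁅c, x⁆ ∈ D) (xs : List L) (hxs : ∀ x ∈ xs, x ∈ N)
    {d : L} (hd : d ∈ D) : word d xs ∈ D := by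
  induction xs generalizing d with
  | nil => exact hd
  | cons x xs ih =>
    exact ih (fun y hy => hxs y (List.mem_cons_of_mem _ hy))
      (hD d hd x (hxs x List.mem_cons_self))

theorem word_swap (hC : ∀ c ∈ C, ∀ x ∈ N, ⁅c, x⁆ ∈ C) (hD : ∀ c ∈ D, ∀ x ∈ N, ⁅c, x⁆ ∈ D)
    (hCD : ∀ c ∈ C, ∀ x ∈ N, ∀ y ∈ N, ⁅c, ⁅x, y⁆⁆ ∈ D) (xs : List L) (hxs : ∀ x ∈ xs, x ∈ N)
    {w x : L} (hw : w ∈ C) (hx : x ∈ N) : word ⁅w, x⁆ xs - ⁅word w xs, x⁆ ∈ D := by
  induction xs generalizing w with
  | nil =>
    show ⁅w, x⁆ - ⁅w, x⁆ ∈ D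
    rw [sub_self]
    exact zero_mem _
  | cons y ys ih =>
    have hys : ∀ z ∈ ys, z ∈ N := fun z hz => hxs z (List.mem_cons_of_mem _ hz)
    have hy : y ∈ N := hxs y List.mem_cons_self
    show word ⁅⁅w, x⁆, y⁆ ys - ⁅word ⁅w, y⁆ ys, x⁆ ∈ D
    have h1 := ih hys (hC w hw y hy)
    have h2 : ⁅⁅w, x⁆, y⁆ = ⁅w, ⁅x, y⁆⁆ + ⁅⁅w, y⁆, x⁆ := by
      rw [lie_lie, ← lie_skew x ⁅w, y⁆]
      abel
    rw [h2, word_add, add_sub_assoc]
    exact add_mem (word_mem_of_inv hD ys hys (hCD w hw x hx y hy)) h1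

end Words

theorem zmod_three_cases : ∀ a b c : ZMod 3, a = 0 ∨ b = 0 ∨ c = 0 ∨ a + b = 0 ∨ a + b + c = 0 ∨
    (a + c = 0 ∧ b + c = 0) := by decide

section Prime

open scoped Pointwise

variable {p : ℕ} [Fact p.Prime]

/-- Subset sums. -/
def subsums : List (ZMod p) → Finset (ZMod p)
  | [] => {0}
  | b :: bs => subsums bs + ({0, b} : Finset (ZMod p))

theorem subsums_nonempty (bs : List (ZMod p)) : (subsums bs).Nonempty := by
  induction bs with
  | nil => exact Finset.singleton_nonempty 0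
  | cons b bs ih => exact ih.add ⟨0, by simp⟩

theorem card_subsums (bs : List (ZMod p)) (hbs : ∀ b ∈ bs, b ≠ 0) :
    min p (bs.length + 1) ≤ (subsums bs).card := by
  induction bs with
  | nil => simp [subsums, Fact.out (p := p.Prime) |>.pos]
  | cons b bs ih =>
    have ih' := ih (fun c hc => hbs c (List.mem_cons_of_mem _ hc))
    have hb : b ≠ 0 := hbs b List.mem_cons_self
    have hcd := ZMod.cauchy_davenport (Fact.out : p.Prime) (subsums_nonempty bs)
      (t := ({0, b} : Finset (ZMod p))) ⟨0, by simp⟩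
    have hc2 : ({0, b} : Finset (ZMod p)).card = 2 := Finset.card_pair (Ne.symm hb)
    rw [hc2] at hcd
    show min p ((b :: bs).length + 1) ≤ (subsums bs + ({0, b} : Finset (ZMod p))).card
    refine le_trans ?_ hcd
    simp only [List.length_cons]
    omega

theorem subsums_eq_univ (bs : List (ZMod p)) (hbs : ∀ b ∈ bs, b ≠ 0) (hlen : p - 1 ≤ bs.length)
    (r : ZMod p) : r ∈ subsums bs := by
  have hp : 0 < p := (Fact.out : p.Prime).pos
  have h := card_subsums bs hbs
  have hc : (subsums bs).card = Fintype.card (ZMod p) := by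
    rw [ZMod.card]
    refine le_antisymm ?_ ?_
    · calc (subsums bs).card ≤ Fintype.card (ZMod p) := Finset.card_le_univ _
        _ = p := ZMod.card p
    · refine le_trans ?_ h
      omega
  have := (Finset.card_eq_iff_eq_univ _).mp hc
  rw [this]
  exact Finset.mem_univ r

variable {A : ZMod p → AddSubgroup L}

theorem word_mem_of_subsum (hA : Graded A) {N C D : AddSubgroup L}
    (hC : ∀ c ∈ C, ∀ x ∈ N, ⁅c, x⁆ ∈ C) (hD : ∀ c ∈ D, ∀ x ∈ N, ⁅c, x⁆ ∈ D)
    (hCD : ∀ c ∈ C, ∀ x ∈ N, ∀ y ∈ N, ⁅c, ⁅x, y⁆⁆ ∈ D)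
    (xs : List (ZMod p × L)) (hxs : ∀ q ∈ xs, q.2 ∈ N ∧ q.2 ∈ A q.1)
    {a : ZMod p} {v : L} (hv : v ∈ C) (hva : v ∈ A a) (h : -a ∈ subsums (xs.map Prod.fst)) :
    word v (xs.map Prod.snd) ∈ D := by
  induction xs generalizing a v with
  | nil =>
    have ha : a = 0 := by
      have : -a = 0 := by simpa [subsums] using h
      simpa using this
    subst ha
    rw [hA.zero] at hva
    have hv0 : v = 0 := hva
    rw [hv0]
    exact zero_mem _
  | cons q xs ih =>
    obtain ⟨b, x⟩ := q
    have hxs' : ∀ q ∈ xs, q.2 ∈ N ∧ q.2 ∈ A q.1 := fun q hq => hxs q (List.mem_cons_of_mem _ hq)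
    have hx : x ∈ N := (hxs (b, x) List.mem_cons_self).1
    have hxb : x ∈ A b := (hxs (b, x) List.mem_cons_self).2
    show word ⁅v, x⁆ (xs.map Prod.snd) ∈ D
    have hN' : ∀ y ∈ xs.map Prod.snd, y ∈ N := by
      intro y hy
      obtain ⟨q, hq, rfl⟩ := List.mem_map.mp hy
      exact (hxs' q hq).1
    have h' : -a ∈ subsums (xs.map Prod.fst) + ({0, b} : Finset (ZMod p)) := h
    obtain ⟨r, hr, e, he, hre⟩ := Finset.mem_add.mp h'
    rcases Finset.mem_insert.mp he with rfl | he
    · rw [add_zero] at hre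
      subst hre
      have h1 := ih hxs' hv hva hr
      have h2 := word_swap hC hD hCD (xs.map Prod.snd) hN' hv hx
      have h3 := hD _ h1 x hx
      have := add_mem h2 h3
      simpa using this
    · rw [Finset.mem_singleton] at he
      subst he
      have hr' : r = -(a + e) := by
        have : r = -a - e := eq_sub_of_add_eq hre
        rw [this]
        abel
      subst hr'
      exact ih hxs' (hC v hv x hx) (hA.mul _ _ _ _ hva hxb) hr

/-- Iterated brackets with `N`. -/
def iter (N C : AddSubgroup L) : ℕ → AddSubgroup L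
  | 0 => C
  | t + 1 => brk (iter N C t) N

theorem iter_mono {N C C' : AddSubgroup L} (h : C ≤ C') (t : ℕ) : iter N C t ≤ iter N C' t := by
  induction t with
  | zero => exact h
  | succ t ih => exact brk_mono ih le_rfl

theorem iter_add (N C : AddSubgroup L) (s t : ℕ) : iter N C (s + t) = iter N (iter N C s) t := by
  induction t with
  | zero => rfl
  | succ t ih =>
    show brk (iter N C (s + t)) N = brk (iter N (iter N C s) t) N
    rw [ih]

theorem word_iter_mem (hA : Graded A) {N C D : AddSubgroup L} (hNh : Homog A N) (hCh : Homog A C)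
    (hC : ∀ c ∈ C, ∀ x ∈ N, ⁅c, x⁆ ∈ C) (hD : ∀ c ∈ D, ∀ x ∈ N, ⁅c, x⁆ ∈ D)
    (hCD : ∀ c ∈ C, ∀ x ∈ N, ∀ y ∈ N, ⁅c, ⁅x, y⁆⁆ ∈ D) (t : ℕ)
    (ys : List (ZMod p × L)) (hys : ∀ q ∈ ys, q.2 ∈ N ∧ q.2 ∈ A q.1 ∧ q.1 ≠ 0)
    (hlen : t + ys.length = p - 1) {w : L} (hw : w ∈ iter N C t) :
    word w (ys.map Prod.snd) ∈ D := by
  induction t generalizing ys w with
  | zero =>
    refine AddSubgroup.iSup_induction (fun a => C ⊓ A a) (C := fun w => word w (ys.map Prod.snd) ∈ D)
      (hCh hw) ?_ ?_ ?_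
    · intro a v hv
      refine word_mem_of_subsum hA hC hD hCD ys (fun q hq => ⟨(hys q hq).1, (hys q hq).2.1⟩) hv.1 hv.2 ?_
      refine subsums_eq_univ _ ?_ ?_ _
      · intro b hb
        obtain ⟨q, hq, rfl⟩ := List.mem_map.mp hb
        exact (hys q hq).2.2
      · simp only [List.length_map]
        omega
    · rw [word_zero]
      exact zero_mem _
    · intro x y hx hy
      rw [word_add]
      exact add_mem hx hy
  | succ t ih =>
    have hgen : ∀ u ∈ iter N C t, ∀ x ∈ N, word ⁅u, x⁆ (ys.map Prod.snd) ∈ D := by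
      intro u hu x hx
      refine AddSubgroup.iSup_induction (fun a => N ⊓ A a)
        (C := fun x => word ⁅u, x⁆ (ys.map Prod.snd) ∈ D) (hNh hx) ?_ ?_ ?_
      · intro b y hy
        by_cases hb : b = 0
        · subst hb
          have hy0 : y ∈ A 0 := hy.2
          rw [hA.zero] at hy0
          have : y = 0 := hy0
          rw [this, lie_zero, word_zero]
          exact zero_mem _
        · have := ih ((b, y) :: ys) ?_ ?_ hu
          · exact this
          · intro q hq
            rcases List.mem_cons.mp hq with rfl | hq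
            · exact ⟨hy.1, hy.2, hb⟩
            · exact hys q hq
          · simp only [List.length_cons]
            omega
      · rw [lie_zero, word_zero]
        exact zero_mem _
      · intro x y hx hy
        rw [lie_add, word_add]
        exact add_mem hx hy
    refine AddSubgroup.closure_induction (p := fun w _ => word w (ys.map Prod.snd) ∈ D) ?_ ?_ ?_ ?_ hw
    · rintro _ ⟨u, hu, x, hx, rfl⟩
      exact hgen u hu x hx
    · rw [word_zero]
      exact zero_mem _
    · intro x y _ _ hx hy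
      rw [word_add]
      exact add_mem hx hy
    · intro x _ hx
      rw [word_neg]
      exact neg_mem hx

theorem iter_le (hA : Graded A) {N C D : AddSubgroup L} (hNh : Homog A N) (hCh : Homog A C)
    (hC : ∀ c ∈ C, ∀ x ∈ N, ⁅c, x⁆ ∈ C) (hD : ∀ c ∈ D, ∀ x ∈ N, ⁅c, x⁆ ∈ D)
    (hCD : ∀ c ∈ C, ∀ x ∈ N, ∀ y ∈ N, ⁅c, ⁅x, y⁆⁆ ∈ D) : iter N C (p - 1) ≤ D := by
  intro w hw
  exact word_iter_mem hA hNh hCh hC hD hCD (p - 1) [] (by simp) (by simp) hw

/-- The lower central series of `N`. -/
abbrev lcs (N : AddSubgroup L) : ℕ → AddSubgroup L := iter N N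

theorem lcs_inv {N : AddSubgroup L} (hN : IsSub N) (j : ℕ) :
    ∀ c ∈ lcs (brk N N) j, ∀ x ∈ N, ⁅c, x⁆ ∈ lcs (brk N N) j := by
  induction j with
  | zero =>
    intro c hc x hx
    exact lie_mem_brk (brk_le_self hN hc) hx
  | succ j ih =>
    intro c hc x hx
    refine AddSubgroup.closure_induction
      (p := fun c _ => ⁅c, x⁆ ∈ lcs (brk N N) (j + 1)) ?_ ?_ ?_ ?_ hc
    · rintro _ ⟨u, hu, y, hy, rfl⟩
      have h1 : ⁅⁅u, y⁆, x⁆ = ⁅u, ⁅y, x⁆⁆ + ⁅⁅u, x⁆, y⁆ := by
        rw [lie_lie, ← lie_skew y ⁅u, x⁆]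
        abel
      rw [h1]
      exact add_mem (lie_mem_brk hu (lie_mem_brk (brk_le_self hN hy) hx))
        (lie_mem_brk (ih u hu x hx) hy)
    · rw [zero_lie]
      exact zero_mem _
    · intro a b _ _ ha hb
      rw [add_lie]
      exact add_mem ha hb
    · intro a _ ha
      rw [neg_lie]
      exact neg_mem ha

theorem homog_lcs (hA : Graded A) {N : AddSubgroup L} (hN : Homog A N) (j : ℕ) :
    Homog A (lcs N j) := by
  induction j with
  | zero => exact hN
  | succ j ih => exact homog_brk hA ih hN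

theorem lcs_step (hA : Graded A) {N : AddSubgroup L} (hNh : Homog A N) (hN : IsSub N) (j : ℕ) :
    lcs N (1 + (p - 1) * j) ≤ lcs (brk N N) j := by
  have hN'h : Homog A (brk N N) := homog_brk hA hNh hNh
  induction j with
  | zero => exact le_of_eq (by simp [lcs, iter])
  | succ j ih =>
    have heq : 1 + (p - 1) * (j + 1) = (1 + (p - 1) * j) + (p - 1) := by ring
    rw [heq]
    show iter N N ((1 + (p - 1) * j) + (p - 1)) ≤ _
    rw [iter_add]
    refine (iter_mono ih _).trans ?_
    refine iter_le hA hNh (homog_lcs hA hN'h j) (lcs_inv hN j) (lcs_inv hN (j + 1)) ?_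
    intro c hc x hx y hy
    exact lie_mem_brk hc (lie_mem_brk hx hy)

/-- A soluble `ZMod p`-graded Lie ring with trivial zero component is nilpotent, with the bound of Higman. -/
theorem lcs_eq_bot_of_der (hA : Graded A) (d : ℕ) : ∀ N : AddSubgroup L, Homog A N → IsSub N →
    der N d = ⊥ → lcs N (∑ i ∈ Finset.range d, (p - 1) ^ i) = ⊥ := by
  induction d with
  | zero =>
    intro N _ _ h
    simpa [lcs, iter, der] using h
  | succ d ih =>
    intro N hNh hN h
    have hN'h : Homog A (brk N N) := homog_brk hA hNh hNh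
    have hder : der (brk N N) d = ⊥ := by
      have := der_add N 1 d
      rw [add_comm] at this
      rw [← h]
      exact this
    have h1 := ih (brk N N) hN'h (isSub_brk_self hN) hder
    have h2 := lcs_step hA hNh hN (∑ i ∈ Finset.range d, (p - 1) ^ i)
    rw [h1] at h2
    have heq : ∑ i ∈ Finset.range (d + 1), (p - 1) ^ i
        = 1 + (p - 1) * ∑ i ∈ Finset.range d, (p - 1) ^ i := by
      rw [Finset.sum_range_succ', Finset.mul_sum, add_comm]
      simp [pow_succ, mul_comm]
    rw [heq]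
    exact le_bot_iff.mp h2

/-- **Higman, Kreknin-Kostrikin**: a `ZMod p`-graded Lie ring with trivial zero component is nilpotent of class
at most `∑ i < 2 ^ (p - 1) - 1, (p - 1) ^ i`. -/
theorem lcs_top_eq_bot (hA : Graded A) :
    lcs (⊤ : AddSubgroup L) (∑ i ∈ Finset.range (2 ^ (p - 1) - 1), (p - 1) ^ i) = ⊥ :=
  lcs_eq_bot_of_der hA _ ⊤ (homog_top hA) (fun _ _ _ _ => trivial) (der_top_eq_bot hA)

/-- For `p = 3` the class is at most two. -/
theorem lcs_two_eq_bot {A : ZMod 3 → AddSubgroup L} [Fact (Nat.Prime 3)] (hA : Graded A) :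
    lcs (⊤ : AddSubgroup L) 2 = ⊥ := by
  have hzero : ∀ x ∈ A 0, x = 0 := by
    intro x hx
    rw [hA.zero] at hx
    exact hx
  have hcases := zmod_three_cases
  have hhom : ∀ a b c x y z, x ∈ A a → y ∈ A b → z ∈ A c → ⁅⁅x, y⁆, z⁆ = 0 := by
    intro a b c x y z hx hy hz
    rcases hcases a b c with h | h | h | h | h | ⟨h1, h2⟩
    · subst h; rw [hzero x hx]; simp
    · subst h; rw [hzero y hy]; simp
    · subst h; rw [hzero z hz]; simp
    · have h0 := hA.mul _ _ _ _ hx hy
      rw [h] at h0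
      rw [hzero _ h0, zero_lie]
    · have h0 := hA.mul _ _ _ _ (hA.mul _ _ _ _ hx hy) hz
      rw [h] at h0
      exact hzero _ h0
    · have h3 := hA.mul _ _ _ _ hx hz
      have h4 := hA.mul _ _ _ _ hy hz
      rw [h1] at h3
      rw [h2] at h4
      rw [lie_lie, hzero _ h3, hzero _ h4]
      simp
  have htop : ∀ x : L, x ∈ ⨆ a, A a := fun x => by rw [hA.top]; trivial
  have hall : ∀ x y z : L, ⁅⁅x, y⁆, z⁆ = 0 := by
    intro x y z
    refine AddSubgroup.iSup_induction A (C := fun x => ⁅⁅x, y⁆, z⁆ = 0) (htop x) ?_ (by simp) ?_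
    · intro a x hx
      refine AddSubgroup.iSup_induction A (C := fun y => ⁅⁅x, y⁆, z⁆ = 0) (htop y) ?_ (by simp) ?_
      · intro b y hy
        refine AddSubgroup.iSup_induction A (C := fun z => ⁅⁅x, y⁆, z⁆ = 0) (htop z) ?_ (by simp) ?_
        · intro c z hz
          exact hhom a b c x y z hx hy hz
        · intro u v hu hv
          rw [lie_add, hu, hv, add_zero]
      · intro u v hu hv
        rw [lie_add, add_lie, hu, hv, add_zero]
    · intro u v hu hv
      rw [add_lie, add_lie, hu, hv, add_zero]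
  refine le_bot_iff.mp (brk_le ?_)
  intro u hu z _
  refine AddSubgroup.closure_induction (p := fun u _ => ⁅u, z⁆ ∈ (⊥ : AddSubgroup L)) ?_ ?_ ?_ ?_ hu
  · rintro _ ⟨x, _, y, _, rfl⟩
    rw [hall x y z]
    exact zero_mem _
  · rw [zero_lie]
    exact zero_mem _
  · intro a b _ _ ha hb
    rw [add_lie]
    exact add_mem ha hb
  · intro a _ ha
    rw [neg_lie]
    exact neg_mem ha

end Prime

end Cfsg.Agent.Lib.Coprime.Kreknin
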