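/-
A Lie ring with a fixed point free additive automorphism `τ` of prime order `p` (and `p` invertible) becomes
`ZMod p`-graded with trivial zero component after extending scalars to `ℤ[ζ_p]`.  Hence the Higman-Kreknin-Kostrikin
bound holds for such Lie rings.
-/
import Mathlib
import Cfsg.Agent.Lib.Coprime.Kreknin

set_option autoImplicit false
set_option linter.style.longLine false

namespace Cfsg.Agent.Lib.Coprime.HKK

open Polynomial TensorProduct
open Cfsg.Agent.Lib.Coprime.Kreknin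

section Root

variable (p : ℕ) [Fact p.Prime]

/-- `ℤ[ζ_p]`. -/
abbrev Rp : Type := AdjoinRoot (cyclotomic p ℤ)

/-- `ζ_p`. -/
noncomputable def zeta : Rp p := AdjoinRoot.root _

theorem sum_zeta : ∑ i ∈ Finset.range p, zeta p ^ i = 0 := by
  have h := AdjoinRoot.eval₂_root (cyclotomic p ℤ)
  have key : ∀ g : ℤ[X], g = ∑ i ∈ Finset.range p, X ^ i →
      g.eval₂ (AdjoinRoot.of (cyclotomic p ℤ)) (AdjoinRoot.root (cyclotomic p ℤ))
        = ∑ i ∈ Finset.range p, zeta p ^ i := by
    intro g hg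
    rw [hg, eval₂_finsetSum]
    simp [eval₂_pow, eval₂_X, zeta]
  rw [← key _ (cyclotomic_prime ℤ p)]
  exact h

theorem zeta_pow : zeta p ^ p = 1 := by
  have h := geom_sum_mul (zeta p) p
  rw [sum_zeta, zero_mul] at h
  exact (sub_eq_zero.mp h.symm)

variable {p}

/-- The additive character `a ↦ ζ ^ a`. -/
noncomputable def chi (a : ZMod p) : Rp p := zeta p ^ a.val

theorem chi_zero : chi (0 : ZMod p) = 1 := by
  simp [chi]

theorem chi_add (a b : ZMod p) : chi (a + b) = chi a * chi b := by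
  unfold chi
  rw [← pow_add, ZMod.val_add, pow_eq_pow_mod (a.val + b.val) (zeta_pow p)]

theorem chi_natCast (n : ℕ) : chi (n : ZMod p) = zeta p ^ n := by
  unfold chi
  rw [ZMod.val_natCast, pow_eq_pow_mod n (zeta_pow p)]

theorem chi_pow (a : ZMod p) (n : ℕ) : chi a ^ n = chi ((n : ZMod p) * a) := by
  induction n with
  | zero => simp [chi_zero]
  | succ n ih =>
    rw [pow_succ, ih, ← chi_add]
    congr 1
    push_cast
    ring

theorem sum_chi : ∑ a : ZMod p, chi a = 0 := by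
  rw [← sum_zeta p]
  refine Finset.sum_bij' (fun a _ => a.val) (fun n _ => (n : ZMod p)) ?_ ?_ ?_ ?_ ?_
  · intro a _
    exact Finset.mem_range.mpr (ZMod.val_lt a)
  · intro _ _
    exact Finset.mem_univ _
  · intro a _
    exact ZMod.natCast_zmod_val a
  · intro n hn
    exact ZMod.val_natCast_of_lt (Finset.mem_range.mp hn)
  · intro a _
    rfl

/-- Orthogonality. -/
theorem sum_chi_mul (j : ZMod p) : ∑ a : ZMod p, chi (a * j) = if j = 0 then (p : Rp p) else 0 := by
  split_ifs with h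
  · subst h
    simp [chi_zero, ZMod.card]
  · rw [← sum_chi (p := p)]
    exact Equiv.sum_comp (Equiv.mulRight₀ j h) (fun a => chi a)

end Root

section Extension

variable {L : Type*} [LieRing L] {p : ℕ} [Fact p.Prime]

/-- Extension of scalars of an additive map. -/
noncomputable def ext (τ : L →+ L) : (Rp p ⊗[ℤ] L) →ₗ[Rp p] (Rp p ⊗[ℤ] L) :=
  LinearMap.baseChange (Rp p) τ.toIntLinearMap

theorem ext_tmul (τ : L →+ L) (r : Rp p) (v : L) : ext τ (r ⊗ₜ[ℤ] v) = r ⊗ₜ[ℤ] τ v := by
  simp [ext]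

theorem ext_lie (τ : L →+ L) (hlie : ∀ a b, τ ⁅a, b⁆ = ⁅τ a, τ b⁆) (x y : Rp p ⊗[ℤ] L) :
    ext τ ⁅x, y⁆ = ⁅ext τ x, ext τ y⁆ := by
  have add_lie' : ∀ a b c : Rp p ⊗[ℤ] L, ⁅a + b, c⁆ = ⁅a, c⁆ + ⁅b, c⁆ := fun a b c => add_lie a b c
  have lie_add' : ∀ a b c : Rp p ⊗[ℤ] L, ⁅a, b + c⁆ = ⁅a, b⁆ + ⁅a, c⁆ := fun a b c => lie_add a b c
  have zero_lie' : ∀ a : Rp p ⊗[ℤ] L, ⁅(0 : Rp p ⊗[ℤ] L), a⁆ = 0 := fun a => zero_lie a
  have lie_zero' : ∀ a : Rp p ⊗[ℤ] L, ⁅a, (0 : Rp p ⊗[ℤ] L)⁆ = 0 := fun a => lie_zero a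
  induction x using TensorProduct.induction_on with
  | zero => simp [zero_lie']
  | add a b ha hb => simp only [add_lie', map_add, ha, hb]
  | tmul r v =>
    induction y using TensorProduct.induction_on with
    | zero => simp [lie_zero']
    | add a b ha hb => simp only [lie_add', map_add, ha, hb]
    | tmul s w =>
      rw [LieAlgebra.ExtendScalars.bracket_tmul, ext_tmul, ext_tmul, ext_tmul,
        LieAlgebra.ExtendScalars.bracket_tmul, hlie]

theorem ext_pow (τ : L →+ L) (k : ℕ) (r : Rp p) (v : L) :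
    ((ext τ) ^ k) (r ⊗ₜ[ℤ] v) = r ⊗ₜ[ℤ] (τ^[k] v) := by
  induction k generalizing v with
  | zero => rfl
  | succ k ih =>
    rw [pow_succ, Module.End.mul_apply, ext_tmul, ih, Function.iterate_succ_apply]

theorem ext_pow_p (τ : L →+ L) (hp : ∀ v, τ^[p] v = v) : (ext τ : (Rp p ⊗[ℤ] L) →ₗ[Rp p] (Rp p ⊗[ℤ] L)) ^ p = 1 := by
  ext v
  simp [ext_pow, hp]

/-- Monic `cyclotomic`. -/
theorem monic_cyc : (cyclotomic p ℤ).Monic := cyclotomic.monic p ℤ

/-- The standard basis. -/
noncomputable def bas : Module.Basis (Fin (AdjoinRoot.powerBasis' (monic_cyc (p := p))).dim) ℤ (Rp p) :=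
  (AdjoinRoot.powerBasis' (monic_cyc (p := p))).basis

theorem coord_ext (τ : L →+ L) (x : Rp p ⊗[ℤ] L) (i) :
    TensorProduct.equivFinsuppOfBasisLeft (bas (p := p)) (ext τ x) i
      = τ (TensorProduct.equivFinsuppOfBasisLeft (bas (p := p)) x i) := by
  induction x using TensorProduct.induction_on with
  | zero => simp
  | add a b ha hb =>
    simp only [map_add, Finsupp.add_apply, ha, hb]
  | tmul r v =>
    rw [ext_tmul, TensorProduct.equivFinsuppOfBasisLeft_apply_tmul_apply,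
      TensorProduct.equivFinsuppOfBasisLeft_apply_tmul_apply, map_zsmul]

theorem ext_fixed (τ : L →+ L) (hfix : ∀ v, τ v = v → v = 0) (x : Rp p ⊗[ℤ] L) (hx : ext τ x = x) :
    x = 0 := by
  apply (TensorProduct.equivFinsuppOfBasisLeft (bas (p := p))).injective
  rw [map_zero]
  ext i
  apply hfix
  rw [← coord_ext, hx]

theorem dim_pos : 0 < (AdjoinRoot.powerBasis' (monic_cyc (p := p))).dim := by
  rw [AdjoinRoot.powerBasis'_dim, natDegree_cyclotomic]
  exact Nat.totient_pos.mpr (Fact.out : p.Prime).pos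

/-- The embedding of `L` in its extension. -/
noncomputable def emb (v : L) : Rp p ⊗[ℤ] L := (1 : Rp p) ⊗ₜ[ℤ] v

theorem emb_injective (v : L) (h : emb (p := p) v = 0) : v = 0 := by
  have h1 := congrArg (fun x => TensorProduct.equivFinsuppOfBasisLeft (bas (p := p)) x ⟨0, dim_pos⟩) h
  simp only [emb, map_zero, Finsupp.zero_apply] at h1
  rw [TensorProduct.equivFinsuppOfBasisLeft_apply_tmul_apply] at h1
  have h2 : (bas (p := p)).repr 1 ⟨0, dim_pos⟩ = 1 := by
    have : (1 : Rp p) = bas (p := p) ⟨0, dim_pos⟩ := by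
      simp [bas, PowerBasis.coe_basis]
    rw [this, Module.Basis.repr_self]
    simp
  rwa [h2, one_smul] at h1

end Extension

section Eigen

variable {M : Type*} [LieRing M] {p : ℕ} [Fact p.Prime] [LieAlgebra (Rp p) M]
variable (T : M →ₗ[Rp p] M)

/-- The eigenspaces of `T`. -/
def eig (a : ZMod p) : AddSubgroup M where
  carrier := {x | T x = chi a • x}
  zero_mem' := by simp
  add_mem' := by
    intro x y hx hy
    simp only [Set.mem_ofPred_eq] at hx hy ⊢
    rw [map_add, hx, hy, smul_add]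
  neg_mem' := by
    intro x hx
    simp only [Set.mem_ofPred_eq] at hx ⊢
    rw [map_neg, hx, smul_neg]

theorem mem_eig {a : ZMod p} {x : M} : x ∈ eig T a ↔ T x = chi a • x := Iff.rfl

/-- Powers of `T` indexed by `ZMod p`. -/
noncomputable def Tz (j : ZMod p) : Module.End (Rp p) M := T ^ j.val

variable {T}

theorem Tz_natCast (hTp : T ^ p = 1) (n : ℕ) : Tz T (n : ZMod p) = T ^ n := by
  unfold Tz
  rw [ZMod.val_natCast, pow_eq_pow_mod n hTp]

theorem Tz_succ (hTp : T ^ p = 1) (j : ZMod p) (x : M) : T (Tz T j x) = Tz T (j + 1) x := by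
  have h1 : j + 1 = ((j.val + 1 : ℕ) : ZMod p) := by
    push_cast
    rw [ZMod.natCast_zmod_val]
  rw [h1, Tz_natCast hTp, pow_succ']
  rfl

theorem Tz_zero (x : M) : Tz T (0 : ZMod p) x = x := by
  simp [Tz]

theorem pow_apply_of_mem_eig {a : ZMod p} {x : M} (hx : x ∈ eig T a) (n : ℕ) :
    (T ^ n) x = chi a ^ n • x := by
  induction n with
  | zero => simp
  | succ n ih =>
    rw [pow_succ, Module.End.mul_apply, (mem_eig T).mp hx, map_smul, ih, pow_succ, smul_smul]
    ring_nf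

theorem Tz_of_mem_eig {a : ZMod p} {x : M} (hx : x ∈ eig T a) (j : ZMod p) :
    Tz T j x = chi (j * a) • x := by
  unfold Tz
  rw [pow_apply_of_mem_eig hx, chi_pow, ZMod.natCast_zmod_val]

variable (T) in
/-- The projection on an eigenspace. -/
noncomputable def proj (u : ℤ) (a : ZMod p) (x : M) : M :=
  u • ∑ j : ZMod p, chi (-a * j) • Tz T j x

theorem proj_zero (u : ℤ) (a : ZMod p) : proj T u a (0 : M) = 0 := by
  simp [proj]

theorem proj_add (u : ℤ) (a : ZMod p) (x y : M) : proj T u a (x + y) = proj T u a x + proj T u a y := by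
  simp only [proj, map_add, smul_add, Finset.sum_add_distrib]

theorem proj_eig (hTp : T ^ p = 1) (u : ℤ) (a : ZMod p) (x : M) : proj T u a x ∈ eig T a := by
  rw [mem_eig]
  unfold proj
  have step1 : T (∑ j : ZMod p, chi (-a * j) • Tz T j x) = ∑ j : ZMod p, chi (-a * j) • Tz T (j + 1) x := by
    rw [map_sum]
    simp only [map_smul, Tz_succ hTp]
  have step2 : chi a • ∑ j : ZMod p, chi (-a * j) • Tz T j x = ∑ j : ZMod p, chi (-a * j) • Tz T (j + 1) x := by
    rw [Finset.smul_sum, ← Equiv.sum_comp (Equiv.addRight (1 : ZMod p)) (fun j => chi a • chi (-a * j) • Tz T j x)]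
    refine Finset.sum_congr rfl fun j _ => ?_
    simp only [Equiv.coe_addRight]
    rw [smul_smul, ← chi_add]
    congr 2
    ring
  rw [map_zsmul, step1, smul_comm (chi a) u, step2]

theorem sum_proj (u : ℤ) (x : M) : ∑ a : ZMod p, proj T u a x = (u * p) • x := by
  unfold proj
  rw [← Finset.smul_sum, Finset.sum_comm]
  have h : ∀ j : ZMod p, ∑ a : ZMod p, chi (-a * j) • Tz T j x = (if j = 0 then (p : Rp p) else 0) • Tz T j x := by
    intro j
    rw [← Finset.sum_smul]
    congr 1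
    by_cases hj : j = 0
    · subst hj
      simp [chi_zero, ZMod.card]
    · rw [if_neg hj, ← sum_chi_mul (p := p) (-j) |>.trans (if_neg (by simpa using hj))]
      refine Finset.sum_congr rfl fun a _ => ?_
      congr 1
      ring
  simp only [h, ite_smul, zero_smul]
  rw [Finset.sum_ite_eq' Finset.univ (0 : ZMod p)]
  simp only [Finset.mem_univ, if_true, Tz_zero]
  rw [Nat.cast_smul_eq_nsmul, mul_smul, natCast_zsmul]

theorem proj_of_mem_eig (u : ℤ) {a b : ZMod p} {x : M} (hx : x ∈ eig T b) :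
    proj T u a x = if a = b then (u * p) • x else 0 := by
  unfold proj
  have h : ∀ j : ZMod p, chi (-a * j) • Tz T j x = chi (j * (b - a)) • x := by
    intro j
    rw [Tz_of_mem_eig hx, smul_smul, ← chi_add]
    congr 2
    ring
  simp only [h]
  rw [← Finset.sum_smul, sum_chi_mul]
  by_cases hab : a = b
  · subst hab
    simp only [sub_self, if_true]
    rw [Nat.cast_smul_eq_nsmul, mul_smul, natCast_zsmul]
  · rw [if_neg (sub_ne_zero.mpr (Ne.symm hab)), if_neg hab, zero_smul, smul_zero]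

/-- The eigenspaces of a Lie automorphism without fixed points form a grading. -/
theorem graded_eig (hTlie : ∀ x y, T ⁅x, y⁆ = ⁅T x, T y⁆) (hTp : T ^ p = 1)
    (hT1 : ∀ x, T x = x → x = 0) (u : ℤ) (hu : ∀ x : M, (u * p) • x = x) : Graded (eig T) where
  mul := by
    intro a b x y hx hy
    rw [mem_eig] at hx hy ⊢
    rw [hTlie, hx, hy, smul_lie, lie_smul, smul_smul, chi_add]
  zero := by
    rw [eq_bot_iff]
    intro x hx
    rw [mem_eig, chi_zero, one_smul] at hx
    exact hT1 x hx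
  indep := by
    intro a
    rw [AddSubgroup.disjoint_def]
    intro x hx hx'
    have h1 : proj T u a x = x := by
      rw [proj_of_mem_eig u hx, if_pos rfl, hu]
    have h2 : proj T u a x = 0 := by
      rw [iSup_subtype'] at hx'
      refine AddSubgroup.iSup_induction _ (C := fun y => proj T u a y = 0) hx' ?_ (proj_zero u a) ?_
      · rintro ⟨b, hb⟩ y hy
        rw [proj_of_mem_eig u hy, if_neg (Ne.symm hb)]
      · intro y z hy hz
        rw [proj_add, hy, hz, add_zero]
    rw [← h1, h2]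
  top := by
    rw [eq_top_iff]
    intro x _
    rw [← hu x, ← sum_proj]
    exact sum_mem fun a _ => AddSubgroup.mem_iSup_of_mem a (proj_eig hTp u a x)

end Eigen

section Main

variable {L : Type*} [LieRing L] {p : ℕ} [Fact p.Prime]

theorem emb_lie (a b : L) : emb (p := p) ⁅a, b⁆ = ⁅emb (p := p) a, emb (p := p) b⁆ := by
  unfold emb
  rw [LieAlgebra.ExtendScalars.bracket_tmul, one_mul]

theorem emb_add (a b : L) : emb (p := p) (a + b) = emb (p := p) a + emb (p := p) b := by
  unfold emb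
  rw [TensorProduct.tmul_add]

theorem emb_zero : emb (p := p) (0 : L) = 0 := by
  unfold emb
  rw [TensorProduct.tmul_zero]

theorem emb_neg (a : L) : emb (p := p) (-a) = - emb (p := p) a := by
  unfold emb
  rw [TensorProduct.tmul_neg]

theorem emb_mem_lcs (k : ℕ) (v : L) (hv : v ∈ lcs (⊤ : AddSubgroup L) k) :
    emb (p := p) v ∈ lcs (⊤ : AddSubgroup (Rp p ⊗[ℤ] L)) k := by
  induction k generalizing v with
  | zero => trivial
  | succ k ih =>
    refine AddSubgroup.closure_induction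
      (p := fun v _ => emb (p := p) v ∈ lcs (⊤ : AddSubgroup (Rp p ⊗[ℤ] L)) (k + 1)) ?_ ?_ ?_ ?_ hv
    · rintro _ ⟨a, ha, b, _, rfl⟩
      rw [emb_lie]
      exact lie_mem_brk (ih a ha) trivial
    · rw [emb_zero]
      exact zero_mem _
    · intro a b _ _ ha hb
      rw [emb_add]
      exact add_mem ha hb
    · intro a _ ha
      rw [emb_neg]
      exact neg_mem ha

theorem eq_bot_of_lcs_ext {k : ℕ} (h : lcs (⊤ : AddSubgroup (Rp p ⊗[ℤ] L)) k = ⊥) :
    lcs (⊤ : AddSubgroup L) k = ⊥ := by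
  rw [eq_bot_iff]
  intro v hv
  have h1 := emb_mem_lcs (p := p) k v hv
  rw [h] at h1
  exact emb_injective v h1

/-- The hypotheses give a grading of the extension of scalars. -/
theorem graded_ext (τ : L →+ L) (hlie : ∀ a b, τ ⁅a, b⁆ = ⁅τ a, τ b⁆) (hp : ∀ v, τ^[p] v = v)
    (hfix : ∀ v, τ v = v → v = 0) (N : ℕ) (hN : N.Coprime p) (hann : ∀ v : L, N • v = 0) :
    Graded (eig (ext τ : (Rp p ⊗[ℤ] L) →ₗ[Rp p] (Rp p ⊗[ℤ] L))) := by
  have hann' : ∀ x : Rp p ⊗[ℤ] L, (N : ℤ) • x = 0 := by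
    intro x
    induction x using TensorProduct.induction_on with
    | zero => simp
    | add a b ha hb => rw [smul_add, ha, hb, add_zero]
    | tmul r v =>
      rw [← TensorProduct.tmul_smul, natCast_zsmul, hann, TensorProduct.tmul_zero]
  have hcop : IsCoprime (p : ℤ) (N : ℤ) := by
    rw [Nat.isCoprime_iff_coprime]
    exact hN.symm
  obtain ⟨u, w, huw⟩ := hcop
  refine graded_eig (ext_lie τ hlie) (ext_pow_p τ hp) (ext_fixed τ hfix) u ?_
  intro x
  have h1 : (u * (p : ℤ) + w * (N : ℤ)) • x = x := by rw [huw, one_smul]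
  rw [add_smul, mul_smul w, hann', smul_zero, add_zero] at h1
  exact h1

/-- **Higman, Kreknin-Kostrikin**: bound for Lie rings with a fixed point free automorphism of prime order. -/
theorem lcs_eq_bot_of_aut (τ : L →+ L) (hlie : ∀ a b, τ ⁅a, b⁆ = ⁅τ a, τ b⁆) (hp : ∀ v, τ^[p] v = v)
    (hfix : ∀ v, τ v = v → v = 0) (N : ℕ) (hN : N.Coprime p) (hann : ∀ v : L, N • v = 0) :
    lcs (⊤ : AddSubgroup L) (∑ i ∈ Finset.range (2 ^ (p - 1) - 1), (p - 1) ^ i) = ⊥ :=
  eq_bot_of_lcs_ext (p := p) (lcs_top_eq_bot (graded_ext τ hlie hp hfix N hN hann))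

/-- For `p = 3` the class is at most two. -/
theorem lcs_two_eq_bot_of_aut [Fact (Nat.Prime 3)] (τ : L →+ L) (hlie : ∀ a b, τ ⁅a, b⁆ = ⁅τ a, τ b⁆)
    (hp : ∀ v, τ^[3] v = v) (hfix : ∀ v, τ v = v → v = 0) (N : ℕ) (hN : N.Coprime 3)
    (hann : ∀ v : L, N • v = 0) : lcs (⊤ : AddSubgroup L) 2 = ⊥ :=
  eq_bot_of_lcs_ext (p := 3) (lcs_two_eq_bot (graded_ext τ hlie hp hfix N hN hann))

end Main

end Cfsg.Agent.Lib.Coprime.HKK
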