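/-
The Lie ring associated with the lower central series of a group.

For a group `G` write `γ i = (⊤ : Subgroup G).lowerCentralSeries i` (so `γ 0 = G`).  `Sec G i` is the abelian
section `γ i / γ (i + 1)` written additively, `AssocLie G` the direct sum of the sections.  Group commutators induce
a Lie ring structure with `⁅cls i x, cls j y⁆ = cls (i + j + 1) ⁅x, y⁆`.
-/
import Mathlib
import Cfsg.Agent.Lib.PGroup.HallPetrescu
import Cfsg.Agent.Lib.Coprime.Kreknin

set_option autoImplicit false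
set_option linter.style.longLine false

namespace Cfsg.Agent.Lib.Coprime.LieLCS

open scoped commutatorElement

variable {G : Type*} [Group G]

/-- Terms of the lower central series. -/
abbrev gam (G : Type*) [Group G] (i : ℕ) : Subgroup G := (⊤ : Subgroup G).lowerCentralSeries i

theorem gam_anti {i j : ℕ} (h : i ≤ j) : gam G j ≤ gam G i :=
  Subgroup.lowerCentralSeries_antitone ⊤ h

theorem comm_mem {i j n : ℕ} {x y : G} (hx : x ∈ gam G i) (hy : y ∈ gam G j) (h : n ≤ i + j + 1) :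
    ⁅x, y⁆ ∈ gam G n :=
  gam_anti h (Cfsg.Agent.Lib.PGroup.HallPetrescu.commutator_lcs_le ⊤ i j
    (Subgroup.commutator_mem_commutator hx hy))

/-- The `i`-th section, written additively. -/
def Sec (G : Type*) [Group G] (i : ℕ) : Type _ :=
  Additive (↥(gam G i) ⧸ (gam G (i + 1)).subgroupOf (gam G i))

instance (i : ℕ) : AddGroup (Sec G i) :=
  inferInstanceAs (AddGroup (Additive (↥(gam G i) ⧸ (gam G (i + 1)).subgroupOf (gam G i))))

/-- The class of an element of `γ i`. -/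
def mk (i : ℕ) (x : G) (hx : x ∈ gam G i) : Sec G i :=
  Additive.ofMul (QuotientGroup.mk (s := (gam G (i + 1)).subgroupOf (gam G i)) ⟨x, hx⟩)

theorem mk_eq_iff {i : ℕ} {x y : G} {hx : x ∈ gam G i} {hy : y ∈ gam G i} :
    mk i x hx = mk i y hy ↔ x⁻¹ * y ∈ gam G (i + 1) := by
  refine Iff.trans (Additive.ofMul.injective.eq_iff) ?_
  rw [QuotientGroup.eq, Subgroup.mem_subgroupOf]
  rfl

theorem mk_mul {i : ℕ} {x y : G} (hx : x ∈ gam G i) (hy : y ∈ gam G i) :
    mk i (x * y) (mul_mem hx hy) = mk i x hx + mk i y hy := rfl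

theorem mk_one {i : ℕ} : mk i (1 : G) (one_mem _) = 0 := rfl

theorem mk_inv {i : ℕ} {x : G} (hx : x ∈ gam G i) : mk i x⁻¹ (inv_mem hx) = - mk i x hx := rfl

theorem mk_surj {i : ℕ} (s : Sec G i) : ∃ x, ∃ hx : x ∈ gam G i, mk i x hx = s := by
  obtain ⟨⟨x, hx⟩, h⟩ := QuotientGroup.mk_surjective (Additive.toMul s)
  exact ⟨x, hx, by rw [mk, h]; rfl⟩

theorem mk_eq_zero {i : ℕ} {x : G} (hx : x ∈ gam G i) (hx' : x ∈ gam G (i + 1)) : mk i x hx = 0 := by
  rw [← mk_one, mk_eq_iff]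
  simpa using hx'

theorem mk_eq_zero_iff {i : ℕ} {x : G} (hx : x ∈ gam G i) : mk i x hx = 0 ↔ x ∈ gam G (i + 1) := by
  rw [← mk_one, mk_eq_iff]
  simp

instance (i : ℕ) : AddCommGroup (Sec G i) :=
  { (inferInstance : AddGroup (Sec G i)) with
    add_comm := by
      intro s t
      obtain ⟨x, hx, rfl⟩ := mk_surj s
      obtain ⟨y, hy, rfl⟩ := mk_surj t
      rw [← mk_mul, ← mk_mul, mk_eq_iff]
      have : (x * y)⁻¹ * (y * x) = ⁅y⁻¹, x⁻¹⁆ := by
        simp only [commutatorElement_def]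
        group
      rw [this]
      exact comm_mem (inv_mem hy) (inv_mem hx) (by omega) }

section commutators

variable {i j n : ℕ} {x x' y y' : G}

theorem mk_comm_mul_left (hx : x ∈ gam G i) (hx' : x' ∈ gam G i) (hy : y ∈ gam G j) (h : n ≤ i + j + 1) :
    mk n ⁅x * x', y⁆ (comm_mem (mul_mem hx hx') hy h) =
      mk n ⁅x, y⁆ (comm_mem hx hy h) + mk n ⁅x', y⁆ (comm_mem hx' hy h) := by
  have e : ⁅x * x', y⁆ = ⁅x, ⁅x', y⁆⁆ * (⁅x', y⁆ * ⁅x, y⁆) := by
    simp only [commutatorElement_def]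
    group
  have h1 : ⁅x, ⁅x', y⁆⁆ ∈ gam G n := gam_anti (Nat.le_succ n) (comm_mem hx (comm_mem hx' hy h) (by omega))
  have h2 : ⁅x, ⁅x', y⁆⁆ ∈ gam G (n + 1) := comm_mem hx (comm_mem hx' hy h) (by omega)
  calc mk n ⁅x * x', y⁆ (comm_mem (mul_mem hx hx') hy h)
      = mk n (⁅x, ⁅x', y⁆⁆ * (⁅x', y⁆ * ⁅x, y⁆)) (e ▸ comm_mem (mul_mem hx hx') hy h) := by simp only [e]
    _ = mk n ⁅x, ⁅x', y⁆⁆ h1 + (mk n ⁅x', y⁆ (comm_mem hx' hy h) + mk n ⁅x, y⁆ (comm_mem hx hy h)) := rfl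
    _ = _ := by rw [mk_eq_zero h1 h2, zero_add, add_comm]

theorem mk_comm_mul_right (hx : x ∈ gam G i) (hy : y ∈ gam G j) (hy' : y' ∈ gam G j) (h : n ≤ i + j + 1) :
    mk n ⁅x, y * y'⁆ (comm_mem hx (mul_mem hy hy') h) =
      mk n ⁅x, y⁆ (comm_mem hx hy h) + mk n ⁅x, y'⁆ (comm_mem hx hy' h) := by
  have e : ⁅x, y * y'⁆ = ⁅x, y⁆ * (⁅y, ⁅x, y'⁆⁆ * ⁅x, y'⁆) := by
    simp only [commutatorElement_def]
    group
  have h1 : ⁅y, ⁅x, y'⁆⁆ ∈ gam G n := gam_anti (Nat.le_succ n) (comm_mem hy (comm_mem hx hy' h) (by omega))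
  have h2 : ⁅y, ⁅x, y'⁆⁆ ∈ gam G (n + 1) := comm_mem hy (comm_mem hx hy' h) (by omega)
  calc mk n ⁅x, y * y'⁆ (comm_mem hx (mul_mem hy hy') h)
      = mk n (⁅x, y⁆ * (⁅y, ⁅x, y'⁆⁆ * ⁅x, y'⁆)) (e ▸ comm_mem hx (mul_mem hy hy') h) := by simp only [e]
    _ = mk n ⁅x, y⁆ (comm_mem hx hy h) + (mk n ⁅y, ⁅x, y'⁆⁆ h1 + mk n ⁅x, y'⁆ (comm_mem hx hy' h)) := rfl
    _ = _ := by rw [mk_eq_zero h1 h2, zero_add]

end commutators

/-- A representative. -/
noncomputable def rep {i : ℕ} (s : Sec G i) : G := (mk_surj s).choose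

theorem rep_mem {i : ℕ} (s : Sec G i) : rep s ∈ gam G i := (mk_surj s).choose_spec.choose

theorem mk_rep {i : ℕ} (s : Sec G i) : mk i (rep s) (rep_mem s) = s :=
  (mk_surj s).choose_spec.choose_spec

/-- The bracket of sections. -/
noncomputable def brkS (i j n : ℕ) (h : i + j + 1 = n) (s : Sec G i) (t : Sec G j) : Sec G n :=
  mk n ⁅rep s, rep t⁆ (comm_mem (rep_mem s) (rep_mem t) h.ge)

theorem mk_comm_congr {i j n : ℕ} (h : i + j + 1 = n) {x x' y y' : G} {hx : x ∈ gam G i} {hx' : x' ∈ gam G i}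
    {hy : y ∈ gam G j} {hy' : y' ∈ gam G j} (hxx : mk i x hx = mk i x' hx') (hyy : mk j y hy = mk j y' hy') :
    mk n ⁅x, y⁆ (comm_mem hx hy h.ge) = mk n ⁅x', y'⁆ (comm_mem hx' hy' h.ge) := by
  have hu := mk_eq_iff.mp hxx
  have hw := mk_eq_iff.mp hyy
  have hu' : x⁻¹ * x' ∈ gam G i := gam_anti (Nat.le_succ i) hu
  have hw' : y⁻¹ * y' ∈ gam G j := gam_anti (Nat.le_succ j) hw
  have e1 : x' = x * (x⁻¹ * x') := by group
  have e2 : y' = y * (y⁻¹ * y') := by group
  have h1 := mk_comm_mul_left (n := n) hx hu' hy' h.ge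
  have h2 := mk_comm_mul_right (n := n) hx hy hw' h.ge
  have h3 : mk n ⁅x⁻¹ * x', y'⁆ (comm_mem hu' hy' h.ge) = 0 :=
    mk_eq_zero _ (comm_mem hu hy' (by omega))
  have h4 : mk n ⁅x, y⁻¹ * y'⁆ (comm_mem hx hw' h.ge) = 0 :=
    mk_eq_zero _ (comm_mem hx hw (by omega))
  rw [h3, add_zero] at h1
  rw [h4, add_zero] at h2
  have e3 : x * (x⁻¹ * x') = x' := by group
  have e4 : y * (y⁻¹ * y') = y' := by group
  simp only [e3] at h1
  simp only [e4] at h2
  rw [h1, h2]

theorem brkS_mk {i j n : ℕ} (h : i + j + 1 = n) {x y : G} (hx : x ∈ gam G i) (hy : y ∈ gam G j) :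
    brkS i j n h (mk i x hx) (mk j y hy) = mk n ⁅x, y⁆ (comm_mem hx hy h.ge) :=
  mk_comm_congr h (mk_rep _) (mk_rep _)

theorem brkS_add_left {i j n : ℕ} (h : i + j + 1 = n) (s s' : Sec G i) (t : Sec G j) :
    brkS i j n h (s + s') t = brkS i j n h s t + brkS i j n h s' t := by
  obtain ⟨x, hx, rfl⟩ := mk_surj s
  obtain ⟨x', hx', rfl⟩ := mk_surj s'
  obtain ⟨y, hy, rfl⟩ := mk_surj t
  rw [← mk_mul, brkS_mk, brkS_mk, brkS_mk, mk_comm_mul_left hx hx' hy h.ge]

theorem brkS_add_right {i j n : ℕ} (h : i + j + 1 = n) (s : Sec G i) (t t' : Sec G j) :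
    brkS i j n h s (t + t') = brkS i j n h s t + brkS i j n h s t' := by
  obtain ⟨x, hx, rfl⟩ := mk_surj s
  obtain ⟨y, hy, rfl⟩ := mk_surj t
  obtain ⟨y', hy', rfl⟩ := mk_surj t'
  rw [← mk_mul, brkS_mk, brkS_mk, brkS_mk, mk_comm_mul_right hx hy hy' h.ge]

/-- The bracket of sections as a biadditive map. -/
noncomputable def brkHom (i j n : ℕ) (h : i + j + 1 = n) : Sec G i →+ Sec G j →+ Sec G n :=
  AddMonoidHom.mk' (fun s => AddMonoidHom.mk' (fun t => brkS i j n h s t) (brkS_add_right h s))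
    (fun s s' => by
      ext t
      exact brkS_add_left h s s' t)

theorem brkHom_apply {i j n : ℕ} (h : i + j + 1 = n) (s : Sec G i) (t : Sec G j) :
    brkHom i j n h s t = brkS i j n h s t := rfl

variable (G) in
/-- The Lie ring associated with the lower central series. -/
def AssocLie : Type _ := DirectSum ℕ (Sec G)

noncomputable instance : AddCommGroup (AssocLie G) :=
  inferInstanceAs (AddCommGroup (DirectSum ℕ (Sec G)))

/-- Inclusion of a section. -/
noncomputable def ofSec (i : ℕ) : Sec G i →+ AssocLie G := DirectSum.of (Sec G) i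

/-- The class in the associated Lie ring. -/
noncomputable def cls (i : ℕ) (x : G) (hx : x ∈ gam G i) : AssocLie G := ofSec i (mk i x hx)

theorem cls_congr {n m : ℕ} (h : n = m) {x : G} (hx : x ∈ gam G n) (hy : x ∈ gam G m) :
    cls n x hx = cls m x hy := by
  subst h
  rfl

theorem cls_congr' {n m : ℕ} (h : n = m) {x x' : G} (hxx : x = x') (hx : x ∈ gam G n) (hy : x' ∈ gam G m) :
    cls n x hx = cls m x' hy := by
  subst h
  subst hxx
  rfl

theorem mk_congr {n : ℕ} {x x' : G} (hxx : x = x') (hx : x ∈ gam G n) (hy : x' ∈ gam G n) :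
    mk n x hx = mk n x' hy := by
  subst hxx
  rfl

theorem cls_mul {i : ℕ} {x y : G} (hx : x ∈ gam G i) (hy : y ∈ gam G i) :
    cls i (x * y) (mul_mem hx hy) = cls i x hx + cls i y hy := by
  unfold cls
  rw [mk_mul, map_add]

theorem cls_inv {i : ℕ} {x : G} (hx : x ∈ gam G i) : cls i x⁻¹ (inv_mem hx) = - cls i x hx := by
  unfold cls
  rw [mk_inv, map_neg]

theorem cls_one {i : ℕ} : cls i (1 : G) (one_mem _) = 0 := by
  unfold cls
  rw [mk_one, map_zero]

theorem cls_eq_zero {i : ℕ} {x : G} (hx : x ∈ gam G i) (hx' : x ∈ gam G (i + 1)) : cls i x hx = 0 := by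
  unfold cls
  rw [mk_eq_zero hx hx', map_zero]

theorem mem_of_cls_eq_zero {i : ℕ} {x : G} (hx : x ∈ gam G i) (h : cls i x hx = 0) :
    x ∈ gam G (i + 1) := by
  have h1 : mk i x hx = 0 := by
    apply DirectSum.of_injective (β := Sec G) i
    rw [map_zero]
    exact h
  exact (mk_eq_zero_iff hx).mp h1

theorem cls_induction {P : AssocLie G → Prop} (h0 : P 0) (hadd : ∀ a b, P a → P b → P (a + b))
    (hcls : ∀ i x hx, P (cls i x hx)) (v : AssocLie G) : P v := by
  refine DirectSum.induction_on (motive := P) v h0 ?_ hadd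
  intro i s
  obtain ⟨x, hx, rfl⟩ := mk_surj s
  exact hcls i x hx

/-- One-sided bracket: first argument in a section, second argument homogeneous. -/
noncomputable def lieAux₀ (i j : ℕ) : Sec G j →+ Sec G i →+ AssocLie G :=
  ((AddMonoidHom.compHom (ofSec (G := G) (i + j + 1))).comp (brkHom i j (i + j + 1) rfl)).flip

/-- One-sided bracket: first argument in a section. -/
noncomputable def lieAux (i : ℕ) : Sec G i →+ AssocLie G →+ AssocLie G :=
  AddMonoidHom.flip (DirectSum.toAddMonoid (β := Sec G) (lieAux₀ i))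

/-- The bracket of the associated Lie ring as a biadditive map. -/
noncomputable def lieHom : AssocLie G →+ AssocLie G →+ AssocLie G :=
  DirectSum.toAddMonoid (β := Sec G) lieAux

theorem lieHom_ofSec (i j : ℕ) (s : Sec G i) (t : Sec G j) :
    lieHom (ofSec i s) (ofSec j t) = ofSec (i + j + 1) (brkS i j (i + j + 1) rfl s t) := by
  have h1 : lieHom (ofSec i s) = lieAux i s := DirectSum.toAddMonoid_of (β := Sec G) lieAux i s
  rw [h1]
  have h2 : (DirectSum.toAddMonoid (β := Sec G) (lieAux₀ i)) (ofSec j t) = lieAux₀ i j t :=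
    DirectSum.toAddMonoid_of (β := Sec G) (lieAux₀ i) j t
  show (DirectSum.toAddMonoid (β := Sec G) (lieAux₀ i)) (ofSec j t) s = _
  rw [h2]
  rfl

theorem lieHom_cls {i j : ℕ} {x y : G} (hx : x ∈ gam G i) (hy : y ∈ gam G j) :
    lieHom (cls i x hx) (cls j y hy) = cls (i + j + 1) ⁅x, y⁆ (comm_mem hx hy le_rfl) := by
  unfold cls
  rw [lieHom_ofSec, brkS_mk]

noncomputable instance : Bracket (AssocLie G) (AssocLie G) := ⟨fun a b => lieHom a b⟩

theorem lie_def (a b : AssocLie G) : ⁅a, b⁆ = lieHom a b := rfl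

theorem lie_cls {i j : ℕ} {x y : G} (hx : x ∈ gam G i) (hy : y ∈ gam G j) :
    ⁅cls i x hx, cls j y hy⁆ = cls (i + j + 1) ⁅x, y⁆ (comm_mem hx hy le_rfl) :=
  lieHom_cls hx hy

theorem lie_antisymm (a b : AssocLie G) : ⁅a, b⁆ = -⁅b, a⁆ := by
  induction a using cls_induction with
  | h0 => simp [lie_def]
  | hadd a a' h h' =>
    simp only [lie_def, map_add, AddMonoidHom.add_apply, neg_add] at h h' ⊢
    rw [h, h']
  | hcls i x hx =>
    induction b using cls_induction with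
    | h0 => simp [lie_def]
    | hadd a a' h h' =>
      simp only [lie_def, map_add, AddMonoidHom.add_apply, neg_add] at h h' ⊢
      rw [h, h']
    | hcls j y hy =>
      rw [lie_cls, lie_cls, ← cls_inv]
      exact cls_congr' (by omega) (commutatorElement_inv _ _).symm _ _

theorem lie_self' (a : AssocLie G) : ⁅a, a⁆ = 0 := by
  induction a using cls_induction with
  | h0 => simp [lie_def]
  | hadd a b h h' =>
    have h1 : ⁅a + b, a + b⁆ = ⁅a, a⁆ + ⁅b, b⁆ + (⁅a, b⁆ + ⁅b, a⁆) := by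
      simp only [lie_def, map_add, AddMonoidHom.add_apply]
      abel
    rw [h1, h, h', lie_antisymm a b]
    simp
  | hcls i x hx =>
    rw [lie_cls]
    exact (cls_congr' rfl (commutatorElement_self _) _ _).trans cls_one

section Jacobi

variable {i j k n : ℕ} {x y z : G}

theorem hall_witt (x y z : G) :
    ⁅⁅x, y⁆, y * z * y⁻¹⁆ * ⁅⁅y, z⁆, z * x * z⁻¹⁆ * ⁅⁅z, x⁆, x * y * x⁻¹⁆ = 1 := by
  simp only [commutatorElement_def]
  group

theorem conj_eq_comm_mul (y z : G) : y * z * y⁻¹ = ⁅y, z⁆ * z := by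
  simp only [commutatorElement_def]
  group

/-- Replacing the last entry by a conjugate does not change the class. -/
theorem mk_comm_conj {a : G} {s : ℕ} (ha : a ∈ gam G s) (hy : y ∈ gam G j) (hz : z ∈ gam G k)
    (hn : n = s + k + 1) (hy0 : 1 ≤ j + 1) (h1 : ⁅a, y * z * y⁻¹⁆ ∈ gam G n) :
    mk n ⁅a, y * z * y⁻¹⁆ h1 = mk n ⁅a, z⁆ (comm_mem ha hz hn.le) := by
  have hc : ⁅y, z⁆ ∈ gam G k := comm_mem hy hz (by omega)
  have hc' : ⁅y, z⁆ ∈ gam G (j + k + 1) := comm_mem hy hz le_rfl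
  have h2 := mk_comm_mul_right (n := n) ha hc hz hn.le
  have h3 : mk n ⁅a, ⁅y, z⁆⁆ (comm_mem ha hc hn.le) = 0 :=
    mk_eq_zero _ (comm_mem ha hc' (by omega))
  rw [h3, zero_add] at h2
  simp only [← conj_eq_comm_mul] at h2
  exact h2

/-- The Jacobi identity in the sections. -/
theorem mk_jacobi (hx : x ∈ gam G i) (hy : y ∈ gam G j) (hz : z ∈ gam G k) (hn : n = i + j + k + 2)
    (h1 : ⁅⁅x, y⁆, z⁆ ∈ gam G n) (h2 : ⁅⁅y, z⁆, x⁆ ∈ gam G n) (h3 : ⁅⁅z, x⁆, y⁆ ∈ gam G n) :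
    mk n ⁅⁅x, y⁆, z⁆ h1 + mk n ⁅⁅y, z⁆, x⁆ h2 + mk n ⁅⁅z, x⁆, y⁆ h3 = 0 := by
  have hxy : ⁅x, y⁆ ∈ gam G (i + j + 1) := comm_mem hx hy le_rfl
  have hyz : ⁅y, z⁆ ∈ gam G (j + k + 1) := comm_mem hy hz le_rfl
  have hzx : ⁅z, x⁆ ∈ gam G (k + i + 1) := comm_mem hz hx le_rfl
  have c1 : y * z * y⁻¹ ∈ gam G k := by
    rw [conj_eq_comm_mul]
    exact mul_mem (comm_mem hy hz (by omega)) hz
  have c2 : z * x * z⁻¹ ∈ gam G i := by
    rw [conj_eq_comm_mul]
    exact mul_mem (comm_mem hz hx (by omega)) hx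
  have c3 : x * y * x⁻¹ ∈ gam G j := by
    rw [conj_eq_comm_mul]
    exact mul_mem (comm_mem hx hy (by omega)) hy
  have t1 : ⁅⁅x, y⁆, y * z * y⁻¹⁆ ∈ gam G n := comm_mem hxy c1 (by omega)
  have t2 : ⁅⁅y, z⁆, z * x * z⁻¹⁆ ∈ gam G n := comm_mem hyz c2 (by omega)
  have t3 : ⁅⁅z, x⁆, x * y * x⁻¹⁆ ∈ gam G n := comm_mem hzx c3 (by omega)
  have e1 := mk_comm_conj hxy hy hz (n := n) (by omega) (by omega) t1
  have e2 := mk_comm_conj hyz hz hx (n := n) (by omega) (by omega) t2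
  have e3 := mk_comm_conj hzx hx hy (n := n) (by omega) (by omega) t3
  have hw : mk n (⁅⁅x, y⁆, y * z * y⁻¹⁆ * ⁅⁅y, z⁆, z * x * z⁻¹⁆ * ⁅⁅z, x⁆, x * y * x⁻¹⁆)
      (mul_mem (mul_mem t1 t2) t3) = 0 := by
    simp only [hall_witt]
    exact mk_one
  have hw' : mk n ⁅⁅x, y⁆, y * z * y⁻¹⁆ t1 + mk n ⁅⁅y, z⁆, z * x * z⁻¹⁆ t2 + mk n ⁅⁅z, x⁆, x * y * x⁻¹⁆ t3 = 0 := hw
  rw [e1, e2, e3] at hw'
  exact hw'

theorem mk_comm_inv_left {c : G} {s : ℕ} (hc : c ∈ gam G s) (hy : y ∈ gam G j) (hn : n ≤ s + j + 1) :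
    mk n ⁅c⁻¹, y⁆ (comm_mem (inv_mem hc) hy hn) = - mk n ⁅c, y⁆ (comm_mem hc hy hn) := by
  have h := mk_comm_mul_left (n := n) hc (inv_mem hc) hy hn
  have h1 : mk n ⁅c * c⁻¹, y⁆ (comm_mem (mul_mem hc (inv_mem hc)) hy hn) = 0 :=
    (mk_congr (by simp) _ (one_mem _)).trans mk_one
  rw [h1] at h
  exact (neg_eq_of_add_eq_zero_right h.symm).symm

theorem mk_leibniz (hx : x ∈ gam G i) (hy : y ∈ gam G j) (hz : z ∈ gam G k) (hn : n = i + j + k + 2)
    (h1 : ⁅x, ⁅y, z⁆⁆ ∈ gam G n) (h2 : ⁅⁅x, y⁆, z⁆ ∈ gam G n) (h3 : ⁅y, ⁅x, z⁆⁆ ∈ gam G n) :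
    mk n ⁅x, ⁅y, z⁆⁆ h1 = mk n ⁅⁅x, y⁆, z⁆ h2 + mk n ⁅y, ⁅x, z⁆⁆ h3 := by
  have hyz : ⁅y, z⁆ ∈ gam G (j + k + 1) := comm_mem hy hz le_rfl
  have hxz : ⁅x, z⁆ ∈ gam G (i + k + 1) := comm_mem hx hz le_rfl
  have hzx : ⁅z, x⁆ ∈ gam G (k + i + 1) := comm_mem hz hx le_rfl
  have a2 : ⁅⁅y, z⁆, x⁆ ∈ gam G n := comm_mem hyz hx (by omega)
  have a3 : ⁅⁅z, x⁆, y⁆ ∈ gam G n := comm_mem hzx hy (by omega)
  have hj := mk_jacobi hx hy hz hn h2 a2 a3
  have e1 : mk n ⁅x, ⁅y, z⁆⁆ h1 = - mk n ⁅⁅y, z⁆, x⁆ a2 := by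
    rw [← mk_inv]
    exact mk_congr (commutatorElement_inv _ _).symm _ _
  have e2 : mk n ⁅y, ⁅x, z⁆⁆ h3 = mk n ⁅⁅z, x⁆, y⁆ a3 := by
    have e3 : ⁅y, ⁅x, z⁆⁆ = (⁅⁅z, x⁆⁻¹, y⁆)⁻¹ := by
      rw [commutatorElement_inv, commutatorElement_inv]
    have a4 : ⁅⁅z, x⁆⁻¹, y⁆ ∈ gam G n := comm_mem (inv_mem hzx) hy (by omega)
    rw [mk_congr e3 h3 (inv_mem a4), mk_inv a4, mk_comm_inv_left hzx hy (by omega), neg_neg]
  rw [e1, e2]
  have : mk n ⁅⁅y, z⁆, x⁆ a2 = -(mk n ⁅⁅x, y⁆, z⁆ h2 + mk n ⁅⁅z, x⁆, y⁆ a3) := by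
    rw [eq_neg_iff_add_eq_zero, ← hj]
    abel
  rw [this, neg_neg]

end Jacobi

theorem leibniz' (a b c : AssocLie G) : ⁅a, ⁅b, c⁆⁆ = ⁅⁅a, b⁆, c⁆ + ⁅b, ⁅a, c⁆⁆ := by
  induction a using cls_induction with
  | h0 => simp [lie_def]
  | hadd a a' h h' =>
    simp only [lie_def, map_add, AddMonoidHom.add_apply] at h h' ⊢
    rw [h, h']
    abel
  | hcls i x hx =>
    induction b using cls_induction with
    | h0 => simp [lie_def]
    | hadd a a' h h' =>
      simp only [lie_def, map_add, AddMonoidHom.add_apply] at h h' ⊢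
      rw [h, h']
      abel
    | hcls j y hy =>
      induction c using cls_induction with
      | h0 => simp [lie_def]
      | hadd a a' h h' =>
        simp only [lie_def, map_add, AddMonoidHom.add_apply] at h h' ⊢
        rw [h, h']
        abel
      | hcls k z hz =>
        have hyz : ⁅y, z⁆ ∈ gam G (j + k + 1) := comm_mem hy hz le_rfl
        have hxz : ⁅x, z⁆ ∈ gam G (i + k + 1) := comm_mem hx hz le_rfl
        have hxy : ⁅x, y⁆ ∈ gam G (i + j + 1) := comm_mem hx hy le_rfl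
        have m1 : ⁅x, ⁅y, z⁆⁆ ∈ gam G (i + j + k + 2) := comm_mem hx hyz (by omega)
        have m2 : ⁅⁅x, y⁆, z⁆ ∈ gam G (i + j + k + 2) := comm_mem hxy hz (by omega)
        have m3 : ⁅y, ⁅x, z⁆⁆ ∈ gam G (i + j + k + 2) := comm_mem hy hxz (by omega)
        rw [lie_cls hy hz, lie_cls hx hyz, lie_cls hx hy, lie_cls hxy hz, lie_cls hx hz, lie_cls hy hxz]
        rw [cls_congr (show i + (j + k + 1) + 1 = i + j + k + 2 by omega) _ m1,
          cls_congr (show i + j + 1 + k + 1 = i + j + k + 2 by omega) _ m2,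
          cls_congr (show j + (i + k + 1) + 1 = i + j + k + 2 by omega) _ m3]
        unfold cls
        rw [mk_leibniz hx hy hz rfl m1 m2 m3, map_add]

noncomputable instance : LieRing (AssocLie G) where
  add_lie a b c := by simp only [lie_def, map_add, AddMonoidHom.add_apply]
  lie_add a b c := by simp only [lie_def, map_add]
  lie_self := lie_self'
  leibniz_lie := leibniz'

/-! ### Automorphisms -/

theorem map_mem (φ : G ≃* G) {i : ℕ} {x : G} (hx : x ∈ gam G i) : φ x ∈ gam G i := by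
  have h : (gam G i).map (φ : G →* G) = gam G i := by
    rw [Subgroup.map_lowerCentralSeries]
    congr 1
    exact Subgroup.map_top_of_surjective _ φ.surjective
  rw [← h]
  exact ⟨x, hx, rfl⟩

/-- The map induced on a section. -/
noncomputable def secMap (φ : G ≃* G) (i : ℕ) : Sec G i →+ Sec G i :=
  AddMonoidHom.mk' (fun s => mk i (φ (rep s)) (map_mem φ (rep_mem s))) (by
    intro s t
    have key : ∀ {x y : G} (hx : x ∈ gam G i) (hy : y ∈ gam G i), mk i x hx = mk i y hy →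
        mk i (φ x) (map_mem φ hx) = mk i (φ y) (map_mem φ hy) := by
      intro x y hx hy h
      rw [mk_eq_iff] at h ⊢
      have := map_mem φ h
      simpa using this
    rw [← mk_mul]
    refine (key (rep_mem _) (mul_mem (rep_mem s) (rep_mem t)) ?_).trans ?_
    · rw [mk_rep, mk_mul (rep_mem s) (rep_mem t), mk_rep, mk_rep]
    · have : φ (rep s * rep t) = φ (rep s) * φ (rep t) := map_mul _ _ _
      exact mk_congr this _ _)

theorem secMap_mk (φ : G ≃* G) {i : ℕ} {x : G} (hx : x ∈ gam G i) :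
    secMap φ i (mk i x hx) = mk i (φ x) (map_mem φ hx) := by
  show mk i (φ (rep (mk i x hx))) _ = _
  have h := mk_rep (mk i x hx)
  rw [mk_eq_iff] at h ⊢
  have := map_mem φ h
  simpa using this

/-- The map induced on the associated Lie ring. -/
noncomputable def lmap (φ : G ≃* G) : AssocLie G →+ AssocLie G :=
  DirectSum.toAddMonoid (β := Sec G) fun i => (ofSec i).comp (secMap φ i)

theorem lmap_cls (φ : G ≃* G) {i : ℕ} {x : G} (hx : x ∈ gam G i) :
    lmap φ (cls i x hx) = cls i (φ x) (map_mem φ hx) := by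
  have h : lmap φ (ofSec i (mk i x hx)) = ((ofSec i).comp (secMap φ i)) (mk i x hx) :=
    DirectSum.toAddMonoid_of (β := Sec G) _ i _
  unfold cls
  rw [h, AddMonoidHom.comp_apply, secMap_mk]

theorem lmap_lie (φ : G ≃* G) (a b : AssocLie G) : lmap φ ⁅a, b⁆ = ⁅lmap φ a, lmap φ b⁆ := by
  induction a using cls_induction with
  | h0 => simp
  | hadd a a' h h' => simp only [add_lie, map_add, h, h']
  | hcls i x hx =>
    induction b using cls_induction with
    | h0 => simp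
    | hadd a a' h h' => simp only [lie_add, map_add, h, h']
    | hcls j y hy =>
      rw [lie_cls, lmap_cls, lmap_cls, lmap_cls, lie_cls]
      exact cls_congr' rfl (map_commutatorElement _ _ _) _ _

theorem lmap_one : lmap (1 : G ≃* G) = AddMonoidHom.id (AssocLie G) := by
  ext v
  induction v using cls_induction with
  | h0 => simp
  | hadd a a' h h' => simp only [map_add, h, h']
  | hcls i x hx => rw [lmap_cls]; rfl

theorem lmap_mul (φ ψ : G ≃* G) (v : AssocLie G) : lmap (φ * ψ) v = lmap φ (lmap ψ v) := by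
  induction v using cls_induction with
  | h0 => simp
  | hadd a a' h h' => simp only [map_add, h, h']
  | hcls i x hx =>
    rw [lmap_cls, lmap_cls, lmap_cls]
    rfl

theorem lmap_pow (φ : G ≃* G) (k : ℕ) (v : AssocLie G) : lmap (φ ^ k) v = (lmap φ)^[k] v := by
  induction k generalizing v with
  | zero => 
    rw [pow_zero, lmap_one]
    rfl
  | succ k ih =>
    rw [pow_succ, lmap_mul, ih, Function.iterate_succ_apply]

/-- Bracket with a degree zero element. -/
theorem cls_succ_comm {n : ℕ} {x y : G} (hx : x ∈ gam G n) (hy : y ∈ gam G 0) :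
    cls (n + 1) ⁅x, y⁆ (comm_mem hx hy le_rfl) = ⁅cls n x hx, cls 0 y hy⁆ := by
  rw [lie_cls]

theorem lmap_ofSec (φ : G ≃* G) (i : ℕ) (s : Sec G i) : lmap φ (ofSec i s) = ofSec i (secMap φ i s) :=
  DirectSum.toAddMonoid_of (β := Sec G) _ i _

theorem lmap_apply (φ : G ≃* G) (v : AssocLie G) (i : ℕ) :
    (show DirectSum ℕ (Sec G) from lmap φ v) i = secMap φ i ((show DirectSum ℕ (Sec G) from v) i) := by
  induction v using DirectSum.induction_on with
  | zero =>
    show (show DirectSum ℕ (Sec G) from lmap φ 0) i = secMap φ i 0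
    rw [map_zero, map_zero]
    rfl
  | of j s =>
    have h := lmap_ofSec φ j s
    show (show DirectSum ℕ (Sec G) from lmap φ (ofSec j s)) i = _
    rw [h]
    by_cases hij : j = i
    · subst hij
      show (DirectSum.of (Sec G) j (secMap φ j s)) j = secMap φ j ((DirectSum.of (Sec G) j s) j)
      simp [DirectSum.of_eq_same]
    · show (DirectSum.of (Sec G) j (secMap φ j s)) i = secMap φ i ((DirectSum.of (Sec G) j s) i)
      rw [DirectSum.of_eq_of_ne _ _ _ (Ne.symm hij), DirectSum.of_eq_of_ne _ _ _ (Ne.symm hij), map_zero]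
  | add a b ha hb =>
    have h1 : (show DirectSum ℕ (Sec G) from lmap φ (a + b)) i
        = (show DirectSum ℕ (Sec G) from lmap φ a) i + (show DirectSum ℕ (Sec G) from lmap φ b) i := by
      have : lmap φ (a + b) = lmap φ a + lmap φ b := map_add _ _ _
      rw [show (show DirectSum ℕ (Sec G) from lmap φ (a + b)) = (show DirectSum ℕ (Sec G) from lmap φ a + lmap φ b) from this]
      rfl
    have h2 : (show DirectSum ℕ (Sec G) from a + b) i
        = (show DirectSum ℕ (Sec G) from a) i + (show DirectSum ℕ (Sec G) from b) i := rfl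
    rw [h1, ha, hb, h2, map_add]

theorem sec_fixed_eq_zero [Finite G] (φ : G ≃* G) (hφ : ∀ g, φ g = g → g = 1) {i : ℕ} (s : Sec G i)
    (hs : secMap φ i s = s) : s = 0 := by
  obtain ⟨x, hx, rfl⟩ := mk_surj s
  rw [secMap_mk, eq_comm, mk_eq_iff] at hs
  have hK : ∀ z ∈ gam G (i + 1), z * (φ z)⁻¹ ∈ gam G (i + 1) :=
    fun z hz => mul_mem hz (inv_mem (map_mem φ hz))
  let f : ↥(gam G (i + 1)) → ↥(gam G (i + 1)) := fun z => ⟨z.1 * (φ z.1)⁻¹, hK z.1 z.2⟩
  have hinj : Function.Injective f := by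
    intro a b hab
    have h1 : a.1 * (φ a.1)⁻¹ = b.1 * (φ b.1)⁻¹ := congrArg Subtype.val hab
    have h2 : φ (b.1⁻¹ * a.1) = b.1⁻¹ * a.1 := by
      rw [map_mul, map_inv]
      have : a.1 = b.1 * (φ b.1)⁻¹ * φ a.1 := by
        rw [← h1]
        group
      calc (φ b.1)⁻¹ * φ a.1 = b.1⁻¹ * (b.1 * (φ b.1)⁻¹ * φ a.1) := by group
        _ = b.1⁻¹ * a.1 := by rw [← this]
    have h3 := hφ _ h2
    apply Subtype.ext
    have : a.1 = b.1 * (b.1⁻¹ * a.1) := by group
    rw [this, h3, mul_one]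
  have hsurj : Function.Surjective f := Finite.injective_iff_surjective.mp hinj
  obtain ⟨z, hz⟩ := hsurj ⟨_, hs⟩
  have hz' : z.1 * (φ z.1)⁻¹ = x⁻¹ * φ x := congrArg Subtype.val hz
  have hfix : φ (x * z.1) = x * z.1 := by
    rw [map_mul]
    have : φ x = x * (z.1 * (φ z.1)⁻¹) := by
      rw [hz']
      group
    rw [this]
    group
  have h1 := hφ _ hfix
  have hxeq : x = (z.1)⁻¹ := eq_inv_of_mul_eq_one_left h1
  apply mk_eq_zero
  rw [hxeq]
  exact inv_mem z.2

/-- A fixed point free automorphism of a finite group has no fixed point on the associated Lie ring. -/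
theorem lmap_fixed_eq_zero [Finite G] (φ : G ≃* G) (hφ : ∀ g, φ g = g → g = 1) (v : AssocLie G)
    (hv : lmap φ v = v) : v = 0 := by
  show (show DirectSum ℕ (Sec G) from v) = (show DirectSum ℕ (Sec G) from 0)
  ext i
  apply sec_fixed_eq_zero φ hφ
  rw [← lmap_apply, hv]

theorem cls_pow {i : ℕ} {x : G} (hx : x ∈ gam G i) (n : ℕ) :
    cls i (x ^ n) (pow_mem hx n) = n • cls i x hx := by
  induction n with
  | zero => 
    rw [zero_smul]
    exact (cls_congr' rfl (pow_zero x) _ _).trans cls_one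
  | succ n ih =>
    rw [succ_nsmul, ← ih, ← cls_mul]
    exact cls_congr' rfl (pow_succ x n) _ _

/-- The order of a finite group annihilates the associated Lie ring. -/
theorem card_smul_eq_zero [Finite G] (v : AssocLie G) : Nat.card G • v = 0 := by
  induction v using cls_induction with
  | h0 => simp
  | hadd a b h h' => rw [smul_add, h, h', add_zero]
  | hcls i x hx =>
    rw [← cls_pow]
    exact (cls_congr' rfl (pow_card_eq_one' (x := x)) _ _).trans cls_one

/-- Comparing lower central series: if the lower central series of the Lie ring stops at `n`, then the group's series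
becomes stationary at `n`. -/
theorem cls_mem_lcs (n : ℕ) (x : G) (hx : x ∈ gam G n) :
    cls n x hx ∈ Kreknin.lcs (⊤ : AddSubgroup (AssocLie G)) n := by
  induction n generalizing x with
  | zero => trivial
  | succ n ih =>
    have key : ∀ x, x ∈ gam G (n + 1) →
        ∃ hx : x ∈ gam G (n + 1), cls (n + 1) x hx ∈ Kreknin.lcs (⊤ : AddSubgroup (AssocLie G)) (n + 1) := by
      intro x hx
      have hx' : x ∈ Subgroup.closure {g | ∃ a ∈ gam G n, ∃ b ∈ (⊤ : Subgroup G), ⁅a, b⁆ = g} := hx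
      refine Subgroup.closure_induction (p := fun x _ => ∃ hx : x ∈ gam G (n + 1),
        cls (n + 1) x hx ∈ Kreknin.lcs (⊤ : AddSubgroup (AssocLie G)) (n + 1)) ?_ ?_ ?_ ?_ hx'
      · rintro _ ⟨a, ha, b, hb, rfl⟩
        have hb' : b ∈ gam G 0 := hb
        refine ⟨comm_mem ha hb' le_rfl, ?_⟩
        rw [cls_succ_comm ha hb']
        exact Kreknin.lie_mem_brk (ih a ha) trivial
      · refine ⟨one_mem _, ?_⟩
        rw [cls_one]
        exact zero_mem _
      · rintro a b _ _ ⟨ha, ha'⟩ ⟨hb, hb'⟩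
        refine ⟨mul_mem ha hb, ?_⟩
        rw [cls_mul ha hb]
        exact add_mem ha' hb'
      · rintro a _ ⟨ha, ha'⟩
        refine ⟨inv_mem ha, ?_⟩
        rw [cls_inv ha]
        exact neg_mem ha'
    exact (key x hx).2

/-- If the Lie ring has class at most `n`, so does a nilpotent group. -/
theorem gam_eq_bot_of_lcs_eq_bot (hG : Group.IsNilpotent G) {n : ℕ}
    (h : Kreknin.lcs (⊤ : AddSubgroup (AssocLie G)) n = ⊥) : gam G n = ⊥ := by
  have hle : gam G n ≤ gam G (n + 1) := by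
    intro x hx
    have h1 := cls_mem_lcs n x hx
    rw [h] at h1
    exact mem_of_cls_eq_zero hx h1
  have hall : ∀ k, gam G n ≤ gam G (n + k) := by
    intro k
    have hstep : ∀ k, gam G (n + k) ≤ gam G (n + k + 1) := by
      intro k
      induction k with
      | zero => exact hle
      | succ k ih => exact Subgroup.commutator_mono ih le_rfl
    induction k with
    | zero => exact le_rfl
    | succ k ih => exact ih.trans (hstep k)
  obtain ⟨c, hc⟩ := Subgroup.nilpotent_iff_lowerCentralSeries.mp hG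
  have h1 := hall c
  have h2 : gam G (n + c) ≤ gam G c := gam_anti (by omega)
  have h3 : gam G c = ⊥ := hc
  rw [h3] at h2
  exact le_bot_iff.mp (h1.trans h2)

end Cfsg.Agent.Lib.Coprime.LieLCS
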