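import Mathlib
import Cfsg.Prelude.Def_OddOrderLocal
import Cfsg.Agent.Lib.Solvable.HallSystem
import Cfsg.Agent.Lib.Coprime.SZ
import Cfsg.Agent.Lib.Coprime.Three

/-!
# TI-subgroups that are Hall in their normalizers

Elementary consequences of `H` being a TI-subgroup with `|H|` coprime to `|N_G(H) : H|`:
`H` contains a Sylow subgroup of `G` for every prime dividing `|H|`, hence `|H|` is coprime to
`|G : H|`.  Largest normal subgroups of order coprime to a given number.
-/

set_option autoImplicit false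
set_option linter.unusedSectionVars false
set_option linter.style.haveILetI false

namespace Cfsg.Agent.Lib.Coprime.TIHall

open Subgroup

variable {G : Type*} [Group G] [Finite G]

theorem card_eq_card_mul_relIndex {A B : Subgroup G} (h : A ≤ B) :
    Nat.card B = Nat.card A * A.relIndex B := by
  have h1 := (A.subgroupOf B).card_mul_index
  rw [← h1]
  congr 1
  exact Nat.card_congr (Subgroup.subgroupOfEquivOfLe h).toEquiv

theorem mem_of_mem_normalizer_of_coprime' {H : Subgroup G} {x : G}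
    (hx : x ∈ normalizer (H : Set G))
    (hc : (orderOf x).Coprime (H.subgroupOf (normalizer (H : Set G))).index) : x ∈ H := by
  set N := normalizer (H : Set G) with hN
  let x' : N := ⟨x, hx⟩
  haveI : (H.subgroupOf N).Normal := Subgroup.normal_in_normalizer
  have h := Cfsg.Agent.Lib.Solvable.HallSystem.mem_of_mem_normalizer_of_coprime (H.subgroupOf N)
    (x := x') (by rw [normalizer_eq_top]; trivial) (by
      rw [show orderOf x' = orderOf x from Subgroup.orderOf_mk x hx]; exact hc)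
  exact Subgroup.mem_subgroupOf.mp h

theorem mem_normalizer_of_conj {H : Subgroup G} (hTI : Cfsg.IsTISubset (H : Set G)) {x g : G}
    (hx : x ∈ H) (hx1 : x ≠ 1) (hg : g * x * g⁻¹ ∈ H) : g ∈ normalizer (H : Set G) := by
  by_contra h
  exact hx1 (hTI g h x hx hg)

/-- A subgroup of a TI-subgroup with a nontrivial element has normalizer in `N(H)`. -/
theorem normalizer_le_normalizer {H R : Subgroup G} (hTI : Cfsg.IsTISubset (H : Set G))
    (hRH : R ≤ H) (hR : R ≠ ⊥) : normalizer (R : Set G) ≤ normalizer (H : Set G) := by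
  intro g hg
  obtain ⟨⟨z, hz⟩, hz1⟩ := (Subgroup.ne_bot_iff_exists_ne_one).mp hR
  have hz1' : z ≠ 1 := fun h => hz1 (Subtype.ext h)
  exact mem_normalizer_of_conj hTI (hRH hz) hz1' (hRH ((mem_normalizer_iff.mp hg z).mp hz))

/-- A TI-subgroup that is Hall in its normalizer contains Sylow subgroups of `G`. -/
theorem exists_sylow_le {H : Subgroup G} (hTI : Cfsg.IsTISubset (H : Set G))
    (hHall : (Nat.card H).Coprime (H.subgroupOf (normalizer (H : Set G))).index)
    (q : ℕ) [Fact q.Prime] (hq : q ∣ Nat.card H) : ∃ P : Sylow q G, (P : Subgroup G) ≤ H := by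
  obtain ⟨P₀⟩ : Nonempty (Sylow q H) := inferInstance
  set Q₀ : Subgroup G := (P₀ : Subgroup H).map H.subtype with hQ₀def
  have hQ₀H : Q₀ ≤ H := by
    rintro _ ⟨y, -, rfl⟩
    exact y.2
  have hQ₀ : IsPGroup q Q₀ := P₀.2.map H.subtype
  obtain ⟨R, hR⟩ := hQ₀.exists_le_sylow
  have hne : Q₀ ≠ ⊥ := by
    intro h0
    have h1 := P₀.ne_bot_of_dvd_card hq
    apply h1
    have h2 := (Subgroup.map_eq_bot_iff_of_injective (P₀ : Subgroup H) H.subtype_injective).mp h0
    exact h2
  refine ⟨R, ?_⟩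
  by_contra hRH
  have hlt : Q₀.subgroupOf (R : Subgroup G) < ⊤ := by
    refine lt_top_iff_ne_top.mpr ?_
    intro htop
    apply hRH
    have h1 : (R : Subgroup G) ≤ Q₀ := by
      intro x hx
      have : (⟨x, hx⟩ : (R : Subgroup G)) ∈ Q₀.subgroupOf (R : Subgroup G) := by rw [htop]; trivial
      exact Subgroup.mem_subgroupOf.mp this
    exact h1.trans hQ₀H
  haveI : Group.IsNilpotent (R : Subgroup G) := R.2.isNilpotent
  have hlt2 := Group.normalizerCondition_of_isNilpotent (Q₀.subgroupOf (R : Subgroup G)) hlt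
  obtain ⟨x, hxN, hxQ⟩ := SetLike.exists_of_lt hlt2
  have hxconj : ∀ z ∈ Q₀, (x : G) * z * (x : G)⁻¹ ∈ Q₀ := by
    intro z hz
    have hzR : z ∈ (R : Subgroup G) := hR hz
    have h1 := (mem_normalizer_iff.mp hxN ⟨z, hzR⟩).mp (Subgroup.mem_subgroupOf.mpr hz)
    exact Subgroup.mem_subgroupOf.mp h1
  obtain ⟨⟨z, hz⟩, hz1⟩ := (Subgroup.ne_bot_iff_exists_ne_one).mp hne
  have hz1' : z ≠ 1 := fun h => hz1 (Subtype.ext h)
  have hxN2 : (x : G) ∈ normalizer (H : Set G) :=
    mem_normalizer_of_conj hTI (hQ₀H hz) hz1' (hQ₀H (hxconj z hz))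
  obtain ⟨k, hk⟩ := IsPGroup.iff_orderOf.mp R.2 x
  have hord : orderOf (x : G) = q ^ k := by
    rw [← hk]
    exact Subgroup.orderOf_coe x
  have hqc : q.Coprime (H.subgroupOf (normalizer (H : Set G))).index :=
    Nat.Coprime.coprime_dvd_left hq hHall
  have hxH : (x : G) ∈ H := mem_of_mem_normalizer_of_coprime' hxN2 (by
    rw [hord]
    exact Nat.Coprime.pow_left k hqc)
  -- the element lies in `P₀`
  let x' : H := ⟨x, hxH⟩
  have hZ : IsPGroup q (Subgroup.zpowers x') := by
    refine IsPGroup.of_card (n := k) ?_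
    rw [Nat.card_zpowers]
    rw [show orderOf x' = orderOf (x : G) from Subgroup.orderOf_mk _ hxH]
    exact hord
  have hxN3 : x' ∈ normalizer ((P₀ : Subgroup H) : Set H) := by
    apply Cfsg.Agent.Lib.Coprime.Three.mem_normalizer_of_conj_mem
    intro y hy
    have h1 : ((y : H) : G) ∈ Q₀ := ⟨y, hy, rfl⟩
    have h2 := hxconj _ h1
    obtain ⟨w, hw, hw2⟩ := h2
    have : w = x' * y * x'⁻¹ := Subtype.ext (by simpa using hw2)
    rwa [← this]
  have h4 : x' ∈ Subgroup.zpowers x' ⊓ normalizer ((P₀ : Subgroup H) : Set H) :=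
    ⟨Subgroup.mem_zpowers _, hxN3⟩
  have h5 := IsPGroup.inf_normalizer_sylow hZ P₀
  have h6 : x' ∈ Subgroup.zpowers x' ⊓ (P₀ : Subgroup H) := by
    rw [← h5]
    exact h4
  apply hxQ
  exact Subgroup.mem_subgroupOf.mpr ⟨x', h6.2, rfl⟩

/-- `|H|` is coprime to the index of `H` in `G`. -/
theorem coprime_index {H : Subgroup G} (hTI : Cfsg.IsTISubset (H : Set G))
    (hHall : (Nat.card H).Coprime (H.subgroupOf (normalizer (H : Set G))).index) :
    (Nat.card H).Coprime H.index := by
  refine Nat.coprime_of_dvd ?_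
  intro q hq hq1 hq2
  haveI : Fact q.Prime := ⟨hq⟩
  obtain ⟨P, hP⟩ := exists_sylow_le hTI hHall q hq1
  exact P.not_dvd_index (hq2.trans (Subgroup.index_dvd_of_le hP))

/-! ### Largest normal subgroup of order prime to `n` -/

theorem coprime_card_sup {K L : Subgroup G} [K.Normal] {n : ℕ} (hK : (Nat.card K).Coprime n)
    (hL : (Nat.card L).Coprime n) : (Nat.card (K ⊔ L : Subgroup G)).Coprime n := by
  rw [card_eq_card_mul_relIndex (le_sup_left : K ≤ K ⊔ L), Subgroup.relIndex_sup_left]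
  exact Nat.Coprime.mul_left hK (hL.coprime_dvd_left (Subgroup.relIndex_dvd_card _ _))

/-- The supremum of all normal subgroups of order prime to `n` is one of them. -/
theorem sSup_spec (n : ℕ) :
    (sSup {K : Subgroup G | K.Normal ∧ (Nat.card K).Coprime n}).Normal ∧
    (Nat.card (sSup {K : Subgroup G | K.Normal ∧ (Nat.card K).Coprime n} : Subgroup G)).Coprime n := by
  classical
  set S : Set (Subgroup G) := {K : Subgroup G | K.Normal ∧ (Nat.card K).Coprime n} with hS
  have hbot : (⊥ : Subgroup G) ∈ S := ⟨inferInstance, by simp⟩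
  obtain ⟨K₀, hK₀, hmax⟩ := Set.exists_max_image S (fun K : Subgroup G => Nat.card K)
    (Set.toFinite S) ⟨⊥, hbot⟩
  have hsup : sSup S = K₀ := by
    apply le_antisymm
    · refine sSup_le ?_
      intro K hK
      haveI := hK₀.1
      haveI := hK.1
      have h1 : (K₀ ⊔ K : Subgroup G) ∈ S :=
        ⟨inferInstance, coprime_card_sup hK₀.2 hK.2⟩
      have h2 : K₀ = K₀ ⊔ K := Subgroup.eq_of_le_of_card_ge le_sup_left (hmax _ h1)
      rw [h2]
      exact le_sup_right
    · exact le_sSup hK₀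
  rw [hsup]
  exact hK₀

/-! ### The step of the chain -/

theorem exists_chain_step {H : Subgroup G} (hH : H ≠ ⊥)
    (hsep : ∃ (n : ℕ) (M : Fin (n + 1) → Subgroup G), M 0 = ⊥ ∧ M (Fin.last n) = ⊤ ∧ Monotone M ∧
      (∀ i, (M i).Normal) ∧
      ∀ i : Fin n, (∀ q : ℕ, q.Prime → q ∣ (M i.castSucc).relIndex (M i.succ) → q ∣ Nat.card H) ∨
        ((M i.castSucc).relIndex (M i.succ)).Coprime (Nat.card H)) :
    ∃ M₀ M : Subgroup G, M₀.Normal ∧ M.Normal ∧ M₀ ≤ M ∧ (Nat.card M₀).Coprime (Nat.card H) ∧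
      ¬ (Nat.card M).Coprime (Nat.card H) ∧
      ∀ q : ℕ, q.Prime → q ∣ M₀.relIndex M → q ∣ Nat.card H := by
  obtain ⟨n, M, h0, hl, hmono, hn, hf⟩ := hsep
  have hP0 : (Nat.card (M 0)).Coprime (Nat.card H) := by
    rw [h0]
    simp
  have hPl : ¬ (Nat.card (M (Fin.last n))).Coprime (Nat.card H) := by
    rw [hl, Subgroup.card_top]
    intro h
    have h1 : Nat.card H ∣ Nat.card G := Subgroup.card_subgroup_dvd_card H
    have h2 : Nat.card H = 1 := Nat.eq_one_of_dvd_coprimes h h1 dvd_rfl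
    exact hH (Subgroup.eq_bot_of_card_eq H h2)
  have hstep : ∃ i : Fin n, (Nat.card (M i.castSucc)).Coprime (Nat.card H) ∧
      ¬ (Nat.card (M i.succ)).Coprime (Nat.card H) := by
    by_contra hcon
    push Not at hcon
    apply hPl
    exact Fin.induction (motive := fun j => (Nat.card (M j)).Coprime (Nat.card H)) hP0
      (fun i hi => hcon i hi) (Fin.last n)
  obtain ⟨i, hi1, hi2⟩ := hstep
  have hle : M i.castSucc ≤ M i.succ := hmono (Fin.castSucc_le_succ i)
  refine ⟨M i.castSucc, M i.succ, hn _, hn _, hle, hi1, hi2, ?_⟩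
  rcases hf i with h | h
  · exact h
  · exfalso
    apply hi2
    rw [card_eq_card_mul_relIndex hle]
    exact Nat.Coprime.mul_left hi1 h

/-- The index of `X` in `M` with `M` normal equals the index of `X` in `X ⊔ M`. -/
theorem relIndex_sup_of_normal (X M : Subgroup G) [M.Normal] :
    X.relIndex (X ⊔ M) = X.relIndex M := by
  have h1 := card_eq_card_mul_relIndex (le_sup_left : X ≤ X ⊔ M)
  have h2 := card_eq_card_mul_relIndex (le_sup_right : M ≤ X ⊔ M)
  rw [Subgroup.relIndex_sup_right] at h2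
  have h3 := card_eq_card_mul_relIndex (inf_le_right : M ⊓ X ≤ X)
  have h4 := card_eq_card_mul_relIndex (inf_le_left : M ⊓ X ≤ M)
  rw [Subgroup.inf_relIndex_right] at h3
  have h5 : (M ⊓ X).relIndex M = X.relIndex M := by
    rw [inf_comm]
    exact Subgroup.inf_relIndex_right X M
  rw [h5] at h4
  have hI : 0 < Nat.card (M ⊓ X : Subgroup G) := Nat.card_pos
  have hs : 0 < M.relIndex X := Nat.pos_of_dvd_of_pos (Subgroup.relIndex_dvd_card M X) Nat.card_pos
  rw [h1, h3, h4] at h2
  have h6 : Nat.card (M ⊓ X : Subgroup G) * M.relIndex X * X.relIndex (X ⊔ M) =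
      Nat.card (M ⊓ X : Subgroup G) * M.relIndex X * X.relIndex M := by
    rw [h2]
    ring
  exact Nat.eq_of_mul_eq_mul_left (Nat.mul_pos hI hs) h6

/-- The first assertion: `G = O N_G(H)`. -/
theorem sup_normalizer_eq_top {H O M₀ M : Subgroup G} (hTI : Cfsg.IsTISubset (H : Set G))
    (hHall : (Nat.card H).Coprime (H.subgroupOf (normalizer (H : Set G))).index)
    [hMn : M.Normal] (hM₀O : M₀ ≤ O)
    (hM : ¬ (Nat.card M).Coprime (Nat.card H))
    (hpr : ∀ q : ℕ, q.Prime → q ∣ M₀.relIndex M → q ∣ Nat.card H) :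
    O ⊔ normalizer (H : Set G) = ⊤ := by
  classical
  have hcoprime := coprime_index hTI hHall
  -- `M ≤ O ⊔ H`
  set X : Subgroup G := O ⊔ H with hX
  have hMX : M ≤ X := by
    have hd1 : X.relIndex M ∣ M₀.relIndex M :=
      Subgroup.relIndex_dvd_of_le_left M (hM₀O.trans le_sup_left)
    have hd2 : X.relIndex M ∣ H.index := by
      rw [← relIndex_sup_of_normal X M]
      exact (Subgroup.relIndex_dvd_index_of_le le_sup_left).trans
        (Subgroup.index_dvd_of_le le_sup_right)
    have hd : X.relIndex M = 1 := by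
      by_contra hne
      obtain ⟨q, hq, hqd⟩ := Nat.exists_prime_and_dvd hne
      have h1 := hpr q hq (hqd.trans hd1)
      have h2 := hqd.trans hd2
      exact hq.one_lt.ne' (Nat.eq_one_of_dvd_coprimes hcoprime h1 h2)
    exact Subgroup.relIndex_eq_one.mp hd
  -- the prime
  obtain ⟨q, hq, hqM, hqH⟩ := Nat.Prime.not_coprime_iff_dvd.mp hM
  haveI : Fact q.Prime := ⟨hq⟩
  obtain ⟨Q₀, hQ₀⟩ := exists_sylow_le hTI hHall q hqH
  obtain ⟨P⟩ : Nonempty (Sylow q M) := inferInstance
  set R₁ : Subgroup G := (P : Subgroup M).map M.subtype with hR₁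
  have hR₁p : IsPGroup q R₁ := P.2.map M.subtype
  obtain ⟨R₂, hR₂⟩ := hR₁p.exists_le_sylow
  obtain ⟨g, hg⟩ := MulAction.exists_smul_eq G R₂ Q₀
  set R' : Subgroup G := R₁.map (MulAut.conj g).toMonoidHom with hR'
  have hR'Q : R' ≤ H := by
    rintro _ ⟨y, hy, rfl⟩
    apply hQ₀
    rw [← hg, Sylow.coe_subgroup_smul]
    exact ⟨y, hR₂ hy, rfl⟩
  have hR'M : R' ≤ M := by
    rintro _ ⟨y, ⟨z, -, rfl⟩, rfl⟩
    exact hMn.conj_mem _ z.2 g
  have hcard1 : Nat.card R' = Nat.card R₁ :=
    Subgroup.card_map_of_injective (MulAut.conj g).injective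
  have hcard2 : Nat.card R₁ = Nat.card P :=
    Subgroup.card_map_of_injective M.subtype_injective
  have hcard3 : Nat.card (R'.subgroupOf M) = Nat.card R' :=
    Nat.card_congr (Subgroup.subgroupOfEquivOfLe hR'M).toEquiv
  have hR'ne : R' ≠ ⊥ := by
    intro h0
    have h1 : Nat.card P = 1 := by
      rw [← hcard2, ← hcard1, h0]
      simp
    exact (P.ne_bot_of_dvd_card hqM) (Subgroup.eq_bot_of_card_eq _ h1)
  let S : Sylow q M := Sylow.ofCard (R'.subgroupOf M) (by
    rw [hcard3, hcard1, hcard2, Sylow.card_eq_multiplicity])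
  have hS : ((S : Subgroup M).map M.subtype) = R' := by
    show (R'.subgroupOf M).map M.subtype = R'
    exact Subgroup.map_subgroupOf_eq_of_le hR'M
  have hF := Sylow.normalizer_sup_eq_top S
  rw [hS] at hF
  rw [eq_top_iff, ← hF]
  refine sup_le ?_ (hMX.trans ?_)
  · exact (normalizer_le_normalizer hTI hR'Q hR'ne).trans le_sup_right
  · exact sup_le le_sup_left (le_normalizer.trans le_sup_right)

/-- The second assertion: `O H` is normal. -/
theorem sup_normal {H O : Subgroup G} [hO : O.Normal]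
    (h : O ⊔ normalizer (H : Set G) = ⊤) : (O ⊔ H).Normal := by
  have hle : (⊤ : Subgroup G) ≤ normalizer ((O ⊔ H : Subgroup G) : Set G) := by
    rw [← h]
    refine sup_le ?_ ?_
    · exact le_sup_left.trans le_normalizer
    · intro n hn
      apply Cfsg.Agent.Lib.Coprime.Three.mem_normalizer_of_conj_mem
      intro x hx
      have hsub : (O ⊔ H) ≤ (O ⊔ H).comap (MulAut.conj n).toMonoidHom := by
        refine sup_le ?_ ?_
        · intro y hy
          exact Subgroup.mem_sup_left (hO.conj_mem y hy n)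
        · intro y hy
          exact Subgroup.mem_sup_right ((mem_normalizer_iff.mp hn y).mp hy)
      exact hsub hx
  exact Subgroup.normalizer_eq_top_iff.mp (top_le_iff.mp hle)

end Cfsg.Agent.Lib.Coprime.TIHall
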