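import Mathlib
import Cfsg.Agent.Lib.Coprime.TIHall
import Cfsg.Agent.Lib.Coprime.Coset
import Cfsg.Agent.Lib.Coprime.Averaging
import Cfsg.Agent.Lib.Coprime.Basic
import Cfsg.Agent.Lib.Coprime.FrattiniAct
import Cfsg.Agent.Lib.Frobenius.Zass.Half
import Cfsg.Agent.Lib.Frobenius.Zass.Struct

/-!
# A fixed-point-free action from equal centralizers

If `H` acts coprimely on the solvable group `O`, nontrivially, and every nonidentity element of `H`
has the same centralizer in `O` as `H` itself, then `H` acts fixed point freely on the abelianization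
of `[O, H]`.
-/

set_option autoImplicit false
set_option linter.unusedSectionVars false
set_option linter.style.haveILetI false

namespace Cfsg.Agent.Lib.Coprime.TIHall

open Subgroup Cfsg.Agent.Lib.Coprime.Averaging Cfsg.Agent.Lib.Coprime.Coset
open Cfsg.Agent.Lib.Frobenius.Zass
open scoped commutatorElement

variable {G : Type*} [Group G] [Finite G]

/-- The action on the abelianization of a subgroup normalized by `H`. -/
noncomputable def abelAct (H W : Subgroup G) (h : H ≤ normalizer (W : Set G)) :
    H →* MulAut (Abelianization W) where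
  toFun a := (conjHom H W h a).abelianizationCongr
  map_one' := by
    rw [map_one]
    exact abelianizationCongr_refl
  map_mul' a b := by
    ext v
    obtain ⟨w, rfl⟩ := QuotientGroup.mk'_surjective _ v
    change _ = (conjHom H W h a).abelianizationCongr
      ((conjHom H W h b).abelianizationCongr (Abelianization.of w))
    rw [abelianizationCongr_of, abelianizationCongr_of, map_mul]
    exact abelianizationCongr_of _ _

theorem abelAct_of (H W : Subgroup G) (h : H ≤ normalizer (W : Set G)) (a : H) (w : W) :
    abelAct H W h a (Abelianization.of w) = Abelianization.of (conjHom H W h a w) :=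
  abelianizationCongr_of _ _

theorem fpfAct_of_commutator {O H : Subgroup G} (hcop : (Nat.card H).Coprime (Nat.card O))
    (hHO : H ≤ normalizer (O : Set G)) (hsolv : Group.IsSolvable O) (hne : ⁅O, H⁆ ≠ ⊥)
    (hcent : ∀ h ∈ H, h ≠ 1 → ∀ x ∈ O, x * h = h * x → x ∈ centralizer (H : Set G)) :
    FpfAct H := by
  classical
  letI : Fintype H := Fintype.ofFinite H
  set W : Subgroup G := ⁅O, H⁆ with hW
  have hWO : W ≤ O := commutator_le_left_of_le_normalizer hHO
  have hHW : H ≤ normalizer (W : Set G) := commutator_le_normalizer_right hHO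
  have hWW : ⁅W, H⁆ = W := commutator_commutator_eq hHO hcop (Or.inr hsolv)
  have hcopW : (Nat.card H).Coprime (Nat.card W) := hcop.coprime_dvd_right (card_dvd_of_le hWO)
  haveI hsolvW : Group.IsSolvable W := Cfsg.Agent.Lib.Coprime.Basic.isSolvable_of_le hWO
  let φ : H →* MulAut (Abelianization W) := abelAct H W hHW
  have hφ : ∀ (a : H) (w : W), φ a (Abelianization.of w) =
      Abelianization.of (conjHom H W hHW a w) := fun a w => abelAct_of H W hHW a w
  haveI hWnt : Nontrivial W := (Subgroup.nontrivial_iff_ne_bot W).mpr hne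
  haveI hVnt : Nontrivial (Abelianization W) := by
    have h1 : commutator W ≠ ⊤ := (Group.IsSolvable.commutator_lt_top_of_nontrivial W).ne
    exact QuotientGroup.nontrivial_iff.mpr h1
  have hcardV : (Fintype.card H).Coprime (Nat.card (Abelianization W)) := by
    rw [← Nat.card_eq_fintype_card]
    exact hcopW.coprime_dvd_right (Subgroup.card_quotient_dvd_card _)
  -- every class lies in the commutator
  have hcomm : ∀ w : W, Abelianization.of w ∈ commSubgroup φ := by
    have hle : W ≤ ((commSubgroup φ).comap Abelianization.of).map W.subtype := by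
      calc W = ⁅W, H⁆ := hWW.symm
        _ ≤ _ := ?_
      rw [Subgroup.commutator_le]
      intro k hk a ha
      have hval : (⁅k, a⁆ : G) = k * (a * k * a⁻¹)⁻¹ := by
        simp only [commutatorElement_def]; group
      have hmem : (⁅k, a⁆ : G) ∈ W := by
        rw [← hWW]
        exact Subgroup.commutator_mem_commutator hk ha
      refine ⟨⟨⁅k, a⁆, hmem⟩, ?_, rfl⟩
      have h2 : (⟨⁅k, a⁆, hmem⟩ : W) = (⟨k, hk⟩ : W) * (conjHom H W hHW ⟨a, ha⟩ ⟨k, hk⟩)⁻¹ := by
        apply Subtype.ext
        rw [Subgroup.coe_mul, Subgroup.coe_inv, conjHom_coe]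
        exact hval
      show Abelianization.of (⟨⁅k, a⁆, hmem⟩ : W) ∈ commSubgroup φ
      rw [h2, map_mul, map_inv, ← hφ]
      have h4 : φ ⟨a, ha⟩ (Abelianization.of (⟨k, hk⟩ : W)) *
          (Abelianization.of (⟨k, hk⟩ : W))⁻¹ ∈ commSubgroup φ :=
        Subgroup.subset_closure ⟨⟨a, ha⟩, _, rfl⟩
      have h5 := Subgroup.inv_mem _ h4
      rw [mul_inv_rev, inv_inv] at h5
      exact h5
    intro w
    obtain ⟨w', hw', hww'⟩ := hle w.2
    have : w' = w := Subtype.ext hww'
    rwa [← this]
  refine FpfAct.of_action φ ?_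
  intro c hc1 n hn
  obtain ⟨w, rfl⟩ : ∃ w : W, Abelianization.of w = n := QuotientGroup.mk'_surjective _ n
  have hc1' : (c : G) ≠ 1 := fun h => hc1 (Subtype.ext h)
  -- powers of `c` fix the class
  let St : Subgroup H :=
    { carrier := {a | φ a (Abelianization.of w) = Abelianization.of w}
      one_mem' := by simp
      mul_mem' := by
        intro a b ha hb
        show φ (a * b) _ = _
        rw [map_mul, MulAut.mul_apply, hb, ha]
      inv_mem' := by
        intro a ha
        show φ a⁻¹ _ = _
        have h0 : φ a⁻¹ (φ a (Abelianization.of w)) = Abelianization.of w := by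
          rw [← MulAut.mul_apply, ← map_mul]
          simp
        rw [ha] at h0
        exact h0 }
  have hcSt : zpowers c ≤ St := by
    rw [Subgroup.zpowers_le]
    exact hn
  set A : Subgroup G := (zpowers c).map H.subtype with hA
  have hAH : A ≤ H := by
    rintro _ ⟨y, -, rfl⟩
    exact y.2
  have hcA : (c : G) ∈ A := ⟨c, Subgroup.mem_zpowers c, rfl⟩
  set N₁ : Subgroup G := (commutator W).map W.subtype with hN₁
  have hcenN : ∀ a ∈ A, (w : G)⁻¹ * (a * w * a⁻¹) ∈ N₁ := by
    rintro _ ⟨y, hy, rfl⟩
    have h1 : φ y (Abelianization.of w) = Abelianization.of w := hcSt hy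
    rw [hφ] at h1
    have h2 := QuotientGroup.eq.mp h1.symm
    exact ⟨_, h2, by simp [conjHom_coe]⟩
  obtain ⟨x, hx, hwx⟩ := exists_centralizer_mem_coset (A := A) (K := W) (N := N₁)
    (hAH.trans hHW) (hcopW.coprime_dvd_left (card_dvd_of_le hAH)) (Or.inr hsolvW)
    (Subgroup.map_subtype_le _)
    (fun a ha => Cfsg.Agent.Lib.Coprime.FrattiniAct.map_char_mem_normalizer (commutator W)
      inferInstance (hHW (hAH ha))) w w.2 hcenN
  have hxc : x * c = c * x := (Subgroup.mem_centralizer_iff.mp hx.2 c hcA).symm
  have hxH : x ∈ centralizer (H : Set G) := hcent c c.2 hc1' x (hWO hx.1) hxc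
  let x' : W := ⟨x, hx.1⟩
  have hof : Abelianization.of w = Abelianization.of x' := by
    obtain ⟨y, hy, hyv⟩ := hwx
    refine QuotientGroup.eq.mpr ?_
    have : w⁻¹ * x' = y := Subtype.ext (by simpa [x'] using hyv.symm)
    rwa [this]
  have hfix : Abelianization.of x' ∈ Cfsg.Agent.Lib.Coprime.Averaging.fixedSubgroup φ := by
    intro a
    rw [hφ]
    congr 1
    apply Subtype.ext
    rw [conjHom_coe]
    have h1 := Subgroup.mem_centralizer_iff.mp hxH a a.2
    show (a : G) * x * (a : G)⁻¹ = x
    rw [h1]
    group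
  have hmem : Abelianization.of x' ∈
      Cfsg.Agent.Lib.Coprime.Averaging.fixedSubgroup φ ⊓ commSubgroup φ := ⟨hfix, hcomm x'⟩
  rw [fixed_inf_comm φ hcardV, Subgroup.mem_bot] at hmem
  rw [hof, hmem]

end Cfsg.Agent.Lib.Coprime.TIHall
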