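import Mathlib
import Cfsg.Agent.Lib.Coprime.TIHallFpf
import Cfsg.Agent.Lib.Coprime.InvSylow
import Cfsg.Agent.Lib.PqFpf.Struct

/-!
# Coprime automorphisms of groups with cyclic or quaternion Sylow subgroups

A group `D` of order prime to `|H|` acting on a group `H` with fixed-point-free action and solvable
acts with abelian image: the commutator subgroup of `D` centralizes `H`.
-/

set_option autoImplicit false
set_option linter.unusedSectionVars false
set_option linter.style.haveILetI false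

namespace Cfsg.Agent.Lib.Coprime.TIHall

open Subgroup Cfsg.Agent.Lib.Coprime.Averaging Cfsg.Agent.Lib.Coprime.Coset
open Cfsg.Agent.Lib.Frobenius.Zass
open scoped commutatorElement

variable {G : Type*} [Group G] [Finite G]

theorem comm_centralizer_of_comm {D T : Subgroup G} (hD : D ≤ normalizer (T : Set G)) {x y : G}
    (hx : x ∈ D) (hy : y ∈ D)
    (hc : conjHom D T hD ⟨x, hx⟩ * conjHom D T hD ⟨y, hy⟩ =
      conjHom D T hD ⟨y, hy⟩ * conjHom D T hD ⟨x, hx⟩) :
    x * y * x⁻¹ * y⁻¹ ∈ centralizer (T : Set G) := by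
  set x' : D := ⟨x, hx⟩
  set y' : D := ⟨y, hy⟩
  have h1 : conjHom D T hD (x' * y' * x'⁻¹ * y'⁻¹) = 1 := by
    rw [map_mul, map_mul, map_mul, map_inv, map_inv, hc]
    group
  rw [Subgroup.mem_centralizer_iff]
  intro z hz
  have h2 : conjHom D T hD (x' * y' * x'⁻¹ * y'⁻¹) ⟨z, hz⟩ = ⟨z, hz⟩ := by
    rw [h1]
    rfl
  have h3 := congrArg (fun w : T => (w : G)) h2
  simp only [conjHom_coe] at h3
  have h4 : (x * y * x⁻¹ * y⁻¹) * z * (x * y * x⁻¹ * y⁻¹)⁻¹ = z := h3
  calc z * (x * y * x⁻¹ * y⁻¹) = ((x * y * x⁻¹ * y⁻¹) * z * (x * y * x⁻¹ * y⁻¹)⁻¹) *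
        (x * y * x⁻¹ * y⁻¹) := by rw [h4]
    _ = (x * y * x⁻¹ * y⁻¹) * z := by group

/-- A quaternion group has at most four cosets of the Frattini subgroup. -/
theorem card_frattini_quot_le_four {T : Type*} [Group T] [Finite T] {n : ℕ}
    (e : T ≃* QuaternionGroup (2 ^ n)) : Nat.card (T ⧸ frattini T) ≤ 4 := by
  classical
  haveI : NeZero (2 ^ n) := ⟨by positivity⟩
  haveI : NeZero (2 * 2 ^ n) := ⟨by positivity⟩
  haveI : Fact (Nat.Prime 2) := ⟨Nat.prime_two⟩
  have hT : IsPGroup 2 T := by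
    refine IsPGroup.of_card (n := n + 2) ?_
    rw [Nat.card_congr e.toEquiv, Nat.card_eq_fintype_card, QuaternionGroup.card]
    ring
  set a' : T := e.symm (QuaternionGroup.a 1) with ha'
  set x' : T := e.symm (QuaternionGroup.xa 0) with hx'
  let mk' : T →* T ⧸ frattini T := QuotientGroup.mk' (frattini T)
  have ha2 : (mk' a') ^ 2 = 1 := by
    rw [sq, ← map_mul]
    exact (QuotientGroup.eq_one_iff _).mpr (Cfsg.Agent.Lib.PqFpf.sq_mem_frattini hT a')
  let F : Fin 2 × Fin 2 → T ⧸ frattini T :=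
    fun p => (mk' x') ^ (p.1 : ℕ) * (mk' a') ^ (p.2 : ℕ)
  have hF : Function.Surjective F := by
    intro q
    obtain ⟨t, rfl⟩ := QuotientGroup.mk'_surjective (frattini T) q
    have hlt : ∀ k : ℕ, k % 2 < 2 := fun k => Nat.mod_lt _ (by norm_num)
    have hk : ∀ i : ZMod (2 * 2 ^ n), (QuaternionGroup.a i : QuaternionGroup (2 ^ n)) =
        (QuaternionGroup.a 1) ^ i.val := by
      intro i
      rw [QuaternionGroup.a_one_pow, ZMod.natCast_zmod_val]
    have hka : ∀ i : ZMod (2 * 2 ^ n), mk' (e.symm (QuaternionGroup.a i)) =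
        (mk' a') ^ (i.val % 2) := by
      intro i
      rw [hk i, map_pow, map_pow, ← pow_eq_pow_mod _ ha2]
    cases h : e t with
    | a i =>
      refine ⟨(0, ⟨i.val % 2, hlt _⟩), ?_⟩
      have h1 : t = e.symm (QuaternionGroup.a i) := by rw [← h]; simp
      show (mk' x') ^ 0 * (mk' a') ^ (i.val % 2) = mk' t
      rw [h1, hka i, pow_zero, one_mul]
    | xa i =>
      refine ⟨(1, ⟨i.val % 2, hlt _⟩), ?_⟩
      have h1 : t = x' * e.symm (QuaternionGroup.a i) := by
        rw [hx', ← map_mul, QuaternionGroup.xa_mul_a, zero_add, ← h]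
        simp
      show (mk' x') ^ 1 * (mk' a') ^ (i.val % 2) = mk' t
      rw [h1, map_mul, hka i, pow_one]
  have h4 := Nat.card_le_card_of_surjective F hF
  simpa using h4

/-- The conjugation action on the Frattini quotient. -/
noncomputable def fratAct (D T : Subgroup G) (hD : D ≤ normalizer (T : Set G)) :
    D →* Equiv.Perm (T ⧸ frattini T) where
  toFun a := (QuotientGroup.congr (frattini T) (frattini T) (conjHom D T hD a)
    (Subgroup.characteristic_iff_map_eq.mp (frattini_characteristic (G := T)) _)).toEquiv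
  map_one' := by
    ext q
    obtain ⟨t, rfl⟩ := QuotientGroup.mk'_surjective (frattini T) q
    simp
  map_mul' a b := by
    ext q
    obtain ⟨t, rfl⟩ := QuotientGroup.mk'_surjective (frattini T) q
    simp
    rfl

theorem fratAct_mk (D T : Subgroup G) (hD : D ≤ normalizer (T : Set G)) (a : D) (t : T) :
    fratAct D T hD a (t : T ⧸ frattini T) = (conjHom D T hD a t : T) :=
  rfl

/-- Odd automorphism groups when `|T : Φ(T)| ≤ 4`. -/
theorem comm_of_small_frattini {D T : Subgroup G} (hT : IsPGroup 2 T)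
    (hD : D ≤ normalizer (T : Set G)) (hodd : (Nat.card D).Coprime 2)
    (hE : Nat.card (T ⧸ frattini T) ≤ 4) {x y : G} (hx : x ∈ D) (hy : y ∈ D) :
    x * y * x⁻¹ * y⁻¹ ∈ centralizer (T : Set G) := by
  classical
  haveI : Fact (Nat.Prime 2) := ⟨Nat.prime_two⟩
  let ψ := fratAct D T hD
  have h1 : Nat.card ψ.range ∣ Nat.card D := Subgroup.card_range_dvd ψ
  have h2 : Nat.card ψ.range ∣ 24 := by
    have h3 : Nat.card ψ.range ∣ Nat.card (Equiv.Perm (T ⧸ frattini T)) :=
      Subgroup.card_subgroup_dvd_card _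
    rw [Nat.card_perm] at h3
    exact h3.trans (Nat.factorial_dvd_factorial hE)
  have h5 : Nat.card ψ.range ∣ 3 := by
    have h6 : (Nat.card ψ.range).Coprime 8 := by
      have : (Nat.card ψ.range).Coprime 2 := hodd.coprime_dvd_left h1
      exact Nat.Coprime.pow_right 3 this
    exact h6.dvd_of_dvd_mul_left (by simpa using h2)
  haveI hcyc : IsCyclic ψ.range := by
    rcases (Nat.dvd_prime Nat.prime_three).mp h5 with h | h
    · haveI : Subsingleton ψ.range := (Nat.card_eq_one_iff_unique.mp h).1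
      exact isCyclic_of_subsingleton
    · haveI : Fact (Nat.Prime (Nat.card ψ.range)) := ⟨by rw [h]; exact Nat.prime_three⟩
      exact isCyclic_of_prime_card rfl
  have hcomm : ψ ⟨x, hx⟩ * ψ ⟨y, hy⟩ = ψ ⟨y, hy⟩ * ψ ⟨x, hx⟩ := by
    have h7 := mul_comm' (⟨ψ ⟨x, hx⟩, ⟨_, rfl⟩⟩ : ψ.range) ⟨ψ ⟨y, hy⟩, ⟨_, rfl⟩⟩
    exact congrArg Subtype.val h7
  set A : Subgroup G := ψ.ker.map D.subtype with hA
  have hAD : A ≤ D := Subgroup.map_subtype_le _
  have hcard : (Nat.card A).Coprime 2 := hodd.coprime_dvd_left (Subgroup.card_dvd_of_le hAD)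
  have hcent := Cfsg.Agent.Lib.Coprime.FrattiniAct.le_centralizer_of_frattini hT (hAD.trans hD)
    hcard (by
      rintro t ht _ ⟨a, ha, rfl⟩
      have h8 : ψ a = 1 := ha
      have h9 : fratAct D T hD a ((⟨t, ht⟩ : T) : T ⧸ frattini T) =
          ((⟨t, ht⟩ : T) : T ⧸ frattini T) := by
        show ψ a _ = _
        rw [h8]
        rfl
      rw [fratAct_mk] at h9
      have h10 := QuotientGroup.eq.mp h9.symm
      refine ⟨_, h10, ?_⟩
      simp [conjHom_coe])
  apply hcent
  refine ⟨⟨x, hx⟩ * ⟨y, hy⟩ * ⟨x, hx⟩⁻¹ * ⟨y, hy⟩⁻¹, ?_, rfl⟩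
  show ψ _ = 1
  rw [map_mul, map_mul, map_mul, map_inv, map_inv, hcomm]
  group

/-- The main lemma of this file. -/
theorem comm_mem_centralizer {H D : Subgroup G} (hA : FpfAct H)
    (hD : D ≤ normalizer (H : Set G)) (hcop : (Nat.card D).Coprime (Nat.card H))
    (hsolv : Group.IsSolvable H) {x y : G} (hx : x ∈ D) (hy : y ∈ D) :
    x * y * x⁻¹ * y⁻¹ ∈ centralizer (H : Set G) := by
  classical
  set c : G := x * y * x⁻¹ * y⁻¹ with hc
  set C : Subgroup H := (centralizer ({c} : Set G)).subgroupOf H with hC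
  have hidx : C.index = 1 := by
    by_contra hne
    obtain ⟨q, hq, hqd⟩ := Nat.exists_prime_and_dvd hne
    haveI : Fact q.Prime := ⟨hq⟩
    have hqH : q ∣ Nat.card H := hqd.trans (Subgroup.index_dvd_card C)
    obtain ⟨P, hP⟩ := Cfsg.Agent.Lib.Coprime.InvSylow.exists_invariant_sylow hD hcop (Or.inr hsolv) q
    set T : Subgroup G := (P : Subgroup H).map H.subtype with hT
    have hTp : IsPGroup q T := P.2.map H.subtype
    have hcT : c ∈ centralizer (T : Set G) := by
      rcases hA.sylow q (P : Subgroup H) P.2 with hcyc | ⟨h2, n, ⟨e⟩⟩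
      · have e' : T ≃* (P : Subgroup H) := ((P : Subgroup H).equivMapOfInjective H.subtype
          H.subtype_injective).symm
        haveI : IsCyclic T := isCyclic_of_surjective e'.symm e'.symm.surjective
        refine comm_centralizer_of_comm hP hx hy ?_
        apply (IsCyclic.mulAutMulEquiv T).injective
        rw [map_mul, map_mul, mul_comm]
      · subst h2
        have e' : T ≃* QuaternionGroup (2 ^ n) := ((P : Subgroup H).equivMapOfInjective H.subtype
          H.subtype_injective).symm.trans e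
        have hodd : (Nat.card D).Coprime 2 := hcop.coprime_dvd_right hqH
        exact comm_of_small_frattini hTp hP hodd (card_frattini_quot_le_four e') hx hy
    have hPC : (P : Subgroup H) ≤ C := by
      intro z hz
      rw [hC, Subgroup.mem_subgroupOf, Subgroup.mem_centralizer_iff]
      intro u hu
      rw [Set.mem_singleton_iff] at hu
      subst hu
      have hzT : (z : G) ∈ T := ⟨z, hz, rfl⟩
      exact (Subgroup.mem_centralizer_iff.mp hcT z hzT).symm
    exact P.not_dvd_index (hqd.trans (Subgroup.index_dvd_of_le hPC))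
  have htop : C = ⊤ := Subgroup.index_eq_one.mp hidx
  rw [Subgroup.mem_centralizer_iff]
  intro z hz
  have h1 : (⟨z, hz⟩ : H) ∈ C := by rw [htop]; trivial
  have h2 : z ∈ centralizer ({c} : Set G) := Subgroup.mem_subgroupOf.mp h1
  have h3 := Subgroup.mem_centralizer_iff.mp h2 c rfl
  exact h3.symm

end Cfsg.Agent.Lib.Coprime.TIHall
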