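import Mathlib
import Cfsg.Agent.Lib.Coprime.TIHallAct
import Cfsg.Agent.Lib.PSL2.Overgroups

/-!
# Solvability of `π`-separable groups with a TI Hall-in-normalizer subgroup
-/

set_option autoImplicit false
set_option linter.unusedSectionVars false
set_option linter.style.haveILetI false

namespace Cfsg.Agent.Lib.Coprime.TIHall

open Subgroup Cfsg.Agent.Lib.Coprime.Coset
open Cfsg.Agent.Lib.Frobenius.Zass
open scoped MatrixGroups

variable {G : Type*} [Group G] [Finite G]

/-- `SL(2, 5)` is not solvable. -/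
theorem not_isSolvable_sl25 : ¬ Group.IsSolvable (Matrix.SpecialLinearGroup (Fin 2) (ZMod 5)) := by
  intro h
  haveI : Fact (Nat.Prime 5) := ⟨by norm_num⟩
  have h1 := Cfsg.Agent.Lib.PSL2.Overgroups.not_solvable_psl (K := ZMod 5) (by
    rw [ZMod.card]; norm_num)
  apply h1
  haveI := h
  exact Group.isSolvable_of_surjective (f := QuotientGroup.mk' _) (QuotientGroup.mk'_surjective _)

/-- `O ⊔ H` is solvable. -/
theorem isSolvable_sup {O H : Subgroup G} [hO : O.Normal] (hOs : Group.IsSolvable O)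
    (hHs : Group.IsSolvable H) : Group.IsSolvable (O ⊔ H : Subgroup G) := by
  let f : O →* (O ⊔ H : Subgroup G) := Subgroup.inclusion le_sup_left
  let g : (O ⊔ H : Subgroup G) →* G ⧸ O := (QuotientGroup.mk' O).comp (O ⊔ H : Subgroup G).subtype
  have hker : g.ker ≤ f.range := by
    intro x hx
    have h1 : (x : G) ∈ O := (QuotientGroup.eq_one_iff _).mp hx
    exact ⟨⟨x, h1⟩, Subtype.ext rfl⟩
  haveI hrange : Group.IsSolvable g.range := by
    let k : H →* g.range := ((QuotientGroup.mk' O).comp H.subtype).codRestrict g.range (by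
      intro y
      exact ⟨⟨y, Subgroup.mem_sup_right y.2⟩, rfl⟩)
    refine Group.isSolvable_of_surjective (f := k) ?_
    rintro ⟨_, ⟨x, rfl⟩⟩
    obtain ⟨a, ha, b, hb, hab⟩ := Subgroup.mem_sup_of_normal_left.mp x.2
    refine ⟨⟨b, hb⟩, Subtype.ext ?_⟩
    show (b : G ⧸ O) = ((x : G) : G ⧸ O)
    rw [← hab]
    refine QuotientGroup.eq.mpr ?_
    have : b⁻¹ * (a * b) = b⁻¹ * a * b⁻¹⁻¹ := by group
    rw [this]
    exact hO.conj_mem _ ha _
  haveI := hOs
  exact Group.isSolvable_of_ker_le_range f g.rangeRestrict (by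
    rw [MonoidHom.ker_rangeRestrict]
    exact hker)

/-- The main solvability assertion. -/
theorem isSolvable_of_main {H O : Subgroup G} (hTI : Cfsg.IsTISubset (H : Set G)) (hnn : ¬ H.Normal)
    (hHall : (Nat.card H).Coprime (H.subgroupOf (normalizer (H : Set G))).index)
    [hOn : O.Normal] (hOc : (Nat.card O).Coprime (Nat.card H))
    (hOmax : ∀ K : Subgroup G, K.Normal → (Nat.card K).Coprime (Nat.card H) → K ≤ O)
    (htop : O ⊔ normalizer (H : Set G) = ⊤) (hOs : Group.IsSolvable O)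
    (hSL : ∀ K : Subgroup G, K ≤ H → ¬ Nonempty (K ≃* Matrix.SpecialLinearGroup (Fin 2) (ZMod 5))) :
    Group.IsSolvable G := by
  classical
  have hHO : H ≤ normalizer (O : Set G) := by
    rw [normalizer_eq_top_iff.mpr hOn]
    exact le_top
  have hinf : O ⊓ H = ⊥ := Cfsg.Agent.Lib.Coprime.Coset.inf_eq_bot_of_coprime hOc
  -- nontrivial action
  have hne : ⁅O, H⁆ ≠ ⊥ := by
    intro h0
    rw [Subgroup.commutator_eq_bot_iff_le_centralizer] at h0
    apply hnn
    have h1 : O ≤ normalizer (H : Set G) := h0.trans (Subgroup.centralizer_le_normalizer _)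
    rw [sup_eq_right.mpr h1] at htop
    exact normalizer_eq_top_iff.mp htop
  have hcent : ∀ h ∈ H, h ≠ 1 → ∀ x ∈ O, x * h = h * x → x ∈ centralizer (H : Set G) := by
    intro h hh hh1 x hx hxh
    have hxN : x ∈ normalizer (H : Set G) := by
      refine mem_normalizer_of_conj hTI hh hh1 ?_
      rw [hxh, mul_inv_cancel_right]
      exact hh
    rw [Subgroup.mem_centralizer_iff]
    intro y hy
    have h1 : x * y * x⁻¹ * y⁻¹ ∈ H :=
      H.mul_mem ((mem_normalizer_iff.mp hxN y).mp hy) (H.inv_mem hy)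
    have h2 : x * y * x⁻¹ * y⁻¹ ∈ O := by
      have h3 : x * (y * x⁻¹ * y⁻¹) = x * y * x⁻¹ * y⁻¹ := by group
      rw [← h3]
      exact O.mul_mem hx (hOn.conj_mem _ (O.inv_mem hx) y)
    have h4 : x * y * x⁻¹ * y⁻¹ ∈ O ⊓ H := ⟨h2, h1⟩
    rw [hinf, Subgroup.mem_bot] at h4
    have h5 : x * y = y * x := by
      calc x * y = (x * y * x⁻¹ * y⁻¹) * (y * x) := by group
        _ = y * x := by rw [h4, one_mul]
    exact h5.symm
  have hA : FpfAct H := fpfAct_of_commutator hOc.symm hHO hOs hne hcent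
  -- `H` is solvable
  have hHs : Group.IsSolvable H := by
    by_contra hns
    obtain ⟨S, -, -, e, -⟩ := exists_struct hA hns
    have e' : (S.map H.subtype : Subgroup G) ≃* Matrix.SpecialLinearGroup (Fin 2) (ZMod 5) :=
      (S.equivMapOfInjective H.subtype H.subtype_injective).symm.trans e
    refine hSL _ ?_ ⟨e'⟩
    rintro _ ⟨y, -, rfl⟩
    exact y.2
  -- the complement
  set N : Subgroup G := normalizer (H : Set G) with hN
  set H' : Subgroup N := H.subgroupOf N with hH'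
  haveI : H'.Normal := Subgroup.normal_in_normalizer
  have hcardH' : Nat.card H' = Nat.card H :=
    Nat.card_congr (Subgroup.subgroupOfEquivOfLe (le_normalizer (H := H))).toEquiv
  obtain ⟨D', hD'⟩ := Subgroup.exists_right_complement'_of_coprime (N := H') (by
    rw [hcardH']
    exact hHall)
  set D : Subgroup G := D'.map N.subtype with hD
  have hDN : D ≤ N := Subgroup.map_subtype_le _
  have hcardD : Nat.card D = H'.index := by
    rw [hD, Subgroup.card_map_of_injective N.subtype_injective]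
    exact hD'.symm.index_eq_card.symm
  have hcopD : (Nat.card D).Coprime (Nat.card H) := by
    rw [hcardD]
    exact hHall.symm
  have hdecomp : ∀ n ∈ N, ∃ h ∈ H, ∃ d ∈ D, h * d = n := by
    intro n hn
    obtain ⟨⟨h, d⟩, hhd⟩ := hD'.2 ⟨n, hn⟩
    refine ⟨(h : N), Subgroup.mem_subgroupOf.mp h.2, (d : N), ⟨d, d.2, rfl⟩, ?_⟩
    exact congrArg (fun z : N => (z : G)) hhd
  -- `C_D(H) ≤ O`
  set D₀ : Subgroup G := D ⊓ centralizer (H : Set G) with hD₀
  have hD₀norm : N ≤ normalizer (D₀ : Set G) := by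
    intro n hn
    apply Cfsg.Agent.Lib.Coprime.Three.mem_normalizer_of_conj_mem
    intro z hz
    obtain ⟨h, hh, d, hd, rfl⟩ := hdecomp n hn
    have hdN : d ∈ N := hDN hd
    have hzD : d * z * d⁻¹ ∈ D := D.mul_mem (D.mul_mem hd hz.1) (D.inv_mem hd)
    have hzC : d * z * d⁻¹ ∈ centralizer (H : Set G) := by
      rw [Subgroup.mem_centralizer_iff]
      intro u hu
      have h1 : d⁻¹ * u * d ∈ H := by
        have := (mem_normalizer_iff.mp (N.inv_mem hdN) u).mp hu
        simpa using this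
      have h2 := Subgroup.mem_centralizer_iff.mp hz.2 _ h1
      calc u * (d * z * d⁻¹) = d * ((d⁻¹ * u * d) * z) * d⁻¹ := by group
        _ = d * (z * (d⁻¹ * u * d)) * d⁻¹ := by rw [h2]
        _ = d * z * d⁻¹ * u := by group
    have h3 : h * d * z * (h * d)⁻¹ = h * (d * z * d⁻¹) * h⁻¹ := by group
    rw [h3, Subgroup.mem_centralizer_iff.mp hzC h hh, mul_inv_cancel_right]
    exact ⟨hzD, hzC⟩
  have hD₀O : D₀ ≤ O := by
    have hnorm : (O ⊔ D₀ : Subgroup G).Normal := sup_normal (H := D₀) (by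
      rw [eq_top_iff, ← htop]
      exact sup_le le_sup_left (hD₀norm.trans le_sup_right))
    have hc : (Nat.card (O ⊔ D₀ : Subgroup G)).Coprime (Nat.card H) :=
      coprime_card_sup hOc (hcopD.coprime_dvd_left (Subgroup.card_dvd_of_le inf_le_left))
    exact le_sup_right.trans (hOmax _ hnorm hc)
  have hcommO : ∀ x ∈ D, ∀ y ∈ D, x * y * x⁻¹ * y⁻¹ ∈ O := by
    intro x hx y hy
    apply hD₀O
    refine ⟨D.mul_mem (D.mul_mem (D.mul_mem hx hy) (D.inv_mem hx)) (D.inv_mem hy), ?_⟩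
    exact comm_mem_centralizer hA hDN hcopD hHs hx hy
  -- solvable
  set G₁ : Subgroup G := O ⊔ H with hG₁
  haveI hG₁n : G₁.Normal := sup_normal htop
  haveI hG₁s : Group.IsSolvable G₁ := isSolvable_sup hOs hHs
  have hquot : ∀ g : G, ∃ d ∈ D, (g : G ⧸ G₁) = (d : G ⧸ G₁) := by
    intro g
    have hg : g ∈ O ⊔ N := by rw [htop]; trivial
    obtain ⟨o, ho, n, hn, rfl⟩ := Subgroup.mem_sup_of_normal_left.mp hg
    obtain ⟨h, hh, d, hd, rfl⟩ := hdecomp n hn
    refine ⟨d, hd, ?_⟩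
    refine QuotientGroup.eq.mpr ?_
    have h1 : (o * (h * d))⁻¹ * d = d⁻¹ * (o * h)⁻¹ * d⁻¹⁻¹ := by group
    rw [h1]
    exact hG₁n.conj_mem _
      (G₁.inv_mem (G₁.mul_mem (Subgroup.mem_sup_left ho) (Subgroup.mem_sup_right hh))) _
  have hcommQ : ∀ a b : G ⧸ G₁, a * b = b * a := by
    intro a b
    obtain ⟨g₁, rfl⟩ := QuotientGroup.mk_surjective a
    obtain ⟨g₂, rfl⟩ := QuotientGroup.mk_surjective b
    obtain ⟨d₁, hd₁, h₁⟩ := hquot g₁
    obtain ⟨d₂, hd₂, h₂⟩ := hquot g₂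
    rw [h₁, h₂, ← QuotientGroup.mk_mul, ← QuotientGroup.mk_mul]
    refine QuotientGroup.eq.mpr ?_
    have h3 : (d₁ * d₂)⁻¹ * (d₂ * d₁) = (d₁ * d₂)⁻¹ * (d₂ * d₁ * d₂⁻¹ * d₁⁻¹) * (d₁ * d₂) := by group
    rw [h3]
    have h4 : d₂ * d₁ * d₂⁻¹ * d₁⁻¹ ∈ G₁ := Subgroup.mem_sup_left (hcommO d₂ hd₂ d₁ hd₁)
    have := hG₁n.conj_mem _ h4 (d₁ * d₂)⁻¹
    simpa using this
  haveI : Group.IsSolvable (G ⧸ G₁) := Group.isSolvable_of_comm hcommQ
  refine Group.isSolvable_of_ker_le_range G₁.subtype (QuotientGroup.mk' G₁) ?_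
  rw [QuotientGroup.ker_mk', Subgroup.range_subtype]

end Cfsg.Agent.Lib.Coprime.TIHall
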