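import Mathlib
import Cfsg.Agent.Lib.Transfer.HomocyclicSylow
import Cfsg.Agent.Lib.Transfer.Frobenius
import Cfsg.Agent.Lib.Basic.SylowUtil

/-!
# Group theory for groups with homocyclic Sylow 2-subgroups

The solvability of the odd-order groups is a parameter `hFT` here.
-/

set_option autoImplicit false
set_option linter.style.longLine false
set_option linter.style.haveILetI false
set_option linter.unusedSectionVars false

namespace Cfsg.Agent.Lib.Coprime.HomocyclicGT

open Cfsg.Agent.Lib.Transfer.HomocyclicSylow Subgroup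
open Cfsg.Agent.Lib.Basic.SylowUtil

universe u

section Basic

variable {X : Type u} [Group X]

/-- An odd-order element lies in every subgroup of index two. -/
theorem mem_of_odd_of_index_two {K : Subgroup X} (hK : K.index = 2) {h : X} {n : ℕ} (hn : Odd n)
    (hpow : h ^ n = 1) : h ∈ K := by
  obtain ⟨m, rfl⟩ := hn
  have h1 : h * h ∈ K := by
    rw [Subgroup.mul_mem_iff_of_index_two hK]
  have h2 : h ^ (2 * m + 1) = (h * h) ^ m * h := by
    rw [pow_succ, pow_mul, pow_two]
  rw [h2] at hpow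
  have h3 : (h * h) ^ m * h ∈ K := by rw [hpow]; exact K.one_mem
  rw [Subgroup.mul_mem_iff_of_index_two hK] at h3
  exact h3.1 (K.pow_mem h1 m)

variable [Finite X]

/-- The norm argument: an odd element normalizing an abelian Sylow `2`-subgroup `T` with at most three
involutions centralizes `T` if `T` is not in a subgroup `K` of index two. -/
theorem normalizer_le_of_index_two [Fact (Nat.Prime 2)] (T : Sylow 2 X)
    (hab : ∀ x ∈ (T : Subgroup X), ∀ y ∈ (T : Subgroup X), x * y = y * x)
    (hcard : (omega (T : Subgroup X)).ncard ≤ 3)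
    {K : Subgroup X} (hKn : K.Normal) (hK : K.index = 2) :
    Subgroup.normalizer ((T : Subgroup X) : Set X) ≤ Subgroup.centralizer (T : Set X) := by
  intro g hg
  obtain ⟨h, y, rfl, hy, hh, n, hn, hpow⟩ := exists_odd_mul T g hg
  have hhK : h ∈ K := mem_of_odd_of_index_two hK hn hpow
  obtain ⟨y₀, hy₀, hy₀K⟩ : ∃ y₀ ∈ (T : Subgroup X), y₀ ∉ K := by
    by_contra hall
    push Not at hall
    have h1 : K.index ∣ (T : Subgroup X).index := Subgroup.index_dvd_of_le hall
    rw [hK] at h1
    exact T.not_dvd_index h1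
  have hconjT : ∀ i : ℕ, h ^ i * y₀ * (h ^ i)⁻¹ ∈ (T : Subgroup X) := fun i =>
    (Subgroup.mem_normalizer_iff.1 (pow_mem hh i) y₀).1 hy₀
  let W : ℕ → X := fun j => Nat.rec 1 (fun i w => w * (h ^ i * y₀ * (h ^ i)⁻¹)) j
  have hWs : ∀ j, W (j + 1) = W j * (h ^ j * y₀ * (h ^ j)⁻¹) := fun j => rfl
  have hW0 : W 0 = 1 := rfl
  have hWT : ∀ j, W j ∈ (T : Subgroup X) := by
    intro j
    induction j with
    | zero => exact (T : Subgroup X).one_mem
    | succ j ih =>
      rw [hWs]
      exact (T : Subgroup X).mul_mem ih (hconjT j)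
  have hW2 : ∀ j, h * W j * h⁻¹ * y₀ = W (j + 1) := by
    intro j
    induction j with
    | zero =>
      rw [hWs, hW0]
      simp
    | succ j ih =>
      have h1 : h * (h ^ j * y₀ * (h ^ j)⁻¹) * h⁻¹ * y₀ = y₀ * (h ^ (j + 1) * y₀ * (h ^ (j + 1))⁻¹) := by
        have h2 : h * (h ^ j * y₀ * (h ^ j)⁻¹) * h⁻¹ = h ^ (j + 1) * y₀ * (h ^ (j + 1))⁻¹ := by
          rw [pow_succ']
          group
        rw [h2]
        exact hab _ (hconjT _) _ hy₀
      calc h * W (j + 1) * h⁻¹ * y₀ = h * (W j * (h ^ j * y₀ * (h ^ j)⁻¹)) * h⁻¹ * y₀ := by rw [hWs]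
        _ = h * W j * h⁻¹ * (h * (h ^ j * y₀ * (h ^ j)⁻¹) * h⁻¹ * y₀) := by group
        _ = h * W j * h⁻¹ * (y₀ * (h ^ (j + 1) * y₀ * (h ^ (j + 1))⁻¹)) := by rw [h1]
        _ = h * W j * h⁻¹ * y₀ * (h ^ (j + 1) * y₀ * (h ^ (j + 1))⁻¹) := by group
        _ = W (j + 1) * (h ^ (j + 1) * y₀ * (h ^ (j + 1))⁻¹) := by rw [ih]
        _ = W (j + 1 + 1) := (hWs (j + 1)).symm
  have hcK : ∀ j : ℕ, h ^ j * y₀ * (h ^ j)⁻¹ ∉ K := by
    intro j hc
    apply hy₀K
    have h1 := hKn.conj_mem _ hc (h ^ j)⁻¹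
    have h2 : (h ^ j)⁻¹ * (h ^ j * y₀ * (h ^ j)⁻¹) * ((h ^ j)⁻¹)⁻¹ = y₀ := by group
    rwa [h2] at h1
  have hWK : ∀ j, W j ∈ K ↔ Even j := by
    intro j
    induction j with
    | zero => simp [hW0, K.one_mem]
    | succ j ih =>
      rw [hWs, Subgroup.mul_mem_iff_of_index_two hK, Nat.even_add_one, ih]
      constructor
      · intro h1 h2
        exact hcK j (h1.1 h2)
      · intro h1
        constructor
        · intro h2
          exact absurd h2 h1
        · intro h2
          exact absurd h2 (hcK j)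
  have hwK : W n ∉ K := by
    rw [hWK]
    exact Nat.not_even_iff_odd.2 hn
  have hw1 : W n ≠ 1 := fun h1 => hwK (by rw [h1]; exact K.one_mem)
  have hfix : h * W n * h⁻¹ = W n := by
    have h1 := hW2 n
    rw [hWs, hpow] at h1
    simp only [one_mul, inv_one, mul_one] at h1
    exact mul_right_cancel h1
  -- an involution fixed by `h`
  obtain ⟨a, ha⟩ := orderOf_eq_pow_of_mem T (hWT n)
  have ha0 : a ≠ 0 := by
    rintro rfl
    rw [pow_zero, orderOf_eq_one_iff] at ha
    exact hw1 ha
  have hd2 : 2 ∣ orderOf (W n) := by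
    rw [ha]
    exact dvd_pow_self 2 ha0
  set u := W n ^ (orderOf (W n) / 2) with hu
  have huo : orderOf u = 2 := orderOf_pow_orderOf_div (orderOf_pos _).ne' hd2
  have huT : u ∈ (T : Subgroup X) := (T : Subgroup X).pow_mem (hWT n) _
  have hu1 : u ≠ 1 := by
    intro h1
    rw [h1, orderOf_one] at huo
    omega
  have hu2 : u ^ 2 = 1 := by
    rw [← huo]
    exact pow_orderOf_eq_one u
  have hufix : h * u * h⁻¹ = u := by
    rw [hu, ← conj_pow, hfix]
  have huom : u ∈ omega (T : Subgroup X) := ⟨huT, hu1, hu2⟩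
  have hufix' : h⁻¹ * u * h = u := by
    nth_rewrite 1 [← hufix]
    group
  have htriv : ∀ x ∈ (T : Subgroup X), x ^ 2 = 1 → h * x * h⁻¹ = x := by
    intro x hx hx2
    by_cases hx1 : x = 1
    · simp [hx1]
    by_contra hmove
    rcases orbit_of_moved (T : Subgroup X) hcard h hh n hn hpow x ⟨hx, hx1, hx2⟩ hmove u huom with
      h1 | h1 | h1
    · rw [← h1] at hmove
      exact hmove hufix
    · have h2 : x = u := by
        rw [← hufix', h1]
        group
      rw [h2] at hmove
      exact hmove hufix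
    · have h2 : h * x * h⁻¹ = u := by
        rw [← hufix', h1]
        group
      have h3 : x = u := by
        rw [← hufix', ← h2]
        group
      rw [h3] at hmove
      exact hmove hufix
  have hc := centralizes_of_odd (T : Subgroup X) T.isPGroup' hab h hh n hn hpow htriv
  rw [Subgroup.mem_centralizer_iff]
  intro x hx
  have hxT : x ∈ (T : Subgroup X) := hx
  have h1 : h * x * h⁻¹ = x := hc x hxT
  have h2 : y * x = x * y := hab y hy x hxT
  calc x * (h * y) = (h * x * h⁻¹) * (h * y) := by rw [h1]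
    _ = h * (x * y) := by group
    _ = h * (y * x) := by rw [h2]
    _ = h * y * x := by group

/-- Extension of solvable by solvable. -/
theorem isSolvable_of_extension {N : Subgroup X} [N.Normal] (h1 : Group.IsSolvable N)
    (h2 : Group.IsSolvable (X ⧸ N)) : Group.IsSolvable X :=
  Group.isSolvable_of_ker_le_range N.subtype (QuotientGroup.mk' N) (by
    intro x hx
    rw [MonoidHom.mem_ker, QuotientGroup.mk'_apply, QuotientGroup.eq_one_iff] at hx
    exact ⟨⟨x, hx⟩, rfl⟩)

/-- A normal `2`-complement has odd order. -/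
theorem odd_card_of_complement [Fact (Nat.Prime 2)] {T : Sylow 2 X} {N : Subgroup X}
    (hc : Subgroup.IsComplement' N (T : Subgroup X)) : Odd (Nat.card N) := by
  rw [← hc.index_eq_card]
  exact Nat.odd_iff.2 (by
    have := T.not_dvd_index
    omega)

/-- The quotient by a normal `2`-complement is a `2`-group. -/
theorem isPGroup_quotient_of_complement [Fact (Nat.Prime 2)] {T : Sylow 2 X} {N : Subgroup X} [N.Normal]
    (hc : Subgroup.IsComplement' N (T : Subgroup X)) : IsPGroup 2 (X ⧸ N) := by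
  obtain ⟨b, hb⟩ := IsPGroup.iff_card.mp T.isPGroup'
  rw [IsPGroup.iff_card]
  refine ⟨b, ?_⟩
  rw [← Subgroup.index_eq_card, hc.symm.index_eq_card, hb]

/-- A group with a normal `2`-complement is solvable, given Feit-Thompson. -/
theorem isSolvable_of_complement
    (hFT : ∀ (Y : Type u) [Group Y] [Finite Y], Odd (Nat.card Y) → Group.IsSolvable Y)
    [Fact (Nat.Prime 2)] {T : Sylow 2 X} {N : Subgroup X} [N.Normal]
    (hc : Subgroup.IsComplement' N (T : Subgroup X)) : Group.IsSolvable X := by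
  have h1 : Group.IsSolvable N := hFT N (odd_card_of_complement hc)
  haveI h2 := (isPGroup_quotient_of_complement hc).isNilpotent
  exact isSolvable_of_extension h1 inferInstance

/-- Burnside's transfer theorem and Feit-Thompson. -/
theorem isSolvable_of_normalizer_le
    (hFT : ∀ (Y : Type u) [Group Y] [Finite Y], Odd (Nat.card Y) → Group.IsSolvable Y)
    [Fact (Nat.Prime 2)] (T : Sylow 2 X)
    (hle : Subgroup.normalizer ((T : Subgroup X) : Set X) ≤ Subgroup.centralizer (T : Set X)) :
    Group.IsSolvable X :=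
  isSolvable_of_complement hFT (MonoidHom.ker_transferSylow_isComplement' T hle)

/-- The case of a normal subgroup of a Sylow subgroup. -/
theorem isSolvable_of_normal_le
    (hFT : ∀ (Y : Type u) [Group Y] [Finite Y], Odd (Nat.card Y) → Group.IsSolvable Y)
    [Fact (Nat.Prime 2)] (T : Sylow 2 X)
    (hab : ∀ x ∈ (T : Subgroup X), ∀ y ∈ (T : Subgroup X), x * y = y * x)
    {S₀ : Subgroup X} (hS₀n : S₀.Normal) (hS₀T : S₀ ≤ T) {t : X} (htS : t ∈ S₀) 
    (hfrob : ∀ g ∈ Subgroup.normalizer ((T : Subgroup X) : Set X), g * t * g⁻¹ = t →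
      g ∈ Subgroup.centralizer (T : Set X)) :
    Group.IsSolvable X := by
  let C : Subgroup X := Subgroup.centralizer (S₀ : Set X)
  haveI hCn : C.Normal := by
    constructor
    intro c hc g
    rw [Subgroup.mem_centralizer_iff] at hc ⊢
    intro s hs
    have hs' : g⁻¹ * s * g ∈ S₀ := by
      have := hS₀n.conj_mem s hs g⁻¹
      simpa using this
    have h1 := hc _ hs'
    calc s * (g * c * g⁻¹) = g * ((g⁻¹ * s * g) * c) * g⁻¹ := by group
      _ = g * (c * (g⁻¹ * s * g)) * g⁻¹ := by rw [h1]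
      _ = g * c * g⁻¹ * s := by group
  have hTC : (T : Subgroup X) ≤ C := by
    intro x hx
    rw [Subgroup.mem_centralizer_iff]
    intro s hs
    exact hab s (hS₀T hs) x hx
  have hCs : Group.IsSolvable C := by
    apply isSolvable_of_normalizer_le hFT (T.subtype hTC)
    intro g hg
    have hcoe : (((T.subtype hTC : Sylow 2 C) : Subgroup C) : Set C) = ((T : Subgroup X).subgroupOf C : Set C) := by
      rw [Sylow.coe_subtype]
    have hgN : (g : X) ∈ Subgroup.normalizer ((T : Subgroup X) : Set X) := by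
      rw [Subgroup.mem_normalizer_iff]
      intro x
      have hN := (Subgroup.mem_normalizer_iff.1 hg)
      constructor
      · intro hx
        have h1 : (⟨x, hTC hx⟩ : C) ∈ ((T.subtype hTC : Sylow 2 C) : Subgroup C) := by
          rw [Sylow.coe_subtype]
          exact hx
        have h2 := (hN _).1 h1
        rw [Sylow.coe_subtype] at h2
        exact h2
      · intro hx
        have hxC : g.1 * x * g.1⁻¹ ∈ C := hTC hx
        have hxC' : x ∈ C := by
          have h3 := C.mul_mem (C.mul_mem (C.inv_mem g.2) hxC) g.2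
          have h4 : g.1⁻¹ * (g.1 * x * g.1⁻¹) * g.1 = x := by group
          rwa [h4] at h3
        have h1 : (g * ⟨x, hxC'⟩ * g⁻¹ : C) ∈ ((T.subtype hTC : Sylow 2 C) : Subgroup C) := by
          rw [Sylow.coe_subtype]
          exact hx
        have h2 := (hN ⟨x, hxC'⟩).2 h1
        rw [Sylow.coe_subtype] at h2
        exact h2
    have hgt : (g : X) * t * (g : X)⁻¹ = t := by
      have h1 : t * g.1 = g.1 * t := Subgroup.mem_centralizer_iff.1 g.2 t htS
      rw [← h1]
      group
    have hgc := hfrob _ hgN hgt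
    rw [Subgroup.mem_centralizer_iff] at hgc ⊢
    intro x hx
    have hx' : (x : X) ∈ (T : Subgroup X) := by
      have hxx : x ∈ ((T.subtype hTC : Sylow 2 C) : Subgroup C) := hx
      rw [Sylow.coe_subtype] at hxx
      exact hxx
    exact Subtype.ext (hgc _ hx')
  have hQ : Group.IsSolvable (X ⧸ C) := by
    apply hFT
    rw [← Subgroup.index]
    have h1 : C.index ∣ (T : Subgroup X).index := Subgroup.index_dvd_of_le hTC
    have h2 := T.not_dvd_index
    exact Nat.odd_iff.2 (by
      have : ¬ 2 ∣ C.index := fun h => h2 (h.trans h1)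
      omega)
  exact isSolvable_of_extension hCs hQ

end Basic

section CaseB

variable {G : Type u} [Group G]

/-- The subgroup generated by `K` and `y`, when `y² ∈ K`. -/
def extSub (K : Subgroup G) (hKn : K.Normal) (y : G) (hyy : y * y ∈ K) : Subgroup G where
  carrier := {g | g ∈ K ∨ g * y ∈ K}
  one_mem' := Or.inl K.one_mem
  mul_mem' := by
    have hinv : y⁻¹ * y⁻¹ ∈ K := by
      have := K.inv_mem hyy
      simpa using this
    rintro a b (ha | ha) (hb | hb)
    · exact Or.inl (K.mul_mem ha hb)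
    · right
      have : a * b * y = a * (b * y) := by group
      show a * b * y ∈ K
      rw [this]
      exact K.mul_mem ha hb
    · right
      have h1 := hKn.conj_mem b hb y⁻¹
      have : a * b * y = (a * y) * (y⁻¹ * b * y⁻¹⁻¹) := by group
      show a * b * y ∈ K
      rw [this]
      exact K.mul_mem ha h1
    · left
      have h1 := hKn.conj_mem (b * y) hb y⁻¹
      have : a * b = (a * y) * (y⁻¹ * (b * y) * y⁻¹⁻¹) * (y⁻¹ * y⁻¹) := by group
      show a * b ∈ K
      rw [this]
      exact K.mul_mem (K.mul_mem ha h1) hinv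
  inv_mem' := by
    rintro a (ha | ha)
    · exact Or.inl (K.inv_mem ha)
    · right
      have h1 := hKn.conj_mem (a * y)⁻¹ (K.inv_mem ha) y
      have : a⁻¹ * y = (y * (a * y)⁻¹ * y⁻¹) * (y * y) := by group
      show a⁻¹ * y ∈ K
      rw [this]
      exact K.mul_mem h1 hyy

theorem mem_extSub {K : Subgroup G} {hKn : K.Normal} {y : G} {hyy : y * y ∈ K} {g : G} :
    g ∈ extSub K hKn y hyy ↔ g ∈ K ∨ g * y ∈ K := Iff.rfl

theorem le_extSub {K : Subgroup G} {hKn : K.Normal} {y : G} {hyy : y * y ∈ K} : K ≤ extSub K hKn y hyy :=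
  fun _ h => Or.inl h

theorem self_mem_extSub {K : Subgroup G} {hKn : K.Normal} {y : G} {hyy : y * y ∈ K} : y ∈ extSub K hKn y hyy :=
  Or.inr hyy

theorem index_subgroupOf_extSub {K : Subgroup G} {hKn : K.Normal} {y : G} {hyy : y * y ∈ K} (hyK : y ∉ K) :
    (K.subgroupOf (extSub K hKn y hyy)).index = 2 := by
  rw [Subgroup.index_eq_two_iff]
  refine ⟨⟨y, self_mem_extSub⟩, fun b => ?_⟩
  simp only [Subgroup.mem_subgroupOf, Subgroup.coe_mul]
  rw [xor_iff_or_and_not_and]
  constructor
  · rcases b.2 with h | h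
    · exact Or.inr h
    · exact Or.inl h
  · rintro ⟨h1, h2⟩
    apply hyK
    have h3 := K.mul_mem (K.inv_mem h2) h1
    simpa using h3

variable [Finite G] [Fact (Nat.Prime 2)]

/-- `g` normalizing the image of `T` in a subgroup `C` normalizes `T`. -/
theorem coe_mem_normalizer_of_subtype (T : Sylow 2 G) {C : Subgroup G} (hTC : (T : Subgroup G) ≤ C) (g : C)
    (hg : g ∈ Subgroup.normalizer (((T.subtype hTC : Sylow 2 C) : Subgroup C) : Set C)) :
    (g : G) ∈ Subgroup.normalizer ((T : Subgroup G) : Set G) := by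
  rw [Subgroup.mem_normalizer_iff]
  intro x
  have hN := (Subgroup.mem_normalizer_iff.1 hg)
  constructor
  · intro hx
    have h1 : (⟨x, hTC hx⟩ : C) ∈ ((T.subtype hTC : Sylow 2 C) : Subgroup C) := by
      rw [Sylow.coe_subtype]
      exact hx
    have h2 := (hN _).1 h1
    rw [Sylow.coe_subtype] at h2
    exact h2
  · intro hx
    have hxC : g.1 * x * g.1⁻¹ ∈ C := hTC hx
    have hxC' : x ∈ C := by
      have h3 := C.mul_mem (C.mul_mem (C.inv_mem g.2) hxC) g.2
      have h4 : g.1⁻¹ * (g.1 * x * g.1⁻¹) * g.1 = x := by group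
      rwa [h4] at h3
    have h1 : (g * ⟨x, hxC'⟩ * g⁻¹ : C) ∈ ((T.subtype hTC : Sylow 2 C) : Subgroup C) := by
      rw [Sylow.coe_subtype]
      exact hx
    have h2 := (hN ⟨x, hxC'⟩).2 h1
    rw [Sylow.coe_subtype] at h2
    exact h2

theorem mem_centralizer_of_subtype (T : Sylow 2 G) {C : Subgroup G} (hTC : (T : Subgroup G) ≤ C) (g : C)
    (hg : (g : G) ∈ Subgroup.centralizer (T : Set G)) :
    g ∈ Subgroup.centralizer (((T.subtype hTC : Sylow 2 C) : Subgroup C) : Set C) := by
  rw [Subgroup.mem_centralizer_iff] at hg ⊢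
  intro x hx
  have hx' : (x : G) ∈ (T : Subgroup G) := by
    have hxx : x ∈ ((T.subtype hTC : Sylow 2 C) : Subgroup C) := hx
    rw [Sylow.coe_subtype] at hxx
    exact hxx
  exact Subtype.ext (hg _ hx')

/-- The main group theoretic step: `K` normal, `P ≰ K`, `t ∈ P ∩ K`. -/
theorem isSolvable_of_normal_not_le
    (hFT : ∀ (Y : Type u) [Group Y] [Finite Y], Odd (Nat.card Y) → Group.IsSolvable Y)
    (P : Sylow 2 G)
    (hab : ∀ x ∈ (P : Subgroup G), ∀ y ∈ (P : Subgroup G), x * y = y * x)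
    (hcard : (omega (P : Subgroup G)).ncard ≤ 3)
    {K : Subgroup G} (hKn : K.Normal) (hPK : ¬ (P : Subgroup G) ≤ K)
    {t : G} (htP : t ∈ (P : Subgroup G)) (htK : t ∈ K)
    (hfrob : ∀ g ∈ Subgroup.normalizer ((P : Subgroup G) : Set G), g * t * g⁻¹ = t →
      g ∈ Subgroup.centralizer (P : Set G)) :
    Group.IsSolvable G := by
  classical
  haveI := hKn
  -- the element `y`
  obtain ⟨x, hxP, hxK⟩ : ∃ x ∈ (P : Subgroup G), x ∉ K := by
    by_contra hall
    push Not at hall
    exact hPK hall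
  have hex : ∃ j : ℕ, x ^ (2 ^ j) ∈ K := by
    obtain ⟨a, ha⟩ := orderOf_eq_pow_of_mem P hxP
    refine ⟨a, ?_⟩
    rw [← ha, pow_orderOf_eq_one]
    exact K.one_mem
  have hj0 : Nat.find hex ≠ 0 := by
    intro h0
    have h1 := Nat.find_spec hex
    rw [h0] at h1
    simp only [pow_zero, pow_one] at h1
    exact hxK h1
  obtain ⟨j, hj⟩ := Nat.exists_eq_succ_of_ne_zero hj0
  set y := x ^ (2 ^ j) with hydef
  have hyP : y ∈ (P : Subgroup G) := (P : Subgroup G).pow_mem hxP _
  have hyK : y ∉ K := Nat.find_min hex (m := j) (by omega)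
  have hyy : y * y ∈ K := by
    have h1 := Nat.find_spec hex
    rw [hj] at h1
    have h2 : x ^ 2 ^ (j + 1) = y * y := by
      rw [hydef, ← pow_add, pow_succ]
      congr 1
      ring
    rwa [← Nat.add_one, h2] at h1
  -- the subgroup `X`
  set X : Subgroup G := extSub K hKn y hyy with hX
  have hK₁ : (K.subgroupOf X).index = 2 := index_subgroupOf_extSub hyK
  have hK₁n : (K.subgroupOf X).Normal := Subgroup.normal_subgroupOf
  set S₀ : Subgroup G := (P : Subgroup G) ⊓ K with hS₀
  have hWp : IsPGroup 2 (S₀.subgroupOf X) := by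
    have h1 : IsPGroup 2 S₀ := P.isPGroup'.to_le inf_le_left
    exact h1.comap_subtype
  obtain ⟨T, hT⟩ := hWp.exists_le_sylow
  have hTp : IsPGroup 2 ((T : Subgroup X).map X.subtype) := T.isPGroup'.map X.subtype
  obtain ⟨c, hc⟩ := Cfsg.Agent.Lib.Transfer.Frobenius.exists_conj_mem_of_isPGroup P hTp
  have hc' : ∀ z ∈ (T : Subgroup X), c * (z : G) * c⁻¹ ∈ (P : Subgroup G) := fun z hz =>
    hc _ ⟨z, hz, rfl⟩
  have habT : ∀ a ∈ (T : Subgroup X), ∀ b ∈ (T : Subgroup X), a * b = b * a := by
    intro a ha b hb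
    have h1 := hab _ (hc' a ha) _ (hc' b hb)
    apply Subtype.ext
    show (a : G) * b = b * a
    have h2 : c * ((a : G) * b) * c⁻¹ = c * ((b : G) * a) * c⁻¹ := by
      calc c * ((a : G) * b) * c⁻¹ = c * (a : G) * c⁻¹ * (c * (b : G) * c⁻¹) := by group
        _ = c * (b : G) * c⁻¹ * (c * (a : G) * c⁻¹) := h1
        _ = c * ((b : G) * a) * c⁻¹ := by group
    exact mul_left_cancel (mul_right_cancel h2)
  have hcardT : (omega (T : Subgroup X)).ncard ≤ 3 := by
    refine le_trans ?_ hcard
    refine Set.ncard_le_ncard_of_injOn (fun z : X => c * (z : G) * c⁻¹) ?_ ?_ (Set.toFinite _)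
    · rintro z ⟨hz, hz1, hz2⟩
      refine ⟨hc' z hz, ?_, ?_⟩
      · intro h0
        apply hz1
        apply Subtype.ext
        have h3 : (z : G) = c⁻¹ * (c * (z : G) * c⁻¹) * c := by group
        rw [h3, h0]
        simp
      · have h3 : (z : G) ^ 2 = 1 := by
          have := congrArg Subtype.val hz2
          simpa using this
        rw [conj_pow, h3]
        simp
    · intro a _ b _ hab'
      apply Subtype.ext
      exact mul_left_cancel (mul_right_cancel hab')
  have hle := normalizer_le_of_index_two T habT hcardT hK₁n hK₁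
  set Y₁ : Subgroup X := (MonoidHom.transferSylow T hle).ker with hY₁
  have hcY : Subgroup.IsComplement' Y₁ (T : Subgroup X) := MonoidHom.ker_transferSylow_isComplement' T hle
  haveI hY₁n : Y₁.Normal := MonoidHom.normal_ker _
  have hoddY₁ : Odd (Nat.card Y₁) := odd_card_of_complement hcY
  have hQ := isPGroup_quotient_of_complement hcY
  have hoddmem : ∀ z : X, ∀ n : ℕ, Odd n → z ^ n = 1 → z ∈ Y₁ := by
    intro z n hn hz
    obtain ⟨k, hk⟩ := hQ (z : X ⧸ Y₁)
    have h1 : ((z : X ⧸ Y₁)) ^ n = 1 := by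
      rw [← QuotientGroup.mk_pow, hz]
      rfl
    have h2 : orderOf (z : X ⧸ Y₁) ∣ Nat.gcd (2 ^ k) n :=
      Nat.dvd_gcd (orderOf_dvd_of_pow_eq_one hk) (orderOf_dvd_of_pow_eq_one h1)
    have h3 : Nat.gcd (2 ^ k) n = 1 := Nat.Coprime.pow_left k (Nat.coprime_two_left.2 hn)
    rw [h3, Nat.dvd_one, orderOf_eq_one_iff] at h2
    exact (QuotientGroup.eq_one_iff z).1 h2
  have hY₁K : ∀ v ∈ Y₁, (v : G) ∈ K := by
    intro v hv
    have h1 : v ^ Nat.card Y₁ = 1 := by
      have := pow_card_eq_one' (x := (⟨v, hv⟩ : Y₁))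
      exact congrArg Subtype.val this
    have h2 := mem_of_odd_of_index_two hK₁ hoddY₁ h1
    exact h2
  -- the subgroup `Y` of `G`
  set Y : Subgroup G := Y₁.map X.subtype with hY
  have hYK : Y ≤ K := by
    rintro _ ⟨v, hv, rfl⟩
    exact hY₁K v hv
  have hYcard : Nat.card Y = Nat.card Y₁ := Subgroup.card_map_of_injective X.subtype_injective
  have hYmem : ∀ k ∈ K, ∀ n : ℕ, Odd n → k ^ n = 1 → k ∈ Y := by
    intro k hk n hn hpow
    refine ⟨⟨k, Or.inl hk⟩, hoddmem _ n hn (Subtype.ext ?_), rfl⟩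
    simpa using hpow
  haveI hYn : Y.Normal := by
    constructor
    intro v hv g
    have h1 : v ^ Nat.card Y = 1 := by
      have := pow_card_eq_one' (x := (⟨v, hv⟩ : Y))
      exact congrArg Subtype.val this
    refine hYmem _ (hKn.conj_mem v (hYK hv) g) (Nat.card Y) (by rw [hYcard]; exact hoddY₁) ?_
    rw [conj_pow, h1]
    simp
  -- `K = Y S₀`
  obtain ⟨Q, hQmap⟩ := exists_sylow_inf_normal P K
  have hdecomp : ∀ n ∈ K, ∃ v ∈ Y, ∃ s ∈ S₀, n = v * s := by
    intro n hn
    let n' : X := ⟨n, Or.inl hn⟩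
    obtain ⟨⟨v, τ⟩, hvτ, -⟩ := hcY.existsUnique n'
    have hvτ' : (v : X) * (τ : X) = n' := hvτ
    have hτK : ((τ : X) : G) ∈ K := by
      have h1 : (τ : X) = (v : X)⁻¹ * n' := by
        rw [← hvτ']
        group
      have h2 : ((τ : X) : G) = ((v : X) : G)⁻¹ * n := by
        rw [h1]
        rfl
      rw [h2]
      exact K.mul_mem (K.inv_mem (hY₁K _ v.2)) hn
    refine ⟨((v : X) : G), ⟨v, v.2, rfl⟩, ((τ : X) : G), ?_, ?_⟩
    · -- `τ ∈ S₀`
      let R : Subgroup K := ((T : Subgroup X).map X.subtype).subgroupOf K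
      have hRp : IsPGroup 2 R := hTp.comap_subtype
      have hQR : (Q : Subgroup K) ≤ R := by
        intro q hq
        have h1 : (q : G) ∈ S₀ := by
          rw [hS₀, ← hQmap]
          exact ⟨q, hq, rfl⟩
        have h2 : (⟨q, Or.inl q.2⟩ : X) ∈ (T : Subgroup X) := hT h1
        exact ⟨_, h2, rfl⟩
      have hRQ : R = Q := Q.is_maximal' hRp hQR
      have h3 : (⟨((τ : X) : G), hτK⟩ : K) ∈ R := ⟨τ, τ.2, rfl⟩
      rw [hRQ] at h3
      rw [hS₀, ← hQmap]
      exact ⟨_, h3, rfl⟩
    · have := congrArg Subtype.val hvτ'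
      exact this.symm
  -- the Frattini argument
  set M : Subgroup G := Subgroup.normalizer (S₀ : Set G) with hM
  have hGM : ∀ g : G, ∃ v ∈ Y, ∃ m ∈ M, g = v * m := by
    intro g
    obtain ⟨n, hn, h, hh, rfl⟩ := frattini_argument' Q g
    rw [hQmap] at hh
    obtain ⟨v, hv, s, hs, rfl⟩ := hdecomp n hn
    refine ⟨v, hv, s * h, M.mul_mem (Subgroup.le_normalizer hs) hh, by group⟩
  -- `M` is solvable
  have hPM : (P : Subgroup G) ≤ M := by
    intro p hp
    rw [hM, Subgroup.mem_normalizer_iff]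
    intro s
    have key : ∀ s ∈ S₀, p * s * p⁻¹ = s := by
      intro s hs
      rw [hab p hp s hs.1]
      group
    constructor
    · intro hs
      rw [key s hs]
      exact hs
    · intro hs
      have h1 := key _ hs
      have h2 : p * (p * s * p⁻¹) * p⁻¹ = p * s * p⁻¹ := h1
      have h3 : p * s * p⁻¹ = s := mul_left_cancel (mul_right_cancel h2)
      rwa [h3] at hs
  have hMs : Group.IsSolvable M := by
    have htM : t ∈ M := hPM htP
    refine isSolvable_of_normal_le hFT (P.subtype hPM) ?_ (S₀ := S₀.subgroupOf M) ?_ ?_ (t := ⟨t, htM⟩) ?_ ?_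
    · intro a ha b hb
      rw [Sylow.coe_subtype] at ha hb
      exact Subtype.ext (hab _ ha _ hb)
    · exact Subgroup.normal_in_normalizer
    · rw [Sylow.coe_subtype]
      intro a ha
      exact ha.1
    · exact ⟨htP, htK⟩
    · intro g hg hgt
      have h1 := coe_mem_normalizer_of_subtype P hPM g hg
      have h2 : (g : G) * t * (g : G)⁻¹ = t := congrArg Subtype.val hgt
      exact mem_centralizer_of_subtype P hPM g (hfrob _ h1 h2)
  -- conclusion
  have hYs : Group.IsSolvable Y := hFT Y (by rw [hYcard]; exact hoddY₁)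
  have hQs : Group.IsSolvable (G ⧸ Y) := by
    let f : M →* G ⧸ Y := (QuotientGroup.mk' Y).comp M.subtype
    have hf : Function.Surjective f := by
      intro q
      obtain ⟨g, rfl⟩ := QuotientGroup.mk_surjective q
      obtain ⟨v, hv, m, hm, rfl⟩ := hGM g
      refine ⟨⟨m, hm⟩, ?_⟩
      show ((m : G) : G ⧸ Y) = ((v * m : G) : G ⧸ Y)
      rw [QuotientGroup.eq]
      have : m⁻¹ * (v * m) = m⁻¹ * v * m⁻¹⁻¹ := by group
      rw [this]
      exact hYn.conj_mem v hv m⁻¹
    exact Group.isSolvable_of_surjective hf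
  exact isSolvable_of_extension hYs hQs

end CaseB

end Cfsg.Agent.Lib.Coprime.HomocyclicGT
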