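import Mathlib
import Cfsg.Agent.Lib.Blocks.AbFrob7
import Cfsg.Agent.Lib.Transfer.HomocyclicSylow
import Cfsg.Agent.Lib.Transfer.Frobenius
import Cfsg.Agent.Lib.Coprime.HomocyclicGT
import Cfsg.Agent.S0945
import Cfsg.Agent.Lib.Blocks.ClassIndep

/-!
# Solvability of groups with homocyclic Sylow 2-subgroups of order at least 16

Brauer's theorem: a finite group with Sylow 2-subgroup `Z/2^m × Z/2^m`, `m ≥ 2`, is solvable.
The character theory is `Data.moreover_even` of `Lib/Blocks/AbFrob7`: an involution of such a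
group (with `|N(P)/C(P)| = 3`) lies in a proper normal subgroup.  The rest is elementary.
-/

set_option autoImplicit false
set_option linter.style.longLine false
set_option linter.style.haveILetI false
set_option linter.unusedSectionVars false

namespace Cfsg.Agent.Lib.Coprime.Homocyclic

open Cfsg Cfsg.Agent.Lib.Blocks.AbFrob Cfsg.Agent.Lib.Blocks.Principal
open Cfsg.Agent.Lib.Transfer.HomocyclicSylow Subgroup

universe u

section Proper

variable {G : Type*} [Group G] [Finite G]

set_option maxHeartbeats 2000000 in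
/-- The character theoretic input: under `Hyp P 3`, `16 ≤ |P|`, an involution of `P` lies in a proper
normal subgroup. -/
theorem exists_proper_normal {P : Sylow 2 G} (H : Hyp P 3) (hP16 : 16 ≤ Nat.card (P : Subgroup G))
    {t : G} (htP : t ∈ (P : Subgroup G)) (ht1 : t ≠ 1) (htt : t * t = 1) :
    ∃ K : Subgroup G, K.Normal ∧ t ∈ K ∧ K ≠ ⊤ := by
  classical
  by_contra hgen
  push Not at hgen
  letI : Fintype G := Fintype.ofFinite G
  letI : Fintype (P : Subgroup G) := Fintype.ofFinite _
  obtain ⟨M, hM⟩ := Cfsg.Agent.Lib.Blocks.ClassIndep.exists_modular 2 Nat.prime_two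
  have hA : ∀ a b : ↥(P : Subgroup G), a * b = b * a := fun a b => Subtype.ext (H.comm a.2 b.2)
  haveI : Finite (↥(P : Subgroup G) →* ℂˣ) := finite_dual hA
  letI : Fintype (↥(P : Subgroup G) →* ℂˣ) := Fintype.ofFinite _
  haveI hMp : M.IsPrime := hM.2.1.isPrime
  have hm0 : (3 : ℕ) ≠ 0 := by norm_num
  have hm2' : 3 + 1 < Nat.card (P : Subgroup G) := by omega
  obtain ⟨ε, a, f, D⟩ := H.exists_data_zero hM hm2'
  have hcard : Nat.card (TT P) * 3 = Nat.card (P : Subgroup G) - 1 := H.card_TT_mul
  haveI hfT : Finite (TT P) := finite_TT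
  have hT2 : 1 < Nat.card (TT P) := by
    by_contra hc
    have h1 : Nat.card (TT P) * 3 ≤ 1 * 3 := Nat.mul_le_mul_right _ (not_lt.1 hc)
    omega
  obtain ⟨s₀, t₀, hst⟩ := (Finite.one_lt_card_iff_nontrivial.1 hT2).exists_pair_ne
  have hT : ∀ t : TT P, ∃ s : TT P, s ≠ t := by
    intro t
    by_cases h : s₀ = t
    · exact ⟨t₀, fun h' => hst (h.trans h'.symm)⟩
    · exact ⟨s₀, h⟩
  let τ : ↥(P : Subgroup G) := ⟨t, htP⟩
  have hτ1 : τ ≠ 1 := fun h => ht1 (congrArg Subtype.val h)
  have hτ : τ * τ = 1 := Subtype.ext htt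
  obtain ⟨hX3, hone⟩ := D.three hM H s₀ hτ1
  have htriv : trivChar G ∈ XF M f :=
    mem_XF.2 ⟨trivChar_mem_principalBlock, D.triv_notMem H hm0 hT⟩
  have hatriv : a (trivChar G) = 1 := by
    have h1 := D.value_X H hm0 htriv hτ1
    have h2 : ((trivChar G : IrrCharacter G) : G → ℂ) τ = 1 := rfl
    rw [h2] at h1
    exact_mod_cast h1.symm
  have herase : ((XF M f).erase (trivChar G)).card = 2 := by
    rw [Finset.card_erase_of_mem htriv, hX3]
  obtain ⟨χ₂, χ₃, h23, hpair⟩ := Finset.card_eq_two.1 herase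
  have hmem2 : χ₂ ∈ (XF M f).erase (trivChar G) := by rw [hpair]; simp
  have hmem3 : χ₃ ∈ (XF M f).erase (trivChar G) := by rw [hpair]; simp
  have h2 : χ₂ ≠ trivChar G := Finset.ne_of_mem_erase hmem2
  have h3 : χ₃ ≠ trivChar G := Finset.ne_of_mem_erase hmem3
  have hXF : XF M f = {trivChar G, χ₂, χ₃} := by
    rw [← hpair, Finset.insert_erase htriv]
  have ha₂ := hone χ₂ (by rw [hXF]; simp)
  have ha₃ := hone χ₃ (by rw [hXF]; simp)
  have hgen' : ∀ K : Subgroup G, K.Normal → (τ : G) ∈ K → K = ⊤ := fun K hK h => hgen K hK h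
  exact D.moreover_even hM H rfl (by omega) hP16 hτ hτ1 hgen' h23 h2 h3 hXF hatriv ha₂ ha₃

end Proper

/-- **Brauer.**  A finite group with Sylow `2`-subgroup `Z/2^m × Z/2^m`, `m ≥ 2`, is solvable
(given Feit-Thompson). -/
theorem isSolvable_of_homocyclic_aux
    (hFT : ∀ (Y : Type u) [Group Y] [Finite Y], Odd (Nat.card Y) → Group.IsSolvable Y) :
    ∀ (n : ℕ) (G : Type u) [Group G] [Finite G] (P : Sylow 2 G) (m : ℕ) (_ : 2 ≤ m)
      (_ : (P : Subgroup G) ≃* Multiplicative (ZMod (2 ^ m) × ZMod (2 ^ m))), Nat.card G = n →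
      Group.IsSolvable G := by
  intro n
  induction n using Nat.strong_induction_on with
  | _ n ih =>
    intro G _ _ P m hm e hn
    haveI hfact : Fact (Nat.Prime 2) := ⟨Nat.prime_two⟩
    by_cases hN : Subgroup.normalizer ((P : Subgroup G) : Set G) ≤ Subgroup.centralizer (P : Set G)
    · exact Cfsg.Agent.Lib.Coprime.HomocyclicGT.isSolvable_of_normalizer_le hFT P hN
    have hab : ∀ x ∈ (P : Subgroup G), ∀ y ∈ (P : Subgroup G), x * y = y * x := by
      intro x hx y hy
      have := e.injective (show e (⟨x, hx⟩ * ⟨y, hy⟩) = e (⟨y, hy⟩ * ⟨x, hx⟩) by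
        rw [map_mul, map_mul, mul_comm])
      exact congrArg Subtype.val this
    obtain ⟨hr, hfr⟩ := Cfsg.Agent.S0945.result P m (by omega) e
    have hr1 : (Subgroup.centralizer (P : Set G)).relIndex (Subgroup.normalizer (P : Set G)) ≠ 1 := by
      intro h1
      exact hN (Subgroup.relIndex_eq_one.1 h1)
    have hr3 := hr.resolve_left hr1
    have hfr' := hfr hr1
    have hab' : IsMulCommutative (P : Subgroup G) := ⟨⟨fun a b => Subtype.ext (hab _ a.2 _ b.2)⟩⟩
    have H : Hyp P 3 := ⟨hab', hr3, fun y hy hy1 => hfr' y hy hy1⟩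
    have hPcard : Nat.card (P : Subgroup G) = 2 ^ m * 2 ^ m := by
      rw [Nat.card_congr e.toEquiv, Nat.card_congr Multiplicative.toAdd, Nat.card_prod, Nat.card_zmod]
    have hP16 : 16 ≤ Nat.card (P : Subgroup G) := by
      rw [hPcard]
      have h4 : 4 ≤ 2 ^ m := by
        calc 4 = 2 ^ 2 := by norm_num
          _ ≤ 2 ^ m := Nat.pow_le_pow_right (by norm_num) hm
      nlinarith
    -- an involution
    obtain ⟨x, hx⟩ := exists_prime_orderOf_dvd_card' (G := (P : Subgroup G)) 2 (by
      rw [hPcard]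
      exact Dvd.dvd.mul_right (dvd_pow_self 2 (by omega)) _)
    have ht2 : (x : G) * x = 1 := by
      have h1 : x ^ 2 = 1 := by
        have h0 := pow_orderOf_eq_one x
        rwa [hx] at h0
      have h2 := congrArg Subtype.val h1
      simpa [pow_two] using h2
    have ht1 : (x : G) ≠ 1 := by
      intro h0
      have h1 : x = 1 := Subtype.ext h0
      rw [h1, orderOf_one] at hx
      omega
    obtain ⟨K, hKn, htK, hKne⟩ := exists_proper_normal H hP16 x.2 ht1 ht2
    have hcard := omega_ncard_le (P : Subgroup G) (by omega) e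
    by_cases hPK : (P : Subgroup G) ≤ K
    · -- `P ≤ K < G`
      haveI := hKn
      have hKlt : Nat.card K < n := by
        rw [← hn]
        refine lt_of_le_of_ne (Subgroup.card_le_card_group K) ?_
        intro h1
        exact hKne (Subgroup.eq_top_of_card_eq K h1)
      have e' : ((P.subtype hPK : Sylow 2 K) : Subgroup K) ≃* Multiplicative (ZMod (2 ^ m) × ZMod (2 ^ m)) := by
        rw [Sylow.coe_subtype]
        exact (Subgroup.subgroupOfEquivOfLe hPK).trans e
      have hKs : Group.IsSolvable K := ih _ hKlt K (P.subtype hPK) m hm e' rfl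
      have hQ : Group.IsSolvable (G ⧸ K) := by
        apply hFT
        rw [← Subgroup.index]
        have h1 : K.index ∣ (P : Subgroup G).index := Subgroup.index_dvd_of_le hPK
        have h2 := P.not_dvd_index
        exact Nat.odd_iff.2 (by
          have : ¬ 2 ∣ K.index := fun h => h2 (h.trans h1)
          omega)
      exact Cfsg.Agent.Lib.Coprime.HomocyclicGT.isSolvable_of_extension hKs hQ
    · refine Cfsg.Agent.Lib.Coprime.HomocyclicGT.isSolvable_of_normal_not_le hFT P hab hcard hKn hPK x.2 htK ?_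
      intro g hg hgt
      have h1 : g ∈ Subgroup.centralizer ({(x : G)} : Set G) ⊓ Subgroup.normalizer (P : Set G) := by
        refine Subgroup.mem_inf.2 ⟨?_, hg⟩
        rw [Subgroup.mem_centralizer_iff]
        intro s hs
        rw [Set.mem_singleton_iff] at hs
        rw [hs]
        calc (x : G) * g = g * (x : G) * g⁻¹ * g := by rw [hgt]
          _ = g * x := by group
      rw [hfr' x x.2 ht1] at h1
      exact h1

end Cfsg.Agent.Lib.Coprime.Homocyclic
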