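import Mathlib
import Cfsg.Prelude.Def_Characters
import Cfsg.Prelude.Def_Blocks
import Cfsg.Agent.Lib.Char.AbelianQuot
import Cfsg.Agent.Lib.Char.DegreeDvd
import Cfsg.Agent.Lib.Char.Values2
import Cfsg.Agent.Lib.Char.GaloisC
import Cfsg.Agent.Lib.Char.CompleteCor
import Cfsg.Agent.Lib.Char.Virtual

/-!
# Basic facts for the `k(GV)` setting

`X = V ⋊ G`, `V` an abelian normal subgroup.
-/

set_option autoImplicit false
set_option linter.style.haveILetI false
set_option linter.unusedSectionVars false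

namespace Cfsg.Agent.Lib.Coprime.KGV

open Cfsg

variable {X : Type*} [Group X] [Finite X]

/-- The degree of an irreducible character divides the index of an abelian normal subgroup
(deduced from the divisibility `χ 1 / θ 1 ∣ |G : N|`). -/
theorem exists_degree_dvd_index (V : Subgroup X) [hV : V.Normal]
    (hab : ∀ a ∈ V, ∀ b ∈ V, a * b = b * a) {χ : X → ℂ} (hχ : IsIrrCharacter X χ) :
    ∃ e : ℕ, χ 1 = e ∧ e ∣ V.index := by
  classical
  letI := Fintype.ofFinite X
  letI := Fintype.ofFinite V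
  have hclass : IsClassFunction V (fun n : V => χ n) := by
    intro g h
    have := Cfsg.Agent.Lib.Char.Basic.isClassFunction_of_isCharacter
      (Cfsg.Agent.Lib.Char.Basic.isCharacter_of_isIrrCharacter hχ) g.1 h.1
    simpa using this
  -- a constituent
  have hex : ∃ θ : V → ℂ, IsIrrCharacter V θ ∧ classInner (fun n : V => χ n) θ ≠ 0 := by
    by_contra hcon
    push Not at hcon
    have h0 := Cfsg.Agent.Lib.Char.Complete.eq_zero_of_classInner_irr_eq_zero _ hclass hcon
    have h1 : χ 1 = 0 := by simpa using congrFun h0 (1 : V)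
    exact Cfsg.Agent.Lib.Char.Virtual.irr_one_ne_zero hχ h1
  obtain ⟨θ, hθ, hc⟩ := hex
  obtain ⟨e, he, hdvd⟩ := Cfsg.Agent.Lib.Char.DegreeDvd.exists_degree_ratio V hχ hθ hc
  refine ⟨e, ?_, hdvd⟩
  rw [he]
  have h1 : θ 1 = 1 := by
    obtain ⟨n, ρ, hρ, rfl⟩ := hθ
    haveI := hρ
    have hcomm : ∀ x y : V, ρ x ∘ₗ ρ y = ρ y ∘ₗ ρ x := by
      intro x y
      have h2 : x * y = y * x := Subtype.ext (hab _ x.2 _ y.2)
      rw [← Module.End.mul_eq_comp, ← Module.End.mul_eq_comp, ← map_mul, ← map_mul, h2]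
    have hf := Cfsg.Agent.Lib.Char.AbelianQuot.finrank_eq_one_of_commuting ρ hcomm
    simp [Representation.character] at hf ⊢
    simp [hf]
  rw [h1, mul_one]

theorem not_dvd_degree {p : ℕ} (V : Subgroup X) [V.Normal]
    (hab : ∀ a ∈ V, ∀ b ∈ V, a * b = b * a) (hidx : ¬ p ∣ V.index) {χ : X → ℂ}
    (hχ : IsIrrCharacter X χ) : ¬ p ∣ charDegree χ := by
  obtain ⟨e, he, hd⟩ := exists_degree_dvd_index V hab hχ
  rw [Cfsg.Agent.Lib.Char.Values.IsCharacter.charDegree_eq
    (Cfsg.Agent.Lib.Char.Basic.isCharacter_of_isIrrCharacter hχ) he]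
  exact fun h => hidx (h.trans hd)

/-- An irreducible character does not vanish on `p`-elements of the abelian normal `p`-subgroup
of index prime to `p`. -/
theorem character_ne_zero {p : ℕ} (hp : p.Prime) (V : Subgroup X) [V.Normal]
    (hab : ∀ a ∈ V, ∀ b ∈ V, a * b = b * a) (hVp : IsPGroup p V) (hidx : ¬ p ∣ V.index)
    {χ : X → ℂ} (hχ : IsIrrCharacter X χ) {x : X} (hx : x ∈ V) : χ x ≠ 0 := by
  intro h0
  obtain ⟨k, hk⟩ := hVp ⟨x, hx⟩
  have hk' : x ^ p ^ k = 1 := by simpa [Subtype.ext_iff] using hk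
  obtain ⟨j, _, hj⟩ := (Nat.dvd_prime_pow hp).mp (orderOf_dvd_of_pow_eq_one hk')
  exact not_dvd_degree V hab hidx hχ
    (Cfsg.Agent.Lib.Char.Values2.dvd_degree_of_vanish_pelement p hp χ
      (Cfsg.Agent.Lib.Char.Basic.isCharacter_of_isIrrCharacter hχ) x ⟨j, hj⟩ h0)

/-- The order of the centralizer of an element of `V`. -/
theorem card_centralizer_of_mem (V : Subgroup X) [V.Normal]
    (hab : ∀ a ∈ V, ∀ b ∈ V, a * b = b * a) (G : Subgroup X) (hGV : Subgroup.IsComplement' V G)
    {v : X} (hv : v ∈ V) :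
    Nat.card (Subgroup.centralizer ({v} : Set X)) =
      Nat.card ↥(G ⊓ Subgroup.centralizer ({v} : Set X)) * Nat.card V := by
  have hcomm : ∀ w ∈ V, ∀ g : X, w * g * v = v * (w * g) ↔ g * v = v * g := by
    intro w hw g
    have h1 : w * v = v * w := hab _ hw _ hv
    constructor
    · intro h
      have : w * (g * v) = w * (v * g) := by
        calc w * (g * v) = w * g * v := by group
          _ = v * (w * g) := h
          _ = (v * w) * g := by group
          _ = (w * v) * g := by rw [h1]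
          _ = w * (v * g) := by group
      exact mul_left_cancel this
    · intro h
      calc w * g * v = w * (g * v) := by group
        _ = w * (v * g) := by rw [h]
        _ = (w * v) * g := by group
        _ = (v * w) * g := by rw [h1]
        _ = _ := by group
  let f : ↥(G ⊓ Subgroup.centralizer ({v} : Set X)) × V → Subgroup.centralizer ({v} : Set X) :=
    fun q => ⟨q.2.1 * q.1.1, by
      have h2 : q.1.1 * v = v * q.1.1 := by
        have := Subgroup.mem_centralizer_iff.mp q.1.2.2 v (Set.mem_singleton v)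
        exact this.symm
      refine Subgroup.mem_centralizer_iff.mpr ?_
      intro z hz
      rw [Set.mem_singleton_iff.mp hz]
      exact ((hcomm _ q.2.2 _).mpr h2).symm⟩
  have hf : Function.Bijective f := by
    constructor
    · rintro ⟨a, b⟩ ⟨a', b'⟩ h
      have h1 : b.1 * a.1 = b'.1 * a'.1 := congrArg Subtype.val h
      have h2 := hGV.1 (a₁ := (⟨b.1, b.2⟩, ⟨a.1, a.2.1⟩)) (a₂ := (⟨b'.1, b'.2⟩, ⟨a'.1, a'.2.1⟩)) h1
      have h3 : b = b' := Subtype.ext (congrArg (fun q => (q.1 : X)) h2)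
      have h4 : a = a' := Subtype.ext (congrArg (fun q => (q.2 : X)) h2)
      rw [h3, h4]
    · rintro ⟨x, hx⟩
      obtain ⟨⟨w, g⟩, hwg⟩ := hGV.2 x
      have hwg' : w.1 * g.1 = x := hwg
      have hx' : x * v = v * x := by
        have := Subgroup.mem_centralizer_iff.mp hx v (Set.mem_singleton v)
        exact this.symm
      rw [← hwg'] at hx'
      have h2 := (hcomm _ w.2 _).mp hx'
      refine ⟨(⟨g.1, g.2, Subgroup.mem_centralizer_iff.mpr ?_⟩, ⟨w.1, w.2⟩), Subtype.ext hwg'⟩
      intro z hz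
      rw [Set.mem_singleton_iff.mp hz]
      exact h2.symm
  rw [← Nat.card_prod]
  exact (Nat.card_congr (Equiv.ofBijective f hf)).symm

/-- Column orthogonality in real form. -/
theorem sum_norm_sq [Fintype (IrrCharacter X)] (x : X) :
    ∑ τ : IrrCharacter X, ‖(τ : X → ℂ) x‖ ^ 2 =
      (Nat.card (Subgroup.centralizer ({x} : Set X)) : ℝ) := by
  letI := Fintype.ofFinite X
  have h := Cfsg.Agent.Lib.Char.CompleteCor.column_orth_conj (IsConj.refl x)
  have h2 : ((∑ τ : IrrCharacter X, ‖(τ : X → ℂ) x‖ ^ 2 : ℝ) : ℂ) =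
      ((Nat.card (Subgroup.centralizer ({x} : Set X)) : ℝ) : ℂ) := by
    rw [Complex.ofReal_natCast, ← h, Complex.ofReal_sum]
    refine Finset.sum_congr rfl fun τ _ => ?_
    rw [Complex.mul_conj, Complex.normSq_eq_norm_sq]
  exact_mod_cast h2

/-- The centralizer is unchanged under coprime powers. -/
theorem centralizer_pow_eq {x : X} {k : ℕ} (hk : k.Coprime (Nat.card X)) :
    Subgroup.centralizer ({x ^ k} : Set X) = Subgroup.centralizer ({x} : Set X) := by
  ext y
  simp only [Subgroup.mem_centralizer_iff, Set.mem_singleton_iff, forall_eq]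
  constructor
  · intro h
    have h1 : (y * x * y⁻¹) ^ k = x ^ k := by
      rw [conj_pow, ← h]
      group
    have h2 := (powCoprime hk.symm).injective (a₁ := y * x * y⁻¹) (a₂ := x) h1
    calc x * y = (y * x * y⁻¹) * y := by rw [h2]
      _ = y * x := by group
  · intro h
    have hc : Commute x y := h
    exact (hc.pow_left k).eq

/-- The `k(GV)` stabilizer bound. -/
theorem kgv_bound {p : ℕ} [hp : Fact p.Prime] (V : Subgroup X) [hVn : V.Normal]
    (hVp : IsPGroup p V) (hidx : ¬ p ∣ V.index) (hab : ∀ a ∈ V, ∀ b ∈ V, a * b = b * a)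
    (G : Subgroup X) (hGV : Subgroup.IsComplement' V G) {v : X} (hv : v ∈ V) :
    Nat.card (ConjClasses X) + Nat.card G ≤
      Nat.card ↥(G ⊓ Subgroup.centralizer ({v} : Set X)) * Nat.card V +
        Nat.card (ConjClasses G) := by
  classical
  letI := Fintype.ofFinite X
  letI := Fintype.ofFinite G
  letI : Fintype (IrrCharacter X) := Fintype.ofFinite _
  letI : Fintype (IrrCharacter G) := Fintype.ofFinite _
  -- the projection
  let π : X →* G := (hGV.symm.QuotientMulEquiv).toMonoidHom.comp (QuotientGroup.mk' V)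
  have hπs : Function.Surjective π :=
    (hGV.symm.QuotientMulEquiv).surjective.comp (QuotientGroup.mk'_surjective V)
  have hπV : ∀ x ∈ V, π x = 1 := by
    intro x hx
    have : (QuotientGroup.mk' V) x = 1 := (QuotientGroup.eq_one_iff x).mpr hx
    show (hGV.symm.QuotientMulEquiv) ((QuotientGroup.mk' V) x) = 1
    rw [this, map_one]
  let ι : IrrCharacter G → IrrCharacter X := fun χ =>
    ⟨fun x => χ.1 (π x), Cfsg.Agent.Lib.Char.Basic.isIrrCharacter_comp_surjective χ.2 π hπs⟩
  have hι : Function.Injective ι := by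
    intro a b hab'
    apply Subtype.ext
    funext g
    obtain ⟨x, rfl⟩ := hπs g
    exact congrFun (congrArg Subtype.val hab') x
  -- the Galois stable set
  let T : Finset X := Finset.univ.filter (fun x => ∃ k : ℕ, k.Coprime (Nat.card X) ∧ x = v ^ k)
  have hTstable : ∀ x ∈ T, ∀ k : ℕ, k.Coprime (Nat.card X) → x ^ k ∈ T := by
    intro x hx k hk
    obtain ⟨a, ha, rfl⟩ := (Finset.mem_filter.mp hx).2
    refine Finset.mem_filter.mpr ⟨Finset.mem_univ _, a * k, ha.mul_left hk, by rw [pow_mul]⟩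
  have hTV : ∀ x ∈ T, x ∈ V := by
    intro x hx
    obtain ⟨a, ha, rfl⟩ := (Finset.mem_filter.mp hx).2
    exact V.pow_mem hv a
  have hTne : (0 : ℝ) < T.card := by
    have : v ∈ T := Finset.mem_filter.mpr ⟨Finset.mem_univ _, 1, Nat.coprime_one_left _, by simp⟩
    exact_mod_cast Finset.card_pos.mpr ⟨v, this⟩
  set c : ℕ := Nat.card (Subgroup.centralizer ({v} : Set X)) with hc
  have hcc : c = Nat.card ↥(G ⊓ Subgroup.centralizer ({v} : Set X)) * Nat.card V :=
    card_centralizer_of_mem V hab G hGV hv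
  have hTsum : ∀ x ∈ T, ∑ τ : IrrCharacter X, ‖(τ : X → ℂ) x‖ ^ 2 = (c : ℝ) := by
    intro x hx
    obtain ⟨a, ha, rfl⟩ := (Finset.mem_filter.mp hx).2
    rw [sum_norm_sq, centralizer_pow_eq ha]
  -- split the sum
  let A : Finset (IrrCharacter X) := Finset.univ.image ι
  have hGsum : ∀ x ∈ T, ∑ τ ∈ A, ‖(τ : X → ℂ) x‖ ^ 2 = (Nat.card G : ℝ) := by
    intro x hx
    rw [Finset.sum_image (fun a _ b _ h => hι h)]
    have h1 : ∀ χ : IrrCharacter G, ‖(ι χ : X → ℂ) x‖ ^ 2 = ‖(χ : G → ℂ) 1‖ ^ 2 := by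
      intro χ
      show ‖χ.1 (π x)‖ ^ 2 = _
      rw [hπV x (hTV x hx)]
    rw [Finset.sum_congr rfl (fun χ _ => h1 χ), sum_norm_sq]
    have : Subgroup.centralizer ({(1 : G)} : Set G) = ⊤ := by
      ext y
      simp [Subgroup.mem_centralizer_iff]
    rw [this, Nat.card_congr Subgroup.topEquiv.toEquiv]
  have hB : ∀ τ : IrrCharacter X, (T.card : ℝ) ≤ ∑ x ∈ T, ‖(τ : X → ℂ) x‖ ^ 2 := by
    intro τ
    exact Cfsg.Agent.Lib.Char.GaloisC.card_le_sum_norm_pow
      (Cfsg.Agent.Lib.Char.Basic.isCharacter_of_isIrrCharacter τ.2) T hTstable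
      (fun x hx => character_ne_zero hp.out V hab hVp hidx τ.2 (hTV x hx)) 2
  -- total
  have htotal : (T.card : ℝ) * c = T.card * (Nat.card G : ℝ) +
      ∑ τ ∈ Finset.univ \ A, ∑ x ∈ T, ‖(τ : X → ℂ) x‖ ^ 2 := by
    have h1 : ∑ x ∈ T, ∑ τ : IrrCharacter X, ‖(τ : X → ℂ) x‖ ^ 2 = (T.card : ℝ) * c := by
      rw [Finset.sum_congr rfl hTsum, Finset.sum_const, nsmul_eq_mul]
    have h2 : ∑ x ∈ T, ∑ τ ∈ A, ‖(τ : X → ℂ) x‖ ^ 2 = (T.card : ℝ) * (Nat.card G : ℝ) := by
      rw [Finset.sum_congr rfl hGsum, Finset.sum_const, nsmul_eq_mul]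
    rw [← h1, ← h2, Finset.sum_comm (s := Finset.univ \ A)]
    rw [← Finset.sum_add_distrib]
    refine Finset.sum_congr rfl fun x _ => ?_
    rw [add_comm, Finset.sum_sdiff (Finset.subset_univ A)]
  have hlow : ((Finset.univ \ A).card : ℝ) * T.card ≤
      ∑ τ ∈ Finset.univ \ A, ∑ x ∈ T, ‖(τ : X → ℂ) x‖ ^ 2 := by
    calc ((Finset.univ \ A).card : ℝ) * T.card = ∑ τ ∈ Finset.univ \ A, (T.card : ℝ) := by
          rw [Finset.sum_const, nsmul_eq_mul]
      _ ≤ _ := Finset.sum_le_sum fun τ _ => hB τ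
  have hfin : ((Finset.univ \ A).card : ℝ) + Nat.card G ≤ c := by
    have h3 : (T.card : ℝ) * (((Finset.univ \ A).card : ℝ) + Nat.card G) ≤ T.card * c := by
      rw [htotal]
      nlinarith
    exact le_of_mul_le_mul_left h3 hTne
  have hcardA : A.card = Nat.card (ConjClasses G) := by
    rw [Finset.card_image_of_injective _ hι, Finset.card_univ, ← Nat.card_eq_fintype_card,
      Cfsg.Agent.Lib.Char.CompleteCor.card_irr_eq_card_conjClasses]
  have hcardX : (Finset.univ \ A).card + A.card = Nat.card (ConjClasses X) := by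
    rw [Finset.card_sdiff_add_card_eq_card (Finset.subset_univ A), Finset.card_univ,
      ← Nat.card_eq_fintype_card, Cfsg.Agent.Lib.Char.CompleteCor.card_irr_eq_card_conjClasses]
  have hfin2 : (Finset.univ \ A).card + Nat.card G ≤ c := by exact_mod_cast hfin
  rw [← hcc]
  omega

end Cfsg.Agent.Lib.Coprime.KGV
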