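import Mathlib
import Cfsg.Agent.Lib.Coprime.Homocyclic
import Cfsg.Agent.S5212
import Cfsg.Agent.Lib.Fusion.GroupSylow
import Cfsg.Agent.Lib.PGroup.QDSylow6
import Cfsg.Agent.Lib.PGroup.HuppertA

/-!
# Metacyclic Sylow 2-subgroups with a cyclic quotient of order > 2
-/

set_option autoImplicit false
set_option linter.style.longLine false
set_option linter.style.haveILetI false
set_option linter.unusedSectionVars false

namespace Cfsg.Agent.Lib.Coprime.MetaSylow

open Cfsg Subgroup
open Cfsg.Agent.Lib.Coprime.HomocyclicGT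

universe u

section Sq

theorem add_self_zmod_two (a : ZMod 2) : a + a = 0 := by
  revert a
  decide

theorem add_self_zmod (n : ℕ) (hn : n ≤ 1) (a : ZMod (2 ^ n)) : a + a = 0 := by
  interval_cases n
  · revert a
    decide
  · revert a
    decide

/-- In a dihedral group all squares vanish in a commutative quotient. -/
theorem sq_of_dihedral {m : ℕ} {A : Type*} [Group A] (hA : ∀ a b : A, a * b = b * a)
    (φ : DihedralGroup m →* A) (x : DihedralGroup m) : φ x ^ 2 = 1 := by
  cases x with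
  | r i =>
    have h1 : (DihedralGroup.sr 0 : DihedralGroup m) * DihedralGroup.r i * DihedralGroup.sr 0 =
        DihedralGroup.r (-i) := by
      simp [DihedralGroup.sr_mul_r, DihedralGroup.sr_mul_sr]
    have h2 : (DihedralGroup.sr 0 : DihedralGroup m) * DihedralGroup.sr 0 = 1 := DihedralGroup.sr_mul_self 0
    have h3 : (DihedralGroup.r (-i) : DihedralGroup m) * DihedralGroup.r i = 1 := by
      rw [DihedralGroup.r_mul_r, neg_add_cancel, DihedralGroup.r_zero]
    have h1' := congrArg φ h1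
    have h2' := congrArg φ h2
    have h3' := congrArg φ h3
    simp only [map_mul, map_one] at h1' h2' h3'
    set a := φ (DihedralGroup.r i)
    set b := φ (DihedralGroup.sr 0)
    set c := φ (DihedralGroup.r (-i))
    have h4 : b * a * b = a := by
      calc b * a * b = a * b * b := by rw [hA b a]
        _ = a * (b * b) := by group
        _ = a := by rw [h2']; group
    have h5 : c = a := by rw [← h1', h4]
    rw [h5] at h3'
    rw [pow_two]
    exact h3'
  | sr i =>
    rw [pow_two, ← map_mul, DihedralGroup.sr_mul_self, map_one]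

/-- In a quaternion group with `n` even all squares vanish in a commutative quotient. -/
theorem sq_of_quaternion {n : ℕ} (hn : Even n) {A : Type*} [Group A] (hA : ∀ a b : A, a * b = b * a)
    (φ : QuaternionGroup n →* A) (x : QuaternionGroup n) : φ x ^ 2 = 1 := by
  have key : ∀ i : ZMod (2 * n), φ (QuaternionGroup.a i) ^ 2 = 1 := by
    intro i
    have h1 : (QuaternionGroup.xa 0 : QuaternionGroup n) * QuaternionGroup.a i =
        QuaternionGroup.a (-i) * QuaternionGroup.xa 0 := by
      simp [QuaternionGroup.xa_mul_a, QuaternionGroup.a_mul_xa]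
    have h3 : (QuaternionGroup.a (-i) : QuaternionGroup n) * QuaternionGroup.a i = 1 := by
      rw [QuaternionGroup.a_mul_a, neg_add_cancel, QuaternionGroup.a_zero]
    have h1' := congrArg φ h1
    have h3' := congrArg φ h3
    simp only [map_mul, map_one] at h1' h3'
    set a := φ (QuaternionGroup.a i)
    set b := φ (QuaternionGroup.xa 0)
    set c := φ (QuaternionGroup.a (-i))
    have h5 : a = c := by
      have h6 : b * a = b * c := by rw [h1', hA c b]
      exact mul_left_cancel h6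
    rw [← h5] at h3'
    rw [pow_two]
    exact h3'
  cases x with
  | a i => exact key i
  | xa i =>
    obtain ⟨k, rfl⟩ := hn
    rw [← map_pow, QuaternionGroup.xa_sq]
    have h1 : (QuaternionGroup.a (((k + k : ℕ) : ZMod (2 * (k + k)))) : QuaternionGroup (k + k)) =
        QuaternionGroup.a (k : ZMod (2 * (k + k))) ^ 2 := by
      rw [pow_two, QuaternionGroup.a_mul_a]
      push_cast
      rfl
    rw [h1, map_pow]
    exact key _

/-- In a quasi-dihedral group all squares vanish in a commutative quotient. -/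
theorem sq_of_quasi {S : Type*} [Group S] [Finite S] (hS : Cfsg.IsQuasiDihedral S) {A : Type*} [Group A]
    (hA : ∀ a b : A, a * b = b * a) (f : S →* A) (w : S) : f w ^ 2 = 1 := by
  obtain ⟨n, hn, hcard, x, y, hx, hy, hyx⟩ := hS
  obtain ⟨k, rfl⟩ : ∃ k, n = k + 3 := ⟨n - 3, by omega⟩
  have hxpow : x ^ (2 ^ (k + 3)) = 1 := by rw [← hx]; exact pow_orderOf_eq_one x
  have hypow : y ^ 2 = 1 := by rw [← hy]; exact pow_orderOf_eq_one y
  have he : (2 ^ (k + 3 - 1) - 1 : ℕ) = 2 * (2 ^ (k + 1) - 1) + 1 := by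
    have h1 : 1 ≤ 2 ^ (k + 1) := Nat.one_le_two_pow
    have h2 : k + 3 - 1 = k + 1 + 1 := by omega
    rw [h2, pow_succ]
    omega
  have hodd : Odd (2 ^ (k + 1) - 1) := by
    have h1 : 2 ≤ 2 ^ (k + 1) := by
      calc 2 = 2 ^ 1 := by norm_num
        _ ≤ 2 ^ (k + 1) := Nat.pow_le_pow_right (by norm_num) (by omega)
    have h2 : 2 ∣ 2 ^ (k + 1) := dvd_pow_self 2 (by omega)
    obtain ⟨c, hc⟩ := h2
    exact ⟨c - 1, by omega⟩
  -- `f x` squares to one
  have hfx : f x ^ 2 = 1 := by
    have h1 : f y * f x * (f y)⁻¹ = f x ^ (2 * (2 ^ (k + 1) - 1) + 1) := by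
      rw [← he, ← map_pow, ← hyx, map_mul, map_mul, map_inv]
    have h2 : f y * f x * (f y)⁻¹ = f x := by
      rw [hA (f y) (f x)]
      group
    rw [h2, pow_succ] at h1
    have h3 : f x ^ (2 * (2 ^ (k + 1) - 1)) = 1 := by
      have h4 : 1 * f x = f x ^ (2 * (2 ^ (k + 1) - 1)) * f x := by rw [one_mul]; exact h1
      exact (mul_right_cancel h4).symm
    have h5 : (f x ^ 2) ^ (2 ^ (k + 1) - 1) = 1 := by rw [← pow_mul]; exact h3
    have h6 : (f x ^ 2) ^ (2 ^ (k + 3)) = 1 := by
      rw [← pow_mul, mul_comm, pow_mul, ← map_pow, hxpow, map_one, one_pow]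
    have h7 : orderOf (f x ^ 2) ∣ Nat.gcd (2 ^ (k + 3)) (2 ^ (k + 1) - 1) :=
      Nat.dvd_gcd (orderOf_dvd_of_pow_eq_one h6) (orderOf_dvd_of_pow_eq_one h5)
    have h8 : Nat.gcd (2 ^ (k + 3)) (2 ^ (k + 1) - 1) = 1 :=
      Nat.Coprime.pow_left _ (Nat.coprime_two_left.2 hodd)
    rw [h8, Nat.dvd_one, orderOf_eq_one_iff] at h7
    exact h7
  have hfy : f y ^ 2 = 1 := by rw [← map_pow, hypow, map_one]
  -- the index two subgroup
  set U : Subgroup S := Subgroup.zpowers x with hU
  have hUi : U.index = 2 := by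
    have h1 := U.card_mul_index
    rw [hcard, hU, Nat.card_zpowers, hx] at h1
    have h2 : (2 : ℕ) ^ (k + 3 + 1) = 2 ^ (k + 3) * 2 := pow_succ _ _
    rw [h2] at h1
    exact Nat.eq_of_mul_eq_mul_left (by positivity) h1
  have hpowU : ∀ u ∈ U, f u ^ 2 = 1 := by
    intro u hu
    obtain ⟨i, rfl⟩ := Subgroup.mem_zpowers_iff.1 hu
    rw [map_zpow, ← zpow_natCast, ← zpow_mul, mul_comm, zpow_mul, zpow_natCast, hfx, one_zpow]
  have hyU : y ∉ U := by
    intro hy'
    obtain ⟨i, rfl⟩ := Subgroup.mem_zpowers_iff.1 hy'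
    have h1 : x ^ i * x * (x ^ i)⁻¹ = x := by
      rw [(Commute.refl x).zpow_left i |>.eq]
      group
    rw [h1] at hyx
    have h2 : x ^ (2 * (2 ^ (k + 1) - 1)) = 1 := by
      rw [he, pow_succ] at hyx
      have h4 : 1 * x = x ^ (2 * (2 ^ (k + 1) - 1)) * x := by rw [one_mul]; exact hyx
      exact (mul_right_cancel h4).symm
    have h3 := orderOf_dvd_of_pow_eq_one h2
    rw [hx] at h3
    have h4 : 2 * (2 ^ (k + 1) - 1) < 2 ^ (k + 3) := by
      have : 2 ^ (k + 3) = 4 * 2 ^ (k + 1) := by rw [pow_add, pow_add]; ring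
      have h1 : 1 ≤ 2 ^ (k + 1) := Nat.one_le_two_pow
      omega
    have h5 : 0 < 2 * (2 ^ (k + 1) - 1) := by
      have := hodd.pos
      omega
    exact absurd (Nat.le_of_dvd h5 h3) (by omega)
  by_cases hwU : w ∈ U
  · exact hpowU w hwU
  · have h1 : w * y ∈ U := by
      rw [Subgroup.mul_mem_iff_of_index_two hUi]
      exact ⟨fun h => absurd h hwU, fun h => absurd h hyU⟩
    have h2 := hpowU _ h1
    rw [map_mul] at h2
    have h3 : (f w * f y) ^ 2 = f w ^ 2 * f y ^ 2 := by
      rw [pow_two, pow_two, pow_two]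
      calc f w * f y * (f w * f y) = f w * (f y * f w) * f y := by group
        _ = f w * (f w * f y) * f y := by rw [hA (f y) (f w)]
        _ = f w * f w * (f y * f y) := by group
    rw [h3, hfy, mul_one] at h2
    exact h2

end Sq

section Frob

variable {G : Type*} [Group G] [Finite G]

/-- If the fusion system of `G` on a Sylow `2`-subgroup is inner, the Frobenius hypothesis holds. -/
theorem frobeniusHyp_of_inner [Fact (Nat.Prime 2)] (S : Sylow 2 G)
    (hF : ∀ P : Subgroup G, (groupFusionSystem (S : Subgroup G)).Hom P = (innerFusionSystem (S : Subgroup G)).Hom P) :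
    Cfsg.Agent.Lib.Transfer.Frobenius.FrobeniusHyp 2 G := by
  intro Q hQ g hgN hgc
  obtain ⟨y, hy⟩ := Cfsg.Agent.Lib.Transfer.Frobenius.exists_conj_mem_of_isPGroup S hQ
  set Q₁ : Subgroup G := Q.map (MulAut.conj y).toMonoidHom with hQ₁
  have hQ₁mem : ∀ x : G, x ∈ Q₁ ↔ y⁻¹ * x * y ∈ Q := by
    intro x
    rw [hQ₁, Subgroup.mem_map_equiv]
    simp
  have hQ₁S : Q₁ ≤ (S : Subgroup G) := by
    intro x hx
    have h1 := hy _ ((hQ₁mem x).1 hx)
    have h2 : y * (y⁻¹ * x * y) * y⁻¹ = x := by group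
    rwa [h2] at h1
  set g₁ := y * g * y⁻¹ with hg₁
  have hg₁N : ∀ x ∈ Q₁, g₁ * x * g₁⁻¹ ∈ Q₁ := by
    intro x hx
    rw [hQ₁mem]
    have h1 := (Subgroup.mem_normalizer_iff.1 hgN (y⁻¹ * x * y)).1 ((hQ₁mem x).1 hx)
    have h2 : y⁻¹ * (g₁ * x * g₁⁻¹) * y = g * (y⁻¹ * x * y) * g⁻¹ := by
      rw [hg₁]
      group
    rwa [h2]
  have hφ : conjHom Q₁ g₁ ∈ (groupFusionSystem (S : Subgroup G)).Hom Q₁ := by
    refine ⟨hQ₁S, fun x => hQ₁S (hg₁N x x.2), g₁, fun x => rfl⟩
  rw [hF] at hφ
  obtain ⟨-, s, hs, hφs⟩ := hφ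
  have hact : ∀ x ∈ Q₁, g₁ * x * g₁⁻¹ = s * x * s⁻¹ := fun x hx => hφs ⟨x, hx⟩
  have hpow : ∀ i : ℕ, ∀ x ∈ Q₁, g₁ ^ i * x * (g₁ ^ i)⁻¹ = s ^ i * x * (s ^ i)⁻¹ := by
    intro i
    induction i with
    | zero => intro x _; simp
    | succ i ih =>
      intro x hx
      calc g₁ ^ (i + 1) * x * (g₁ ^ (i + 1))⁻¹ = g₁ ^ i * (g₁ * x * g₁⁻¹) * (g₁ ^ i)⁻¹ := by
            rw [pow_succ]; group
        _ = s ^ i * (g₁ * x * g₁⁻¹) * (s ^ i)⁻¹ := ih _ (hg₁N x hx)
        _ = s ^ i * (s * x * s⁻¹) * (s ^ i)⁻¹ := by rw [hact x hx]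
        _ = s ^ (i + 1) * x * (s ^ (i + 1))⁻¹ := by rw [pow_succ]; group
  obtain ⟨a, ha⟩ := Cfsg.Agent.Lib.Basic.SylowUtil.orderOf_eq_pow_of_mem S hs
  have hcg : Nat.Coprime (orderOf g₁) 2 := by
    have h0 : orderOf g₁ = orderOf g := (MulAut.conj y).orderOf_eq g
    rw [h0]
    exact hgc
  have hfix : ∀ x ∈ Q₁, g₁ * x * g₁⁻¹ = x := by
    intro x hx
    have h1 : g₁ ^ (2 ^ a) * x * (g₁ ^ (2 ^ a))⁻¹ = x := by
      rw [hpow _ x hx, ← ha, pow_orderOf_eq_one]
      simp
    have h2 : g₁ ^ (2 ^ a) ∈ Subgroup.centralizer ({x} : Set G) := by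
      rw [Subgroup.mem_centralizer_iff]
      intro z hz
      rw [Set.mem_singleton_iff] at hz
      rw [hz]
      rw [mul_inv_eq_iff_eq_mul] at h1
      exact h1.symm
    have h3 : g₁ ∈ Subgroup.centralizer ({x} : Set G) := by
      have hc : Nat.Coprime (2 ^ a) (orderOf g₁) := Nat.Coprime.pow_left _ hcg.symm
      by_cases h1n : orderOf g₁ = 1
      · rw [orderOf_eq_one_iff.1 h1n]
        exact one_mem _
      have h1n' : 1 < orderOf g₁ := by
        have := orderOf_pos g₁
        omega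
      obtain ⟨k, -, hk⟩ := Nat.exists_mul_mod_eq_one_of_coprime hc h1n'
      have h4 : g₁ = (g₁ ^ (2 ^ a)) ^ k := by
        rw [← pow_mul, ← pow_mod_orderOf, hk, pow_one]
      rw [h4]
      exact pow_mem h2 k
    rw [Subgroup.mem_centralizer_iff] at h3
    have h4 := h3 x (Set.mem_singleton x)
    rw [← h4]
    group
  rw [Subgroup.mem_centralizer_iff]
  intro q hq
  have hq₁ : y * q * y⁻¹ ∈ Q₁ := by
    rw [hQ₁mem]
    have h2 : y⁻¹ * (y * q * y⁻¹) * y = q := by group
    rw [h2]
    exact hq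
  have h1 := hfix _ hq₁
  have h2 : g * q * g⁻¹ = q := by
    have h3 : y * (g * q * g⁻¹) * y⁻¹ = y * q * y⁻¹ := by
      rw [← h1, hg₁]
      group
    exact mul_left_cancel (mul_right_cancel h3)
  rw [mul_inv_eq_iff_eq_mul] at h2
  exact h2.symm

end Frob

section Main

variable {G : Type u} [Group G] [Finite G]

/-- The main theorem, given Feit-Thompson. -/
theorem isSolvable_main
    (hFT : ∀ (Y : Type u) [Group Y] [Finite Y], Odd (Nat.card Y) → Group.IsSolvable Y)
    (S : Sylow 2 G) (N : Subgroup ↥(S : Subgroup G)) [hN : N.Normal] (hNc : IsCyclic N)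
    (hQc : IsCyclic (↥(S : Subgroup G) ⧸ N)) (hQ : 2 < Nat.card (↥(S : Subgroup G) ⧸ N)) :
    Group.IsSolvable G := by
  classical
  haveI hfact : Fact (Nat.Prime 2) := ⟨Nat.prime_two⟩
  have hm : Cfsg.IsMetacyclic ↥(S : Subgroup G) := ⟨N, hN, hNc, hQc⟩
  have hcompl : Cfsg.HasNormalPComplement 2 G → Group.IsSolvable G := by
    rintro ⟨P', K, hKn, hK⟩
    haveI := hKn
    exact isSolvable_of_complement hFT hK
  by_cases hcyc : IsCyclic ↥(S : Subgroup G)
  · exact hcompl (Cfsg.Agent.Lib.PGroup.QDSylow6.hasNormalPComplement_of_isCyclic S hcyc)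
  -- commutativity of the quotient and the key non-square
  have hcomm : ∀ a b : ↥(S : Subgroup G) ⧸ N, a * b = b * a := by
    intro a b
    obtain ⟨g, hg⟩ := hQc.exists_generator (α := ↥(S : Subgroup G) ⧸ N)
    obtain ⟨i, rfl⟩ := Subgroup.mem_zpowers_iff.1 (hg a)
    obtain ⟨j, rfl⟩ := Subgroup.mem_zpowers_iff.1 (hg b)
    exact (Commute.refl g).zpow_zpow i j |>.eq
  have hnot : ¬ ∀ w : ↥(S : Subgroup G), (QuotientGroup.mk' N) w ^ 2 = 1 := by
    intro hall
    obtain ⟨g, hg⟩ := hQc.exists_generator (α := ↥(S : Subgroup G) ⧸ N)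
    obtain ⟨w, rfl⟩ := QuotientGroup.mk_surjective g
    have h1 := hall w
    have h2 : orderOf ((w : ↥(S : Subgroup G)) : ↥(S : Subgroup G) ⧸ N) ∣ 2 := orderOf_dvd_of_pow_eq_one h1
    have h3 : orderOf ((w : ↥(S : Subgroup G)) : ↥(S : Subgroup G) ⧸ N) = Nat.card (↥(S : Subgroup G) ⧸ N) :=
      orderOf_eq_card_of_forall_mem_zpowers hg
    rw [h3] at h2
    have := Nat.le_of_dvd (by norm_num) h2
    omega
  by_cases hh : ∃ n k : ℕ, Nonempty (↥(S : Subgroup G) ≃* Multiplicative (Fin k → ZMod (2 ^ n)))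
  · obtain ⟨n, k, ⟨e⟩⟩ := hh
    -- `n ≥ 2`
    have hn2 : 2 ≤ n := by
      by_contra hlt
      apply hnot
      intro w
      have h1 : w ^ 2 = 1 := by
        apply e.injective
        rw [map_pow, map_one]
        have h2 : ∀ v : Fin k → ZMod (2 ^ n), v + v = 0 := by
          intro v
          funext i
          exact add_self_zmod n (by omega) _
        apply Multiplicative.toAdd.injective
        rw [toAdd_pow, two_nsmul]
        exact h2 _
      rw [← map_pow, h1, map_one]
    -- `k ≤ 2`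
    have hk2 : k ≤ 2 := by
      have hdvd2 : (2 : ℕ) ∣ 2 ^ n := dvd_pow_self 2 (by omega)
      let c : ZMod (2 ^ n) →+ ZMod 2 := (ZMod.castHom hdvd2 (ZMod 2)).toAddMonoidHom
      have hc : Function.Surjective c := ZMod.castHom_surjective hdvd2
      let d : (Fin k → ZMod (2 ^ n)) →+ (Fin k → ZMod 2) := c.compLeft (Fin k)
      have hd : Function.Surjective d := hc.comp_left
      let f : ↥(S : Subgroup G) →* Multiplicative (Fin k → ZMod 2) :=
        (AddMonoidHom.toMultiplicative d).comp e.toMonoidHom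
      have hf : Function.Surjective f := hd.comp e.surjective
      have hX : Cfsg.IsMetacyclic (↥(S : Subgroup G) ⧸ f.ker) :=
        Cfsg.Agent.Lib.PGroup.HuppertA.metacyclic_of_surjective (QuotientGroup.mk' f.ker)
          (QuotientGroup.mk'_surjective _) hm
      have h1 := Cfsg.Agent.Lib.PGroup.HuppertA.card_le_of_metacyclic_exponent (p := 2) (by norm_num) hX (by
        intro x
        obtain ⟨s, rfl⟩ := QuotientGroup.mk_surjective x
        rw [← QuotientGroup.mk_pow, QuotientGroup.eq_one_iff, MonoidHom.mem_ker, map_pow]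
        apply Multiplicative.toAdd.injective
        rw [toAdd_pow, two_nsmul]
        funext i
        exact add_self_zmod_two _)
      have h2 : Nat.card (↥(S : Subgroup G) ⧸ f.ker) = 2 ^ k := by
        rw [Nat.card_congr (QuotientGroup.quotientKerEquivOfSurjective f hf).toEquiv,
          Nat.card_congr Multiplicative.toAdd, Nat.card_eq_fintype_card, Fintype.card_fun, ZMod.card,
          Fintype.card_fin]
      rw [h2] at h1
      exact (Nat.pow_le_pow_iff_right (by norm_num)).1 h1
    interval_cases k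
    · -- `k = 0`
      exfalso
      apply hnot
      intro w
      have h1 : w = 1 := by
        apply e.injective
        rw [map_one]
        exact Subsingleton.elim (α := Multiplicative (Fin 0 → ZMod (2 ^ n))) _ _
      rw [h1, map_one, one_pow]
    · -- `k = 1`
      exfalso
      apply hcyc
      let e1 : (Fin 1 → ZMod (2 ^ n)) ≃+ ZMod (2 ^ n) :=
        (LinearEquiv.funUnique (Fin 1) (ZMod (2 ^ n)) (ZMod (2 ^ n))).toAddEquiv
      let e2 : Multiplicative (Fin 1 → ZMod (2 ^ n)) ≃* Multiplicative (ZMod (2 ^ n)) :=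
        AddEquiv.toMultiplicative e1
      exact isCyclic_of_injective (e.trans e2).toMonoidHom (e.trans e2).injective
    · -- `k = 2`
      let e1 : (Fin 2 → ZMod (2 ^ n)) ≃+ ZMod (2 ^ n) × ZMod (2 ^ n) :=
        (LinearEquiv.finTwoArrow (ZMod (2 ^ n)) (ZMod (2 ^ n))).toAddEquiv
      let e2 : Multiplicative (Fin 2 → ZMod (2 ^ n)) ≃* Multiplicative (ZMod (2 ^ n) × ZMod (2 ^ n)) :=
        AddEquiv.toMultiplicative e1
      exact Cfsg.Agent.Lib.Coprime.Homocyclic.isSolvable_of_homocyclic_aux hFT _ G S n hn2 (e.trans e2) rfl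
  · have hd : ¬ ∃ m : ℕ, Nonempty (↥(S : Subgroup G) ≃* DihedralGroup m) := by
      rintro ⟨m, ⟨e⟩⟩
      apply hnot
      intro w
      have h1 := sq_of_dihedral hcomm ((QuotientGroup.mk' N).comp e.symm.toMonoidHom) (e w)
      simpa using h1
    have hq : ¬ ∃ m : ℕ, Nonempty (↥(S : Subgroup G) ≃* QuaternionGroup m) := by
      rintro ⟨m, ⟨e⟩⟩
      by_cases hmeven : Even m
      · apply hnot
        intro w
        have h1 := sq_of_quaternion hmeven hcomm ((QuotientGroup.mk' N).comp e.symm.toMonoidHom) (e w)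
        simpa using h1
      · exfalso
        apply hcyc
        have hmodd : Odd m := Nat.not_even_iff_odd.1 hmeven
        have hm0 : m ≠ 0 := by
          rintro rfl
          simp at hmodd
        haveI : NeZero m := ⟨hm0⟩
        have hcard : Nat.card ↥(S : Subgroup G) = 4 * m := by
          rw [Nat.card_congr e.toEquiv, Nat.card_eq_fintype_card, QuaternionGroup.card]
        obtain ⟨a, ha⟩ := IsPGroup.iff_card.1 S.isPGroup'
        have hdvd : m ∣ 2 ^ a := by
          rw [← ha, hcard]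
          exact Dvd.intro_left 4 rfl
        obtain ⟨b, -, hb⟩ := (Nat.dvd_prime_pow Nat.prime_two).1 hdvd
        have hb0 : b = 0 := by
          by_contra hb0
          have h2 : Even m := by
            rw [hb]
            exact (Nat.even_pow.2 ⟨even_two, hb0⟩)
          exact hmeven h2
        rw [hb0, pow_zero] at hb
        subst hb
        haveI := QuaternionGroup.quaternionGroup_one_isCyclic
        exact isCyclic_of_injective e.toMonoidHom e.injective
    have hsd : ¬ Cfsg.IsQuasiDihedral ↥(S : Subgroup G) := by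
      intro h
      apply hnot
      intro w
      exact sq_of_quasi h hcomm (QuotientGroup.mk' N) w
    have hinner := Cfsg.Agent.S5212.result S.isPGroup' (groupFusionSystem (S : Subgroup G))
      (Cfsg.Agent.Lib.Fusion.GroupSylow.isSaturated_groupFusionSystem S) hm hh hd hq hsd
    exact hcompl (Cfsg.Agent.Lib.Transfer.Frobenius.hasNormalPComplement_of_hyp (frobeniusHyp_of_inner S hinner))

end Main

end Cfsg.Agent.Lib.Coprime.MetaSylow
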