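import Mathlib
import Cfsg.Prelude.Def_Solvable
import Cfsg.Agent.Lib.Coprime.SZ
import Cfsg.Agent.Lib.Frobenius.Basic
import Cfsg.Agent.Lib.Frobenius.Invariant
import Cfsg.Agent.Lib.Frobenius.SylowFpf

/-!
# Solvable groups with disconnected prime graph

`Sep π G`: no nontrivial `π`-element commutes with a nontrivial `π'`-element.  A finite solvable
group with `Sep π G` (and both `π`, `π'` occurring) is Frobenius or 2-Frobenius.
-/

set_option autoImplicit false
set_option linter.style.haveILetI false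
set_option linter.unusedSectionVars false

namespace Cfsg.Agent.Lib.Coprime.PrimeGraph2F

open Cfsg Cfsg.Agent.Lib.Frobenius
open scoped Pointwise commutatorElement

/-- `π`-elements. -/
def PiElt (π : ℕ → Prop) {G : Type*} [Group G] (x : G) : Prop :=
  ∀ p : ℕ, p.Prime → p ∣ orderOf x → π p

/-- `π`-subgroups. -/
def IsPi (π : ℕ → Prop) {G : Type*} [Group G] (H : Subgroup G) : Prop :=
  ∀ p : ℕ, p.Prime → p ∣ Nat.card H → π p

/-- No nontrivial `π`-element commutes with a nontrivial `π'`-element. -/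
def Sep (π : ℕ → Prop) (G : Type*) [Group G] : Prop :=
  ∀ x y : G, x * y = y * x → PiElt π x → PiElt (fun p => ¬ π p) y → x = 1 ∨ y = 1

section basic

variable {G : Type*} [Group G]

theorem Sep.symm {π : ℕ → Prop} (h : Sep π G) : Sep (fun p => ¬ π p) G := by
  intro x y hxy hx hy
  have := h y x hxy.symm (fun p hp hd => not_not.mp (hy p hp hd)) hx
  tauto

theorem Sep.of_injective {π : ℕ → Prop} {H : Type*} [Group H] (h : Sep π G) (f : H →* G)
    (hf : Function.Injective f) : Sep π H := by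
  intro x y hxy hx hy
  have key : ∀ z : H, orderOf (f z) = orderOf z := fun z => orderOf_injective f hf z
  have := h (f x) (f y) (by rw [← map_mul, ← map_mul, hxy])
    (fun p hp hd => hx p hp (by rwa [key] at hd)) (fun p hp hd => hy p hp (by rwa [key] at hd))
  rcases this with h1 | h1
  · left; exact hf (by rw [h1, map_one])
  · right; exact hf (by rw [h1, map_one])

theorem PiElt.of_mem [Finite G] {π : ℕ → Prop} {H : Subgroup G} (hH : IsPi π H) {x : G} (hx : x ∈ H) :
    PiElt π x := fun p hp hd => hH p hp (hd.trans (Subgroup.orderOf_dvd_natCard H hx))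

theorem IsPi.of_le [Finite G] {π : ℕ → Prop} {H K : Subgroup G} (hH : IsPi π H) (h : K ≤ H) : IsPi π K :=
  fun p hp hd => hH p hp (hd.trans (Subgroup.card_dvd_of_le h))

theorem isPi_sup [Finite G] {π : ℕ → Prop} {M N : Subgroup G} [M.Normal] (hM : IsPi π M) (hN : IsPi π N) :
    IsPi π (M ⊔ N) := by
  intro p hp hd
  have h1 : Nat.card (M ⊔ N : Subgroup G) = Nat.card M * M.relIndex (M ⊔ N) := by
    have := Subgroup.card_mul_index (M.subgroupOf (M ⊔ N))
    rw [Coprime.SZ.card_subgroupOf_of_le le_sup_left] at this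
    exact this.symm
  have h2 : M.relIndex (M ⊔ N) ∣ Nat.card N := by
    rw [Subgroup.relIndex_sup_left]
    exact Subgroup.relIndex_dvd_card M N
  rw [h1] at hd
  rcases (Nat.Prime.dvd_mul hp).mp hd with h3 | h3
  · exact hM p hp h3
  · exact hN p hp (h3.trans h2)

/-- The `π`-core. -/
theorem exists_core [Finite G] (π : ℕ → Prop) :
    ∃ N : Subgroup G, N.Normal ∧ IsPi π N ∧ ∀ M : Subgroup G, M.Normal → IsPi π M → M ≤ N := by
  classical
  have hne : Nonempty {N : Subgroup G // N.Normal ∧ IsPi π N} :=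
    ⟨⟨⊥, inferInstance, fun p hp hd => by
      rw [Subgroup.card_bot] at hd
      exact absurd (Nat.dvd_one.mp hd) hp.ne_one⟩⟩
  obtain ⟨N, hN⟩ := Finite.exists_max (fun N : {N : Subgroup G // N.Normal ∧ IsPi π N} => Nat.card N.1)
  refine ⟨N.1, N.2.1, N.2.2, ?_⟩
  intro M hM hMπ
  have h1 : IsPi π (M ⊔ N.1) := isPi_sup hMπ N.2.2
  have h2 : (M ⊔ N.1).Normal := by
    haveI := N.2.1
    infer_instance
  have h3 := hN ⟨M ⊔ N.1, h2, h1⟩
  have h4 : N.1 = M ⊔ N.1 := Subgroup.eq_of_le_of_card_ge le_sup_right h3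
  rw [h4]
  exact le_sup_left

theorem isPi_comap [Finite G] {π : ℕ → Prop} (N : Subgroup G) [N.Normal] (M : Subgroup (G ⧸ N))
    (hN : IsPi π N) (hM : IsPi π M) : IsPi π (M.comap (QuotientGroup.mk' N)) := by
  intro p hp hd
  have h1 := Coprime.SZ.card_map_mul_card_inf_ker (QuotientGroup.mk' N) (M.comap (QuotientGroup.mk' N))
  rw [Subgroup.map_comap_eq_self_of_surjective (QuotientGroup.mk'_surjective N)] at h1
  rw [← h1] at hd
  rcases (Nat.Prime.dvd_mul hp).mp hd with h3 | h3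
  · exact hM p hp h3
  · refine hN p hp (h3.trans (Subgroup.card_dvd_of_le ?_))
    rw [QuotientGroup.ker_mk']
    exact inf_le_right

/-- A nontrivial finite solvable group has a nontrivial normal subgroup of prime exponent. -/
theorem exists_normal_pGroup [Finite G] [Nontrivial G] (hsol : Group.IsSolvable G) :
    ∃ (r : ℕ) (R : Subgroup G), r.Prime ∧ R.Normal ∧ R ≠ ⊥ ∧ IsPGroup r R := by
  classical
  obtain ⟨n, hn⟩ := hsol.solvable
  have hex : ∃ n, derivedSeries G n = ⊥ := ⟨n, hn⟩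
  let m := Nat.find hex
  have hm : derivedSeries G m = ⊥ := Nat.find_spec hex
  have hm0 : m ≠ 0 := by
    intro h0
    rw [h0, derivedSeries_zero] at hm
    exact top_ne_bot hm
  obtain ⟨k, hk⟩ := Nat.exists_eq_succ_of_ne_zero hm0
  set A := derivedSeries G k with hA
  have hA1 : A ≠ ⊥ := by
    intro h0
    have : m ≤ k := Nat.find_min' hex h0
    omega
  have hAc : ⁅A, A⁆ = ⊥ := by
    have : derivedSeries G (k + 1) = ⁅A, A⁆ := derivedSeries_succ G k
    rw [← this, ← Nat.succ_eq_add_one, ← hk, hm]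
  have hcomm : ∀ a ∈ A, ∀ b ∈ A, a * b = b * a := by
    intro a ha b hb
    have : ⁅a, b⁆ ∈ ⁅A, A⁆ := Subgroup.commutator_mem_commutator ha hb
    rw [hAc, Subgroup.mem_bot] at this
    exact commutatorElement_eq_one_iff_mul_comm.mp this
  haveI hAn : A.Normal := derivedSeries_normal G k
  haveI : Nontrivial A := (Subgroup.bot_or_nontrivial A).resolve_left hA1
  obtain ⟨r, hr, hrd⟩ := Nat.exists_prime_and_dvd (Finite.one_lt_card (α := A)).ne'
  haveI : Fact r.Prime := ⟨hr⟩
  obtain ⟨a, ha⟩ := exists_prime_orderOf_dvd_card' r hrd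
  let R : Subgroup G :=
    { carrier := {x | x ∈ A ∧ x ^ r = 1}
      one_mem' := ⟨A.one_mem, one_pow r⟩
      mul_mem' := by
        rintro x y ⟨hx, hx'⟩ ⟨hy, hy'⟩
        refine ⟨A.mul_mem hx hy, ?_⟩
        have : Commute x y := hcomm x hx y hy
        rw [this.mul_pow, hx', hy', one_mul]
      inv_mem' := by
        rintro x ⟨hx, hx'⟩
        exact ⟨A.inv_mem hx, by rw [inv_pow, hx', inv_one]⟩ }
  refine ⟨r, R, hr, ?_, ?_, ?_⟩
  · constructor
    rintro x ⟨hx, hx'⟩ g
    refine ⟨hAn.conj_mem x hx g, ?_⟩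
    rw [conj_pow, hx', mul_one, mul_inv_cancel]
  · intro h0
    have h1 : (a : G) ∈ R := ⟨a.2, by
      have := pow_orderOf_eq_one a
      rw [ha] at this
      simpa using congrArg Subtype.val this⟩
    rw [h0, Subgroup.mem_bot] at h1
    have h2 : a = 1 := Subtype.ext h1
    rw [h2, orderOf_one] at ha
    exact hr.ne_one ha.symm
  · intro x
    refine ⟨1, ?_⟩
    rw [pow_one]
    exact Subtype.ext x.2.2

/-- Commuting power trick: `hdisc` gives `Sep`. -/
theorem sep_of_disc [Finite G] (A : Set ℕ)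
    (h : ∀ a ∈ A, ∀ b ∉ A, a.Prime → b.Prime → a ∣ Nat.card G → b ∣ Nat.card G → ¬ ∃ g : G, orderOf g = a * b) :
    Sep (fun p => p ∈ A) G := by
  intro x y hxy hx hy
  by_contra hcon
  push Not at hcon
  obtain ⟨hx1, hy1⟩ := hcon
  have hxo : orderOf x ≠ 1 := fun h1 => hx1 (orderOf_eq_one_iff.mp h1)
  have hyo : orderOf y ≠ 1 := fun h1 => hy1 (orderOf_eq_one_iff.mp h1)
  obtain ⟨a, ha, had⟩ := Nat.exists_prime_and_dvd hxo
  obtain ⟨b, hb, hbd⟩ := Nat.exists_prime_and_dvd hyo
  have hxa := hx a ha had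
  have hyb := hy b hb hbd
  have h1 : orderOf (x ^ (orderOf x / a)) = a := orderOf_pow_orderOf_div (orderOf_pos x).ne' had
  have h2 : orderOf (y ^ (orderOf y / b)) = b := orderOf_pow_orderOf_div (orderOf_pos y).ne' hbd
  have hab : a ≠ b := by
    rintro rfl
    exact hyb hxa
  have hcomm : Commute (x ^ (orderOf x / a)) (y ^ (orderOf y / b)) :=
    (show Commute x y from hxy).pow_pow _ _
  have h3 := hcomm.orderOf_mul_eq_mul_orderOf_of_coprime (by
    rw [h1, h2]; exact (Nat.coprime_primes ha hb).mpr hab)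
  rw [h1, h2] at h3
  exact h a hxa b hyb ha hb (had.trans (orderOf_dvd_natCard x)) (hbd.trans (orderOf_dvd_natCard y))
    ⟨_, h3⟩

/-- The Frobenius structure from a normal Hall subgroup in a `Sep`-group. -/
theorem frob_of_sep {X : Type*} [Group X] [Finite X] {π : ℕ → Prop} (hs : Sep π X) (Q : Subgroup X)
    [hQn : Q.Normal] (hQ : IsPi (fun p => ¬ π p) Q) (hi : ∀ p : ℕ, p.Prime → p ∣ Q.index → π p)
    (hQ1 : Q ≠ ⊥) (hQt : Q ≠ ⊤) :
    ∃ C : Subgroup X, IsFrobeniusComplement C ∧ frobeniusKernel C = Q := by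
  have hcop : (Nat.card Q).Coprime Q.index :=
    Nat.Coprime.symm (Nat.coprime_of_dvd (fun p hp h1 h2 => hQ p hp h2 (hi p hp h1)))
  obtain ⟨C, hC⟩ := Subgroup.exists_right_complement'_of_coprime hcop
  have hCc : Nat.card C = Q.index := by
    have h1 := hC.card_mul_card
    have h2 := Q.card_mul_index
    have h3 : 0 < Nat.card Q := Nat.card_pos
    exact Nat.eq_of_mul_eq_mul_left h3 (h1.trans h2.symm)
  have hC1 : C ≠ ⊥ := by
    rintro rfl
    rw [Subgroup.card_bot] at hCc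
    exact hQt (Subgroup.index_eq_one.mp hCc.symm)
  have hCπ : IsPi π C := fun p hp hd => hi p hp (by rwa [hCc] at hd)
  have hfpf : ∀ h ∈ C, h ≠ 1 → ∀ k ∈ Q, h * k = k * h → k = 1 := by
    intro h hh hh1 k hk hc
    rcases hs h k hc (PiElt.of_mem hCπ hh) (PiElt.of_mem hQ hk) with h1 | h1
    · exact absurd h1 hh1
    · exact h1
  exact ⟨C, Basic.isFrobeniusComplement_of_complement hC hQ1 hC1 hfpf,
    Basic.frobeniusKernel_eq_of_complement hC hfpf⟩

end basic

section main

variable {G : Type*} [Group G] [Finite G]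

/-- The main structural theorem. -/
theorem main_sep {π : ℕ → Prop} (hsol : Group.IsSolvable G) (hS : Sep π G) (P : Subgroup G)
    (hPn : P.Normal) (hP : IsPi π P) (hP1 : P ≠ ⊥) (b : ℕ) (hb : b.Prime) (hbd : b ∣ Nat.card G)
    (hbπ : ¬ π b) :
    (∃ C : Subgroup G, IsFrobeniusComplement C) ∨
    (∃ (H K : Subgroup G) (_ : H.Normal), K.Normal ∧ H < K ∧
      (∃ C : Subgroup ↥K, IsFrobeniusComplement C ∧ frobeniusKernel C = (H.subgroupOf K : Set ↥K)) ∧
      (∃ C : Subgroup (G ⧸ H), IsFrobeniusComplement C ∧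
        frobeniusKernel C = (K.map (QuotientGroup.mk' H) : Set (G ⧸ H)))) := by
  classical
  obtain ⟨N, hNn, hNπ, hNmax⟩ := exists_core (G := G) π
  haveI := hNn
  have hN1 : N ≠ ⊥ := fun h => hP1 (by rw [eq_bot_iff, ← h]; exact hNmax P hPn hP)
  have hTπ : ∀ M : Subgroup (G ⧸ N), M.Normal → IsPi π M → M = ⊥ := by
    intro M hM hMπ
    have h1 := hNmax _ (hM.comap (QuotientGroup.mk' N)) (isPi_comap N M hNπ hMπ)
    rw [eq_bot_iff]
    intro x hx
    obtain ⟨g, rfl⟩ := QuotientGroup.mk'_surjective N x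
    have h2 : g ∈ N := h1 hx
    rw [Subgroup.mem_bot]
    exact (QuotientGroup.eq_one_iff g).mpr h2
  have hcardG : Nat.card G = Nat.card N * N.index := (Subgroup.card_mul_index N).symm
  have hbT : b ∣ Nat.card (G ⧸ N) := by
    rw [hcardG] at hbd
    exact ((Nat.Prime.dvd_mul hb).mp hbd).resolve_left (fun h => hbπ (hNπ b hb h))
  haveI hTnt : Nontrivial (G ⧸ N) := by
    by_contra hnt
    rw [not_nontrivial_iff_subsingleton] at hnt
    rw [Nat.card_of_subsingleton (1 : G ⧸ N)] at hbT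
    exact hb.one_lt.ne' (Nat.dvd_one.mp hbT)
  haveI hsolG := hsol
  haveI hTsol : Group.IsSolvable (G ⧸ N) := inferInstance
  obtain ⟨r, R, hr, hRn, hR1, hRp⟩ := exists_normal_pGroup hTsol
  haveI : Fact r.Prime := ⟨hr⟩
  have hRcard : ∀ p : ℕ, p.Prime → p ∣ Nat.card R → p = r := by
    intro p hp hd
    obtain ⟨k, hk⟩ := IsPGroup.iff_card.mp hRp
    rw [hk] at hd
    exact (Nat.prime_dvd_prime_iff_eq hp hr).mp (hp.dvd_of_dvd_pow hd)
  have hrπ : ¬ π r := by
    intro hrπ
    exact hR1 (hTπ R hRn (fun p hp hd => by rw [hRcard p hp hd]; exact hrπ))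
  obtain ⟨Kb, hKbn, hKbπ, hKbmax⟩ := exists_core (G := G ⧸ N) (fun p => ¬ π p)
  haveI := hKbn
  have hRKb : R ≤ Kb := hKbmax R hRn (fun p hp hd => by rw [hRcard p hp hd]; exact hrπ)
  have hKb1 : Kb ≠ ⊥ := fun h => hR1 (by rw [eq_bot_iff, ← h]; exact hRKb)
  -- the preimage `L`
  set L : Subgroup G := Kb.comap (QuotientGroup.mk' N) with hL
  haveI hLn : L.Normal := hKbn.comap _
  have hNL : N ≤ L := by
    intro n hn
    change QuotientGroup.mk' N n ∈ Kb
    have : QuotientGroup.mk' N n = 1 := (QuotientGroup.eq_one_iff n).mpr hn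
    rw [this]
    exact Kb.one_mem
  have hLmap : L.map (QuotientGroup.mk' N) = Kb :=
    Subgroup.map_comap_eq_self_of_surjective (QuotientGroup.mk'_surjective N) Kb
  set N' : Subgroup L := N.subgroupOf L with hN'
  haveI hN'n : N'.Normal := inferInstance
  have hN'card : Nat.card N' = Nat.card N := Coprime.SZ.card_subgroupOf_of_le hNL
  have hLcard : Nat.card L = Nat.card Kb * Nat.card N := by
    have := Coprime.SZ.card_map_mul_card_inf_ker (QuotientGroup.mk' N) L
    rw [hLmap, QuotientGroup.ker_mk', inf_eq_right.mpr hNL] at this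
    exact this.symm
  have hN'index : N'.index = Nat.card Kb := by
    have h1 := N'.card_mul_index
    rw [hN'card, hLcard, mul_comm (Nat.card Kb)] at h1
    exact Nat.eq_of_mul_eq_mul_left Nat.card_pos h1
  have hcop : (Nat.card N').Coprime N'.index := by
    rw [hN'card, hN'index]
    exact Nat.coprime_of_dvd (fun p hp h1 h2 => hKbπ p hp h2 (hNπ p hp h1))
  obtain ⟨K₀, hK₀⟩ := Subgroup.exists_right_complement'_of_coprime hcop
  have hK₀card : Nat.card K₀ = N'.index := by
    have h1 := hK₀.card_mul_card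
    have h2 := N'.card_mul_index
    exact Nat.eq_of_mul_eq_mul_left Nat.card_pos (h1.trans h2.symm)
  let K : Subgroup G := K₀.map L.subtype
  have hKL : K ≤ L := by
    rintro _ ⟨x, -, rfl⟩
    exact x.2
  have hKcard : Nat.card K = Nat.card Kb := by
    rw [← hN'index, ← hK₀card]
    exact Subgroup.card_map_of_injective L.subtype_injective
  have hKπ : IsPi (fun p => ¬ π p) K := fun p hp hd => hKbπ p hp (by rwa [hKcard] at hd)
  have hKN : ∀ x, x ∈ K → x ∈ N → x = 1 := by
    intro x hx hxN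
    have h1 := Nat.card_pos (α := (K ⊓ N : Subgroup G))
    have h2 : (Nat.card (K ⊓ N : Subgroup G)).Coprime (Nat.card (K ⊓ N : Subgroup G)) := by
      apply Nat.Coprime.coprime_dvd_left (Subgroup.card_dvd_of_le inf_le_left)
      apply Nat.Coprime.coprime_dvd_right (Subgroup.card_dvd_of_le inf_le_right)
      exact Nat.coprime_of_dvd (fun p hp h1 h2 => hKπ p hp h1 (hNπ p hp h2))
    have h3 : Nat.card (K ⊓ N : Subgroup G) = 1 := (Nat.coprime_self _).mp h2
    have h4 : (⟨x, hx, hxN⟩ : (K ⊓ N : Subgroup G)) = 1 :=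
      (Nat.card_eq_one_iff_unique.mp h3).1.elim _ _
    exact congrArg Subtype.val h4
  have hK1 : K ≠ ⊥ := by
    intro h0
    rw [h0, Subgroup.card_bot] at hKcard
    exact hKb1 (Subgroup.card_eq_one.mp hKcard.symm)
  obtain ⟨⟨k₁, hk₁⟩, hk₁2⟩ := (Subgroup.ne_bot_iff_exists_ne_one.mp hK1)
  have hk₁1 : k₁ ≠ 1 := fun h => hk₁2 (Subtype.ext h)
  haveI hsolN' : Group.IsSolvable N' := inferInstance
  -- Frattini
  have hfrat : ∀ g : G, ∃ n ∈ N, ∃ t ∈ Subgroup.normalizer (K : Set G), n * t = g := by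
    intro g
    let K' : Subgroup G := MulAut.conj g • K
    have hK'L : K' ≤ L := by
      intro x hx
      have h1 : g⁻¹ * x * g ∈ K := Coprime.SZ.mem_conj_smul.mp hx
      have h2 := hLn.conj_mem _ (hKL h1) g
      convert h2 using 1
      group
    have hK'c : Nat.card (K'.subgroupOf L) = N'.index := by
      rw [Coprime.SZ.card_subgroupOf_of_le hK'L, Coprime.SZ.card_conj_smul, hKcard, hN'index]
    obtain ⟨u, hu⟩ := Coprime.SZ.conj_of_solvable N' hcop (Or.inl hsolN') K₀ (K'.subgroupOf L)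
      hK₀card hK'c
    have hK₀eq : K₀ = K.subgroupOf L := (Subgroup.comap_map_eq_self_of_injective L.subtype_injective K₀).symm
    rw [hK₀eq] at hu
    have hu' : MulAut.conj (u : G) • K = K' :=
      Coprime.SZ.map_subtype_conj_smul_subgroupOf hKL hK'L u hu
    have ht : (u : G)⁻¹ * g ∈ Subgroup.normalizer (K : Set G) := by
      rw [Subgroup.mem_normalizer_iff]
      intro h
      have h1 : h ∈ K ↔ g * h * g⁻¹ ∈ K' := by
        rw [Coprime.SZ.mem_conj_smul]
        simp [mul_assoc]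
      rw [h1, ← hu', Coprime.SZ.mem_conj_smul]
      simp [mul_assoc]
    have hu2 : u ∈ N' ⊔ K₀ := by
      rw [hK₀.sup_eq_top]
      trivial
    obtain ⟨n', hn', k', hk', hnk⟩ := Subgroup.mem_sup_of_normal_left.mp hu2
    refine ⟨(n' : G), hn', (k' : G) * ((u : G)⁻¹ * g), ?_, ?_⟩
    · refine Subgroup.mul_mem _ ?_ ht
      apply Subgroup.le_normalizer
      exact ⟨k', hk', rfl⟩
    · have h2 : (n' : G) * k' = u := congrArg Subtype.val hnk
      rw [← mul_assoc, h2]
      group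
  -- the normalizer is a complement
  have hT'N : ∀ n, n ∈ Subgroup.normalizer (K : Set G) → n ∈ N → n = 1 := by
    intro n hn hnN
    have h1 : n * k₁ * n⁻¹ ∈ K := (Subgroup.mem_normalizer_iff.mp hn k₁).mp hk₁
    have h2 : n * k₁ * n⁻¹ * k₁⁻¹ ∈ K := K.mul_mem h1 (K.inv_mem hk₁)
    have h3 : n * k₁ * n⁻¹ * k₁⁻¹ ∈ N := by
      have h4 := hNn.conj_mem _ (N.inv_mem hnN) k₁
      have h5 := N.mul_mem hnN h4
      convert h5 using 1
      group
    have h6 := hKN _ h2 h3
    have h7 : n * k₁ = k₁ * n := by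
      have : n * k₁ * n⁻¹ * k₁⁻¹ * (k₁ * n) = k₁ * n := by rw [h6, one_mul]
      rw [← this]
      group
    rcases hS n k₁ h7 (PiElt.of_mem hNπ hnN) (PiElt.of_mem hKπ hk₁) with h8 | h8
    · exact h8
    · exact absurd h8 hk₁1
  let T' := Subgroup.normalizer (K : Set G)
  let f : T' →* G ⧸ N := (QuotientGroup.mk' N).comp T'.subtype
  have hfbij : Function.Bijective f := by
    constructor
    · rw [injective_iff_map_eq_one]
      intro t ht
      have h1 : (t : G) ∈ N := (QuotientGroup.eq_one_iff (t : G)).mp ht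
      exact Subtype.ext (hT'N t t.2 h1)
    · intro x
      obtain ⟨g, rfl⟩ := QuotientGroup.mk'_surjective N x
      obtain ⟨n, hn, t, ht, rfl⟩ := hfrat g
      refine ⟨⟨t, ht⟩, ?_⟩
      change QuotientGroup.mk' N t = QuotientGroup.mk' N (n * t)
      have h9 : QuotientGroup.mk' N n = 1 := (QuotientGroup.eq_one_iff n).mpr hn
      rw [map_mul, h9, one_mul]
  let e : T' ≃* G ⧸ N := MulEquiv.ofBijective f hfbij
  let s : G ⧸ N →* G := T'.subtype.comp e.symm.toMonoidHom
  have hsinj : Function.Injective s := T'.subtype_injective.comp e.symm.injective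
  have hST : Sep π (G ⧸ N) := hS.of_injective s hsinj
  -- no elementary subgroup
  have hno : ∀ E : Subgroup (G ⧸ N), E ≤ Kb → ∀ (p : ℕ) [Fact p.Prime], Nat.card E = p ^ 2 →
      (∀ a ∈ E, a ^ p = 1) → False := by
    intro E hE p _ hcard hexp
    have hcE : Nat.card (E.map s) = Nat.card E := Subgroup.card_map_of_injective hsinj
    have hEπ : IsPi (fun p => ¬ π p) (E.map s) := fun q hq hd =>
      hKbπ q hq (by
        rw [hcE] at hd
        exact hd.trans (Subgroup.card_dvd_of_le hE))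
    refine Invariant.no_elementary_of_fpf' (K := N) (E := E.map s) hN1 ?_ ?_ (p := p) ?_ ?_
    · rw [Subgroup.normalizer_eq_top_iff.mpr hNn]
      exact le_top
    · intro a ha ha1 v hv hav
      rcases hS v a hav.symm (PiElt.of_mem hNπ hv) (PiElt.of_mem hEπ ha) with h1 | h1
      · exact h1
      · exact absurd h1 ha1
    · rw [hcE, hcard]
    · rintro _ ⟨x, hx, rfl⟩
      rw [← map_pow, hexp x hx, map_one]
  -- the normal subgroup of order `r`
  have hU : ∀ A B : Subgroup R, Nat.card A = r → Nat.card B = r → A = B :=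
    SylowFpf.unique_of_no_elementary hRp (by
      intro E hE hexp
      refine hno (E.map R.subtype) ?_ r ?_ ?_
      · rintro _ ⟨x, -, rfl⟩
        exact hRKb x.2
      · rw [Subgroup.card_map_of_injective R.subtype_injective, hE]
      · rintro _ ⟨x, hx, rfl⟩
        rw [← map_pow, hexp x hx, map_one])
  haveI : Nontrivial R := (Subgroup.bot_or_nontrivial R).resolve_left hR1
  have hrdR : r ∣ Nat.card R := by
    obtain ⟨k, hk⟩ := IsPGroup.iff_card.mp hRp
    have hk0 : k ≠ 0 := by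
      rintro rfl
      rw [pow_zero] at hk
      exact (Finite.one_lt_card (α := R)).ne' hk
    rw [hk]
    exact dvd_pow_self r hk0
  obtain ⟨m, hm⟩ := exists_prime_orderOf_dvd_card' r hrdR
  have hm' : orderOf (m : G ⧸ N) = r := by
    rw [Subgroup.orderOf_coe, hm]
  have hconj : ∀ t : G ⧸ N, t * m * t⁻¹ ∈ Subgroup.zpowers (m : G ⧸ N) := by
    intro t
    let m₁ : R := ⟨t * m * t⁻¹, hRn.conj_mem _ m.2 t⟩
    have h1 : orderOf m₁ = r := by
      rw [← Subgroup.orderOf_coe]
      change orderOf (t * (m : G ⧸ N) * t⁻¹) = r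
      rw [← hm']
      exact orderOf_injective (MulAut.conj t).toMonoidHom (MulAut.conj t).injective (m : G ⧸ N)
    have h2 : Subgroup.zpowers m₁ = Subgroup.zpowers m := hU _ _
      (by rw [Nat.card_zpowers, h1]) (by rw [Nat.card_zpowers, hm])
    have h3 : m₁ ∈ Subgroup.zpowers m := by
      rw [← h2]
      exact Subgroup.mem_zpowers m₁
    obtain ⟨i, hi⟩ := h3
    refine ⟨i, ?_⟩
    have := congrArg Subtype.val hi
    simpa using this
  have hconjz : ∀ t : G ⧸ N, ∃ i : ℤ, t * m * t⁻¹ = (m : G ⧸ N) ^ i := by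
    intro t
    obtain ⟨i, hi⟩ := hconj t
    exact ⟨i, hi.symm⟩
  haveI hMn : (Subgroup.zpowers (m : G ⧸ N)).Normal := by
    constructor
    rintro _ ⟨j, rfl⟩ t
    obtain ⟨i, hi⟩ := hconjz t
    refine ⟨i * j, ?_⟩
    change (m : G ⧸ N) ^ (i * j) = t * ((m : G ⧸ N) ^ j) * t⁻¹
    rw [← conj_zpow, zpow_mul, hi]
  have hCn : (Subgroup.centralizer (Subgroup.zpowers (m : G ⧸ N) : Set (G ⧸ N))).Normal :=
    inferInstance
  have hCπ : IsPi (fun p => ¬ π p) (Subgroup.centralizer (Subgroup.zpowers (m : G ⧸ N) : Set (G ⧸ N))) := by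
    intro p hp hd hpπ
    haveI : Fact p.Prime := ⟨hp⟩
    obtain ⟨c, hc⟩ := exists_prime_orderOf_dvd_card' p hd
    have hc' : orderOf (c : G ⧸ N) = p := by
      rw [Subgroup.orderOf_coe, hc]
    have hcomm : (m : G ⧸ N) * c = c * m :=
      Subgroup.mem_centralizer_iff.mp c.2 m (Subgroup.mem_zpowers _)
    have hc1 : PiElt π (c : G ⧸ N) := by
      intro q hq hqd
      rw [hc'] at hqd
      rw [(Nat.prime_dvd_prime_iff_eq hq hp).mp hqd]
      exact hpπ
    have hm1 : PiElt (fun p => ¬ π p) (m : G ⧸ N) := by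
      intro q hq hqd
      rw [hm'] at hqd
      rw [(Nat.prime_dvd_prime_iff_eq hq hr).mp hqd]
      exact hrπ
    rcases hST (c : G ⧸ N) m hcomm.symm hc1 hm1 with h1 | h1
    · rw [h1, orderOf_one] at hc'
      exact hp.ne_one hc'.symm
    · rw [h1, orderOf_one] at hm'
      exact hr.ne_one hm'.symm
  have hCKb := hKbmax _ hCn hCπ
  -- the quotient by `Kb` is abelian
  have hcommQ : ∀ a b : (G ⧸ N) ⧸ Kb, a * b = b * a := by
    intro a b
    obtain ⟨x, rfl⟩ := QuotientGroup.mk'_surjective Kb a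
    obtain ⟨y, rfl⟩ := QuotientGroup.mk'_surjective Kb b
    rw [← map_mul, ← map_mul]
    symm
    change ((y * x : G ⧸ N) : (G ⧸ N) ⧸ Kb) = ((x * y : G ⧸ N) : (G ⧸ N) ⧸ Kb)
    rw [QuotientGroup.eq]
    apply hCKb
    rw [Subgroup.mem_centralizer_iff]
    rintro _ ⟨j, rfl⟩
    obtain ⟨i₁, hi₁⟩ := hconjz x
    obtain ⟨i₂, hi₂⟩ := hconjz y
    have hx : ∀ j : ℤ, x * (m : G ⧸ N) ^ j * x⁻¹ = (m : G ⧸ N) ^ (i₁ * j) := by
      intro j
      rw [← conj_zpow, zpow_mul, hi₁]
    have hy : ∀ j : ℤ, y * (m : G ⧸ N) ^ j * y⁻¹ = (m : G ⧸ N) ^ (i₂ * j) := by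
      intro j
      rw [← conj_zpow, zpow_mul, hi₂]
    have h1 : (x * y) * (m : G ⧸ N) ^ j * (x * y)⁻¹ = (y * x) * (m : G ⧸ N) ^ j * (y * x)⁻¹ := by
      calc (x * y) * (m : G ⧸ N) ^ j * (x * y)⁻¹ = x * (y * (m : G ⧸ N) ^ j * y⁻¹) * x⁻¹ := by group
        _ = (m : G ⧸ N) ^ (i₁ * (i₂ * j)) := by rw [hy, hx]
        _ = (m : G ⧸ N) ^ (i₂ * (i₁ * j)) := by ring_nf
        _ = y * (x * (m : G ⧸ N) ^ j * x⁻¹) * y⁻¹ := by rw [hx, hy]
        _ = (y * x) * (m : G ⧸ N) ^ j * (y * x)⁻¹ := by group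
    change (m : G ⧸ N) ^ j * ((y * x)⁻¹ * (x * y)) = ((y * x)⁻¹ * (x * y)) * (m : G ⧸ N) ^ j
    calc (m : G ⧸ N) ^ j * ((y * x)⁻¹ * (x * y)) = (y * x)⁻¹ * ((y * x) * (m : G ⧸ N) ^ j * (y * x)⁻¹) * (x * y) := by group
      _ = (y * x)⁻¹ * ((x * y) * (m : G ⧸ N) ^ j * (x * y)⁻¹) * (x * y) := by rw [h1]
      _ = ((y * x)⁻¹ * (x * y)) * (m : G ⧸ N) ^ j := by group
  -- the index is a `π`-number
  have hi : ∀ p : ℕ, p.Prime → p ∣ Kb.index → π p := by
    intro p hp hd
    by_contra hpπ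
    haveI : Fact p.Prime := ⟨hp⟩
    rw [Subgroup.index_eq_card] at hd
    obtain ⟨g, hg⟩ := exists_prime_orderOf_dvd_card' p hd
    have hSn : (Subgroup.zpowers g).Normal := by
      constructor
      intro n _ t
      have : t * n * t⁻¹ = n := by rw [hcommQ t n, mul_inv_cancel_right]
      rwa [this]
    have hSπ : IsPi (fun p => ¬ π p) (Subgroup.zpowers g) := by
      intro q hq hqd
      rw [Nat.card_zpowers, hg] at hqd
      rw [(Nat.prime_dvd_prime_iff_eq hq hp).mp hqd]
      exact hpπ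
    have h1 := hKbmax _ (hSn.comap (QuotientGroup.mk' Kb)) (isPi_comap Kb _ hKbπ hSπ)
    obtain ⟨x, rfl⟩ := QuotientGroup.mk'_surjective Kb g
    have h2 : x ∈ Kb := h1 (Subgroup.mem_zpowers _)
    have h3 : QuotientGroup.mk' Kb x = 1 := (QuotientGroup.eq_one_iff x).mpr h2
    rw [h3, orderOf_one] at hg
    exact hp.ne_one hg.symm
  have hNnn : ∀ p : ℕ, p.Prime → p ∣ Nat.card N → ¬ ¬ π p :=
    fun p hp hd => not_not.mpr (hNπ p hp hd)
  by_cases htop : Kb = ⊤
  · left
    have hNtop : N ≠ ⊤ := by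
      intro h0
      have h1 := Subgroup.index_eq_one.mpr h0
      rw [Subgroup.index_eq_card] at h1
      exact (Finite.one_lt_card (α := G ⧸ N)).ne' h1
    obtain ⟨C, hC, -⟩ := frob_of_sep (X := G) (π := fun p => ¬ π p) hS.symm N hNnn
      (by
        intro p hp hd
        rw [Subgroup.index_eq_card] at hd
        apply hKbπ p hp
        rw [htop, Subgroup.card_top]
        exact hd) hN1 hNtop
    exact ⟨C, hC⟩
  · right
    refine ⟨N, L, hNn, hLn, ?_, ?_, ?_⟩
    · refine lt_of_le_of_ne hNL ?_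
      intro h0
      apply hKb1
      rw [← hLmap, ← h0, eq_bot_iff]
      rintro _ ⟨n, hn, rfl⟩
      exact (QuotientGroup.eq_one_iff n).mpr hn
    · refine frob_of_sep (X := L) (π := fun p => ¬ π p)
        (hS.symm.of_injective L.subtype L.subtype_injective) N' ?_ ?_ ?_ ?_
      · intro p hp hd
        rw [hN'card] at hd
        exact hNnn p hp hd
      · intro p hp hd
        rw [hN'index] at hd
        exact hKbπ p hp hd
      · intro h0
        apply hN1
        rw [← Subgroup.card_eq_one]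
        rw [← hN'card, h0, Subgroup.card_bot]
      · intro h0
        have h1 := Subgroup.index_eq_one.mpr h0
        rw [hN'index] at h1
        exact hKb1 (Subgroup.card_eq_one.mp h1)
    · rw [hLmap]
      exact frob_of_sep (X := G ⧸ N) hST Kb hKbπ hi hKb1 htop

/-- **Solvable groups with disconnected prime graph are Frobenius or 2-Frobenius.** -/
theorem main_disc (hsol : Group.IsSolvable G)
    (hdisc : (∃ A : Set ℕ, (∃ a ∈ A, a.Prime ∧ a ∣ Nat.card G) ∧ (∃ b ∉ A, b.Prime ∧ b ∣ Nat.card G) ∧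
      ∀ a ∈ A, ∀ b ∉ A, a.Prime → b.Prime → a ∣ Nat.card G → b ∣ Nat.card G → ¬ ∃ g : G, orderOf g = a * b)) :
    (∃ C : Subgroup G, IsFrobeniusComplement C) ∨
    (∃ (H K : Subgroup G) (_ : H.Normal), K.Normal ∧ H < K ∧
      (∃ C : Subgroup ↥K, IsFrobeniusComplement C ∧ frobeniusKernel C = (H.subgroupOf K : Set ↥K)) ∧
      (∃ C : Subgroup (G ⧸ H), IsFrobeniusComplement C ∧
        frobeniusKernel C = (K.map (QuotientGroup.mk' H) : Set (G ⧸ H)))) := by
  obtain ⟨A, ⟨a, haA, ha, had⟩, ⟨b, hbA, hb, hbd⟩, h⟩ := hdisc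
  have hS : Sep (fun p => p ∈ A) G := sep_of_disc A h
  haveI : Nontrivial G := by
    by_contra hnt
    rw [not_nontrivial_iff_subsingleton] at hnt
    rw [Nat.card_of_subsingleton (1 : G)] at had
    exact ha.one_lt.ne' (Nat.dvd_one.mp had)
  obtain ⟨r, R, hr, hRn, hR1, hRp⟩ := exists_normal_pGroup hsol
  have hRcard : ∀ p : ℕ, p.Prime → p ∣ Nat.card R → p = r := by
    intro p hp hd
    haveI : Fact r.Prime := ⟨hr⟩
    obtain ⟨k, hk⟩ := IsPGroup.iff_card.mp hRp
    rw [hk] at hd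
    exact (Nat.prime_dvd_prime_iff_eq hp hr).mp (hp.dvd_of_dvd_pow hd)
  by_cases hrA : r ∈ A
  · exact main_sep hsol hS R hRn (fun p hp hd => by rw [hRcard p hp hd]; exact hrA) hR1 b hb hbd hbA
  · exact main_sep hsol hS.symm R hRn (fun p hp hd => by rw [hRcard p hp hd]; exact hrA) hR1 a ha had
      (not_not.mpr haA)

end main

end Cfsg.Agent.Lib.Coprime.PrimeGraph2F
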